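import Groth.Agent.InfLift.SchemeLocal
import Groth.Agent.AlgSpLib.LocP

/-!
# Infinitesimal lifting properties of morphisms of algebraic spaces on charts
-/

universe u

open CategoryTheory CategoryTheory.Limits AlgebraicGeometry AlgSp Opposite
open Groth.Agent.AlgSpLib

set_option backward.isDefEq.respectTransparency false

namespace Groth.Agent.InfLift

variable {S : Scheme.{u}}

theorem etale_formallyEtale {F G : Sp S} {a : F ⟶ G} (ha : RepWith @Etale a) : IsFormallyEtaleMor a :=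
  hasUniqLift_of_repWith (P := @Etale) (fun _ _ _ h => h) ha

theorem unram_of_chart {X Y : Sp S} {f : X ⟶ Y} {U V : Over S} {a : (yon S).obj U ⟶ X}
    {b : (yon S).obj V ⟶ Y} {h : U ⟶ V} (ha : RepWith @Etale a) (has : RepWith @Surjective a)
    (hb : RepWith @Etale b) (comm : a ≫ f = (yon S).map h ≫ b) (hh : FormallyUnramified h.left) :
    IsFormallyUnramifiedMor f :=
  unram_of_cover_comp ha has (comm ▸ unram_comp ((yon_unram_iff h).2 hh) (etale_iff.1 (etale_formallyEtale hb)).2)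

theorem etale_of_chart {X Y : Sp S} {f : X ⟶ Y} {U V : Over S} {a : (yon S).obj U ⟶ X}
    {b : (yon S).obj V ⟶ Y} {h : U ⟶ V} (ha : RepWith @Etale a) (has : RepWith @Surjective a)
    (hb : RepWith @Etale b) (comm : a ≫ f = (yon S).map h ≫ b) (hh : MoreMor.IsFormallyEtaleHom h.left) :
    IsFormallyEtaleMor f := by
  obtain ⟨h1, h2⟩ := etale_iff.1 ((yon_etale_iff h).2 hh)
  obtain ⟨b1, b2⟩ := etale_iff.1 (etale_formallyEtale hb)
  exact etale_of_cover_comp ha has (comm ▸ etale_iff.2 ⟨smooth_comp h1 b1, unram_comp h2 b2⟩)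

theorem chart_unram {X Y : Sp S} {f : X ⟶ Y} (hf : IsFormallyUnramifiedMor f) {U V : Over S}
    {a : (yon S).obj U ⟶ X} {b : (yon S).obj V ⟶ Y} {h : U ⟶ V} (ha : RepWith @Etale a)
    (comm : a ≫ f = (yon S).map h ≫ b) : FormallyUnramified h.left :=
  (yon_unram_iff h).1 (unram_of_comp (comm ▸ unram_comp (etale_iff.1 (etale_formallyEtale ha)).2 hf))

theorem chart_smooth {X Y : Sp S} {f : X ⟶ Y} (hf : IsFormallySmoothMor f) {U V : Over S}
    {a : (yon S).obj U ⟶ X} {b : (yon S).obj V ⟶ Y} {h : U ⟶ V} (ha : RepWith @Etale a)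
    (hb : RepWith @Etale b) (comm : a ≫ f = (yon S).map h ≫ b) : MoreMor.IsFormallySmoothHom h.left :=
  (yon_smooth_iff h).1 (smooth_of_comp (etale_iff.1 (etale_formallyEtale hb)).2
    (comm ▸ smooth_comp (etale_iff.1 (etale_formallyEtale ha)).1 hf))

theorem chart_etale {X Y : Sp S} {f : X ⟶ Y} (hf : IsFormallyEtaleMor f) {U V : Over S}
    {a : (yon S).obj U ⟶ X} {b : (yon S).obj V ⟶ Y} {h : U ⟶ V} (ha : RepWith @Etale a)
    (hb : RepWith @Etale b) (comm : a ≫ f = (yon S).map h ≫ b) : MoreMor.IsFormallyEtaleHom h.left := by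
  refine (yon_etale_iff h).1 (etale_iff.2 ⟨(yon_smooth_iff h).2 (chart_smooth (etale_iff.1 hf).1 ha hb comm), ?_⟩)
  exact (yon_unram_iff h).2 (chart_unram (etale_iff.1 hf).2 ha comm)

theorem unram_iff {X Y : Sp S} (hX : IsAlgSpace X) (hY : IsAlgSpace Y) {f : X ⟶ Y} :
    IsFormallyUnramifiedMor f ↔ LocP @FormallyUnramified f := by
  refine ⟨fun hf U V a b h ha hb comm => chart_unram hf ha comm, fun hf => ?_⟩
  obtain ⟨V, b, hb, hbs⟩ := hY.atlas
  obtain ⟨U, a, h, ha, has, comm⟩ := exists_chart_lift hX hY f hb hbs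
  exact unram_of_chart ha has hb comm (hf a b h ha hb comm)

theorem formallyEtale_iff {X Y : Sp S} (hX : IsAlgSpace X) (hY : IsAlgSpace Y) {f : X ⟶ Y} :
    IsFormallyEtaleMor f ↔ LocP @MoreMor.IsFormallyEtaleHom f := by
  refine ⟨fun hf U V a b h ha hb comm => chart_etale hf ha hb comm, fun hf => ?_⟩
  obtain ⟨V, b, hb, hbs⟩ := hY.atlas
  obtain ⟨U, a, h, ha, has, comm⟩ := exists_chart_lift hX hY f hb hbs
  exact etale_of_chart ha has hb comm (hf a b h ha hb comm)

theorem formallyEtale_of_flat_unram {X Y : Sp S} (hX : IsAlgSpace X) (hY : IsAlgSpace Y) {f : X ⟶ Y}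
    (h1 : LocP (@LocallyOfFiniteType ⊓ @FormallyUnramified) f) (h2 : LocP @Flat f) : IsFormallyEtaleMor f :=
  (formallyEtale_iff hX hY).2 fun U V a b h ha hb comm => by
    have := (h1 a b h ha hb comm).1
    have := (h1 a b h ha hb comm).2
    have := h2 a b h ha hb comm
    exact isFormallyEtaleHom_of_flat_unramified h.left

theorem formallyEtale_of_isEtaleMor {X Y : Sp S} (hX : IsAlgSpace X) (hY : IsAlgSpace Y) {f : X ⟶ Y}
    (hf : IsEtaleMor f) : IsFormallyEtaleMor f :=
  (formallyEtale_iff hX hY).2 fun U V a b h ha hb comm =>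
    have : Etale h.left := (isEtaleMor_iff_locP hY).1 hf a b h ha hb comm
    isFormallyEtaleHom_of_etale h.left

theorem isEtaleMor_iff {X Y : Sp S} (hX : IsAlgSpace X) (hY : IsAlgSpace Y) {f : X ⟶ Y} :
    IsEtaleMor f ↔ LocP @LocallyOfFinitePresentation f ∧ IsFormallyEtaleMor f := by
  refine ⟨fun hf => ⟨fun U V a b h ha hb comm => ?_, formallyEtale_of_isEtaleMor hX hY hf⟩, fun hf => ?_⟩
  · have : Etale h.left := (isEtaleMor_iff_locP hY).1 hf a b h ha hb comm
    exact (inferInstance : LocallyOfFinitePresentation h.left)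
  · refine (isEtaleMor_iff_locP hY).2 fun U V a b h ha hb comm => ?_
    have : LocallyOfFinitePresentation h.left := hf.1 a b h ha hb comm
    exact etale_of_isFormallyEtaleHom h.left (chart_etale hf.2 ha hb comm)

theorem smooth_of_etale_charts {X Y U V : Sp S} (hV : IsAlgSpace V) (hY : IsAlgSpace Y) (hU : IsAlgSpace U)
    (hX : IsAlgSpace X) {f : X ⟶ Y} (hf : IsFormallySmoothMor f) {p : U ⟶ X} {q : V ⟶ Y}
    (hp : IsEtaleMor p) (hq : IsEtaleMor q) {ψ : U ⟶ V} (w : ψ ≫ q = p ≫ f) : IsFormallySmoothMor ψ :=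
  smooth_of_comp (etale_iff.1 (formallyEtale_of_isEtaleMor hV hY hq)).2
    (w ▸ smooth_comp (etale_iff.1 (formallyEtale_of_isEtaleMor hU hX hp)).1 hf)

end Groth.Agent.InfLift
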