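import Groth.Agent.InfLift.Torsor
import Groth.Agent.InfLift.Charts
import Groth.Agent.AlgSpLib.QCompact
import Groth.Agent.AlgSpLib.EtST
import Mathlib.RingTheory.Etale.Pi
import Mathlib.RingTheory.Smooth.Flat
import Mathlib.RingTheory.Flat.FaithfullyFlat.Algebra

/-!
# Smooth morphisms of algebraic spaces are formally smooth
-/

universe u

open CategoryTheory CategoryTheory.Limits AlgebraicGeometry Opposite TensorProduct

set_option backward.isDefEq.respectTransparency false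

namespace Groth.Agent.InfLift

open _root_.AlgSp Groth.Agent.AlgSpLib

section Section

variable {S : Scheme.{u}} {F G : Sp S} {f : F ⟶ G} (sq : InfSq f)
theorem mB_w {B B' : Type u} [CommRing B] [Algebra sq.A B] [CommRing B'] [Algebra sq.A B'] (φ : B →ₐ[sq.A] B') :
    Spec.map (CommRingCat.ofHom φ.toRingHom) ≫ Spec.map (CommRingCat.ofHom (algebraMap sq.A B)) =
      Spec.map (CommRingCat.ofHom (algebraMap sq.A B')) := by
    rw [← Spec.map_comp, ← CommRingCat.ofHom_comp, AlgHom.toRingHom_eq_coe, AlgHom.comp_algebraMap]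
/-- the map of thickened points of an algebra map -/
noncomputable def mB {B B' : Type u} [CommRing B] [Algebra sq.A B] [CommRing B'] [Algebra sq.A B'] (φ : B →ₐ[sq.A] B') :
    ptC sq B' ⟶ ptC sq B :=
  Over.homMk (Spec.map (CommRingCat.ofHom φ.toRingHom)) ((Category.assoc _ _ _).symm.trans (congrArg (· ≫ sq.str) (mB_w sq φ)))
theorem mB_gC {B B' : Type u} [CommRing B] [Algebra sq.A B] [CommRing B'] [Algebra sq.A B'] (φ : B →ₐ[sq.A] B') :
    mB sq φ ≫ gC sq B = gC sq B' :=
  Over.OverMorphism.ext (mB_w sq φ)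
theorem mB_comp {B B' B'' : Type u} [CommRing B] [Algebra sq.A B] [CommRing B'] [Algebra sq.A B'] [CommRing B'']
    [Algebra sq.A B''] (φ : B →ₐ[sq.A] B') (ψ : B' →ₐ[sq.A] B'') : mB sq ψ ≫ mB sq φ = mB sq (ψ.comp φ) :=
  Over.OverMorphism.ext ((Spec.map_comp _ _).symm.trans rfl)
variable {X' : Sp S} (s : X' ⟶ (yon S).obj sq.ptT') {R : Type u} [CommRing R] [Algebra sq.A R]
  (π : (yon S).obj (ptC sq R) ⟶ X') (hπs : π ≫ s = (yon S).map (gC sq R)) (hπ : RepWith @Etale π)
theorem mB_injective {B : Type u} [CommRing B] [Algebra sq.A B] {v w : R →ₐ[sq.A] B}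
    (h : mB sq v = mB sq w) : v = w :=
  AlgHom.coe_ringHom_injective (congrArg CommRingCat.Hom.hom (Spec.map_injective (congrArg (fun k => k.left) h)))

theorem exists_algHom {B : Type u} [CommRing B] [Algebra sq.A B] (m : ptC sq B ⟶ ptC sq R)
    (hm : m ≫ gC sq R = gC sq B) : ∃ v : R →ₐ[sq.A] B, mB sq v = m := by
  obtain ⟨φ, hφ⟩ : ∃ φ : CommRingCat.of R ⟶ CommRingCat.of B, Spec.map φ = m.left := ⟨_, Spec.map_preimage _⟩
  have hφA : (CommRingCat.ofHom (algebraMap sq.A R)) ≫ φ = CommRingCat.ofHom (algebraMap sq.A B) := by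
    apply Spec.map_injective
    rw [Spec.map_comp, hφ]
    exact congrArg (fun k => k.left) hm
  exact ⟨{ φ.hom with commutes' := fun r => congrArg (fun k => k.hom r) hφA }, Over.OverMorphism.ext hφ⟩

theorem spec_quot {B : Type u} [CommRing B] [Algebra sq.A B] (K : Ideal B) :
    Spec.map (CommRingCat.ofHom (Ideal.Quotient.mk K)) ≫ Spec.map (CommRingCat.ofHom (algebraMap sq.A B)) =
      Spec.map (CommRingCat.ofHom (algebraMap sq.A (B ⧸ K))) := by
  rw [← Spec.map_comp, ← CommRingCat.ofHom_comp, Ideal.Quotient.mk_comp_algebraMap]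

theorem quot_w {B : Type u} [CommRing B] [Algebra sq.A B] (K : Ideal B) :
    (𝟙 (Spec (CommRingCat.of (B ⧸ K)))) ≫ (Spec.map (CommRingCat.ofHom (algebraMap sq.A (B ⧸ K))) ≫ sq.str) =
      specQuot K ≫ Spec.map (CommRingCat.ofHom (algebraMap sq.A B)) ≫ sq.str := by
  rw [Category.id_comp, ← spec_quot, Category.assoc]

theorem quot_w' {B : Type u} [CommRing B] [Algebra sq.A B] (K : Ideal B) :
    (𝟙 (Spec (CommRingCat.of (B ⧸ K)))) ≫ (ptC sq (B ⧸ K)).hom =
      (Over.mk (specQuot K ≫ (ptC sq B).hom)).hom := quot_w sq K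

/-- the same point seen over a quotient algebra -/
noncomputable def quotPt {B : Type u} [CommRing B] [Algebra sq.A B] (K : Ideal B) :
    Over.mk (specQuot K ≫ (ptC sq B).hom) ⟶ ptC sq (B ⧸ K) :=
  Over.homMk (U := Over.mk (specQuot K ≫ (ptC sq B).hom)) (V := ptC sq (B ⧸ K))
    (𝟙 (Spec (CommRingCat.of (B ⧸ K)))) (quot_w' sq K)

theorem quotPt_left {B : Type u} [CommRing B] [Algebra sq.A B] (K : Ideal B) :
    (quotPt sq K).left = 𝟙 (Spec (CommRingCat.of (B ⧸ K))) := rfl

theorem isIso_quotPt {B : Type u} [CommRing B] [Algebra sq.A B] (K : Ideal B) : IsIso (quotPt sq K) := by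
  have : IsIso ((Over.forget S).map (quotPt sq K)) := by
    rw [Over.forget_map, quotPt_left]
    exact IsIso.id _
  exact isIso_of_reflects_iso (quotPt sq K) (Over.forget S)

/-- the closed immersion seen from the quotient -/
noncomputable def jK {B : Type u} [CommRing B] [Algebra sq.A B] (K : Ideal B) :
    Over.mk (specQuot K ≫ (ptC sq B).hom) ⟶ ptC sq B :=
  Over.homMk (U := Over.mk (specQuot K ≫ (ptC sq B).hom)) (V := ptC sq B) (specQuot K) rfl

theorem quotPt_mk {B : Type u} [CommRing B] [Algebra sq.A B] (K : Ideal B) :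
    quotPt sq K ≫ mB sq (Ideal.Quotient.mkₐ sq.A K) = jK sq K := by
  apply Over.OverMorphism.ext
  rw [Over.comp_left, quotPt_left]
  exact Category.id_comp (specQuot K)

include hπ hπs in
theorem chart_lift {B B' : Type u} [CommRing B] [Algebra sq.A B] [CommRing B'] [Algebra sq.A B'] (p : B →ₐ[sq.A] B')
    (hp : Function.Surjective p) (hzero : ∀ x y, p x = 0 → p y = 0 → x * y = 0)
    (g : (yon S).obj (ptC sq B) ⟶ X') (hgs : g ≫ s = (yon S).map (gC sq B)) (u : R →ₐ[sq.A] B')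
    (hg : (yon S).map (mB sq p) ≫ g = (yon S).map (mB sq u) ≫ π) :
    ∃! v : R →ₐ[sq.A] B, p.comp v = u ∧ (yon S).map (mB sq v) ≫ π = g := by
  let K := RingHom.ker p.toRingHom
  have hK : K ^ 2 = ⊥ := by
    rw [pow_two, eq_bot_iff, Ideal.mul_le]
    exact fun x hx y hy => (Submodule.mem_bot _).2 (hzero x y hx hy)
  let ε : (B ⧸ K) ≃ₐ[sq.A] B' := Ideal.quotientKerAlgEquivOfSurjective hp
  have hεK : ε.toAlgHom.comp (Ideal.Quotient.mkₐ sq.A K) = p :=
    AlgHom.ext fun x => Ideal.quotientKerAlgEquivOfSurjective_apply hp x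
  have hεK' : ε.symm.toAlgHom.comp p = Ideal.Quotient.mkₐ sq.A K := AlgHom.ext fun x => by
    rw [← hεK]
    exact ε.symm_apply_apply _
  have comm : (yon S).map (quotPt sq K ≫ mB sq ε.symm.toAlgHom ≫ mB sq u) ≫ π = (yon S).map (jK sq K) ≫ g := by
    rw [← quotPt_mk, ← hεK', ← mB_comp, Functor.map_comp, Functor.map_comp, Functor.map_comp, Functor.map_comp,
      Category.assoc, Category.assoc, Category.assoc, Category.assoc, hg]
  let sq' : InfSq π :=
    { A := B, I := K, sq_zero := hK, str := (ptC sq B).hom,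
      top := (yon S).map (quotPt sq K ≫ mB sq ε.symm.toAlgHom ≫ mB sq u), bot := g, comm := comm }
  obtain ⟨l, ⟨hl₁, hl₂⟩, huniq⟩ := etale_formallyEtale hπ sq'
  obtain ⟨m, rfl⟩ := exists_map_eq l
  have hm : m ≫ gC sq R = gC sq B := (yon S).map_injective (by
    rw [Functor.map_comp, ← hπs, ← Category.assoc]
    exact (congrArg (· ≫ s) hl₂).trans hgs)
  obtain ⟨v, rfl⟩ := exists_algHom sq m hm
  have hiff : ∀ w : R →ₐ[sq.A] B, p.comp w = u ↔
      (yon S).map (jK sq K) ≫ (yon S).map (mB sq w) =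
        (yon S).map (quotPt sq K ≫ mB sq ε.symm.toAlgHom ≫ mB sq u) := by
    intro w
    rw [← Functor.map_comp, ← quotPt_mk, Category.assoc, mB_comp, mB_comp]
    constructor
    · rintro rfl
      rw [← AlgHom.comp_assoc, hεK']
    · intro e
      have := isIso_quotPt sq K
      have e2 := mB_injective sq ((cancel_epi (quotPt sq K)).1 ((yon S).map_injective e))
      rw [← hεK, AlgHom.comp_assoc, e2]
      exact AlgHom.ext fun r => ε.apply_symm_apply _
  refine ⟨v, ⟨(hiff v).2 hl₁, hl₂⟩, fun w ⟨hw₁, hw₂⟩ => mB_injective sq ((yon S).map_injective ?_)⟩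
  exact huniq ((yon S).map (mB sq w)) ⟨(hiff w).1 hw₁, hw₂⟩

/-- points over the base with the chart `π` -/
noncomputable def spaceChart : ChartFun.{u + 1} sq.A R where
  Pt B _ _ := {g : (yon S).obj (ptC sq B) ⟶ X' // g ≫ s = (yon S).map (gC sq B)}
  map φ g := ⟨(yon S).map (mB sq φ) ≫ g.1, by rw [Category.assoc, g.2, ← Functor.map_comp, mB_gC]⟩
  e v := ⟨(yon S).map (mB sq v) ≫ π, by rw [Category.assoc, hπs, ← Functor.map_comp, mB_gC]⟩
  map_map φ ψ g := Subtype.ext (by
    show (yon S).map (mB sq ψ) ≫ (yon S).map (mB sq φ) ≫ g.1 = _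
    rw [← Functor.map_comp_assoc, mB_comp])
  map_e φ u := Subtype.ext (by
    show (yon S).map (mB sq φ) ≫ (yon S).map (mB sq u) ≫ π = _
    rw [← Functor.map_comp_assoc, mB_comp])
  lift p hp hzero g u h := by
    obtain ⟨v, ⟨h1, h2⟩, h3⟩ := chart_lift sq s π hπs hπ p hp hzero g.1 g.2 u (congrArg Subtype.val h)
    exact ⟨v, ⟨h1, Subtype.ext h2⟩, fun w hw => h3 w ⟨hw.1, congrArg Subtype.val hw.2⟩⟩

/-- the identification of the closed part of the square -/
noncomputable def dT : ptC sq (sq.A ⧸ sq.I) ⟶ sq.ptT :=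
  Over.homMk (U := ptC sq (sq.A ⧸ sq.I)) (V := sq.ptT) (𝟙 (Spec (CommRingCat.of (sq.A ⧸ sq.I))))
    (Category.id_comp _)

theorem dT_left : (dT sq).left = 𝟙 (Spec (CommRingCat.of (sq.A ⧸ sq.I))) := rfl

theorem dT_j : dT sq ≫ sq.j = gC sq (sq.A ⧸ sq.I) := by
  apply Over.OverMorphism.ext
  rw [Over.comp_left, dT_left]
  exact Category.id_comp (specQuot sq.I)

/-- reduction of the structure map -/
noncomputable def iotaQ (B : Type u) [CommRing B] [Algebra sq.A B] :
    (sq.A ⧸ sq.I) →ₐ[sq.A] B ⧸ sq.I.map (algebraMap sq.A B) :=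
  Ideal.quotientMapₐ _ (Algebra.ofId sq.A B) Ideal.le_comap_map

theorem jK_eq (B : Type u) [CommRing B] [Algebra sq.A B] : jK sq (sq.I.map (algebraMap sq.A B)) = jC sq B := rfl

theorem quotPt_gC₀ (B : Type u) [CommRing B] [Algebra sq.A B] :
    quotPt sq (sq.I.map (algebraMap sq.A B)) ≫ mB sq (iotaQ sq B) ≫ dT sq = gC₀ sq B := by
  apply Over.OverMorphism.ext
  rw [Over.comp_left, Over.comp_left, quotPt_left, dT_left]
  refine (Category.id_comp _).trans ((Category.comp_id _).trans ?_)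
  exact congrArg Spec.map (CommRingCat.hom_ext (Ideal.Quotient.ringHom_ext (RingHom.ext fun x => rfl)))

theorem quotPt_jC (B : Type u) [CommRing B] [Algebra sq.A B] :
    quotPt sq (sq.I.map (algebraMap sq.A B)) ≫ mB sq (redHom sq.I B) = jC sq B :=
  (quotPt_mk sq _).trans (jK_eq sq B)

section Pi

variable {κ : Type u} [Finite κ] (C : κ → Type u) [∀ j, CommRing (C j)] [∀ j, Algebra sq.A (C j)]

/-- the projections of the product, reduced, cover -/
theorem hom_ext_pi {X : Sp S}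
    (a b : (yon S).obj (ptC sq ((∀ j, C j) ⧸ sq.I.map (algebraMap sq.A (∀ j, C j)))) ⟶ X)
    (h : ∀ j, (yon S).map (mB sq (redMap sq.I (Pi.evalAlgHom sq.A C j))) ≫ a =
      (yon S).map (mB sq (redMap sq.I (Pi.evalAlgHom sq.A C j))) ≫ b) : a = b := by
  let η (j : κ) := Spec.map (CommRingCat.ofHom (redMap sq.I (Pi.evalAlgHom sq.A C j)).toRingHom)
  let ev (j : κ) := Spec.map (CommRingCat.ofHom (Pi.evalRingHom C j))
  have hopen : ∀ j, IsOpenImmersion (ev j) := fun j => inferInstance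
  have sqη : ∀ j, IsPullback (specQuot (sq.I.map (algebraMap sq.A (C j)))) (η j) (ev j)
      (specQuot (sq.I.map (algebraMap sq.A (∀ j, C j)))) := by
    intro j
    let := (Pi.evalRingHom C j).toAlgebra
    have hJ : (sq.I.map (algebraMap sq.A (∀ j, C j))).map (algebraMap (∀ j, C j) (C j)) =
        sq.I.map (algebraMap sq.A (C j)) := by
      rw [Ideal.map_map]
      rfl
    have hsq := isPullback_specQuot (C := C j) (sq.I.map (algebraMap sq.A (∀ j, C j)))
    let e := Scheme.Spec.mapIso (Ideal.quotEquivOfEq hJ).toCommRingCatIso.op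
    refine hsq.of_iso e.symm (Iso.refl _) (Iso.refl _) (Iso.refl _) ?_ ?_ ?_ ?_
    · simp only [e, Iso.symm_hom, Functor.mapIso_inv, Iso.op_inv, Scheme.Spec_map, Quiver.Hom.unop_op, Iso.refl_hom,
        Category.comp_id, ← Spec.map_comp]
      exact congrArg Spec.map (CommRingCat.hom_ext (RingHom.ext fun x => rfl))
    · simp only [e, η, Iso.symm_hom, Functor.mapIso_inv, Iso.op_inv, Scheme.Spec_map, Quiver.Hom.unop_op, Iso.refl_hom,
        Category.comp_id, ← Spec.map_comp]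
      exact congrArg Spec.map (CommRingCat.hom_ext (Ideal.Quotient.ringHom_ext (RingHom.ext fun x => rfl)))
    · exact (Category.comp_id _).trans (Category.id_comp _).symm
    · exact (Category.comp_id _).trans (Category.id_comp _).symm
  have hoη : ∀ j, IsOpenImmersion (η j) := fun j => MorphismProperty.of_isPullback (sqη j) (hopen j)
  refine hom_ext_cover (R := Presieve.ofArrows _ η) (Scheme.zariskiPrecoverage_le_fppfPrecoverage _ ?_) ?_
  · rw [Scheme.ofArrows_mem_precoverage_iff]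
    refine ⟨fun p => ?_, hoη⟩
    let e := sigmaSpec (fun j => CommRingCat.of (C j))
    obtain ⟨q, hq⟩ : ∃ q, e q = specQuot (sq.I.map (algebraMap sq.A (∀ j, C j))) p :=
      ⟨_, e.homeomorph.apply_symm_apply _⟩
    obtain ⟨j, q, rfl⟩ : ∃ j z, Sigma.ι (fun j => Spec (CommRingCat.of (C j))) j z = q :=
      ⟨_, (sigmaOpenCover _).covers q⟩
    have hq' : ev j q = specQuot (sq.I.map (algebraMap sq.A (∀ j, C j))) p := by
      rw [← hq, ← Scheme.Hom.comp_apply, ι_sigmaSpec]
    obtain ⟨z, -, hz⟩ := Scheme.exists_preimage_of_isPullback (sqη j) q p hq'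
    exact ⟨j, z, hz⟩
  rintro _ _ ⟨j⟩
  let P := ptC sq ((∀ j, C j) ⧸ sq.I.map (algebraMap sq.A (∀ j, C j)))
  let ζ : Over.mk (η j ≫ P.hom) ⟶ ptC sq (C j ⧸ sq.I.map (algebraMap sq.A (C j))) :=
    Over.homMk (U := Over.mk (η j ≫ P.hom)) (𝟙 (Spec (CommRingCat.of (C j ⧸ sq.I.map (algebraMap sq.A (C j))))))
      ((Category.id_comp _).trans (Over.w (mB sq (redMap sq.I (Pi.evalAlgHom sq.A C j)))).symm)
  have hζ : (Over.homMk (η j) rfl : Over.mk (η j ≫ P.hom) ⟶ P) = ζ ≫ mB sq (redMap sq.I (Pi.evalAlgHom sq.A C j)) :=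
    Over.OverMorphism.ext (Category.id_comp (η j)).symm
  show (yon S).map (Over.homMk (η j) rfl : Over.mk (η j ≫ P.hom) ⟶ P) ≫ a = _ ≫ b
  rw [hζ, Functor.map_comp, Category.assoc, Category.assoc, h j]

end Pi

/-- an affine scheme over the base as a thickened point -/
theorem exists_ring (U : Over S) [IsAffine U.left] (h : U ⟶ sq.ptT') [Smooth h.left] :
    ∃ (R : Type u) (_ : CommRing R) (_ : Algebra sq.A R) (c : ptC sq R ⟶ U), IsIso c ∧
      c ≫ h = gC sq R ∧ Algebra.Smooth sq.A R := by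
  obtain ⟨φ, hφ⟩ : ∃ φ : CommRingCat.of sq.A ⟶ CommRingCat.of Γ(U.left, ⊤),
      Spec.map φ = U.left.isoSpec.inv ≫ h.left := ⟨Spec.preimage _, Spec.map_preimage _⟩
  have hc : Smooth (Spec.map φ) := by rw [hφ]; infer_instance
  have hsm : φ.hom.Smooth := (HasRingHomProperty.Spec_iff (P := @Smooth)).1 hc
  let : Algebra sq.A Γ(U.left, ⊤) := φ.hom.toAlgebra
  have ho : CommRingCat.ofHom (algebraMap sq.A Γ(U.left, ⊤)) = φ := rfl
  have w : U.left.isoSpec.inv ≫ U.hom =
      Spec.map (CommRingCat.ofHom (algebraMap sq.A Γ(U.left, ⊤))) ≫ sq.str := by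
    rw [ho, hφ, Category.assoc]
    exact congrArg (U.left.isoSpec.inv ≫ ·) (Over.w h).symm
  let c : ptC sq Γ(U.left, ⊤) ⟶ U := Over.homMk (U := ptC sq Γ(U.left, ⊤)) U.left.isoSpec.inv w
  have hcl : c.left = U.left.isoSpec.inv := rfl
  have : IsIso ((Over.forget S).map c) := by
    rw [Over.forget_map, hcl]
    exact Iso.isIso_inv _
  refine ⟨Γ(U.left, ⊤), inferInstance, inferInstance, c, isIso_of_reflects_iso c (Over.forget S),
    Over.OverMorphism.ext ?_, RingHom.smooth_algebraMap.1 hsm⟩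
  rw [Over.comp_left, hcl, ← hφ]
  exact congrArg Spec.map ho.symm

/-- an affine smooth chart through which the section passes -/
theorem exists_chart_section (hX' : IsAlgSpace X') (hs : LocP @Smooth s) (σ : (yon S).obj sq.ptT ⟶ X') :
    ∃ (R : Type u) (_ : CommRing R) (_ : Algebra sq.A R) (π : (yon S).obj (ptC sq R) ⟶ X'),
      Algebra.Smooth sq.A R ∧ RepWith @Etale π ∧ π ≫ s = (yon S).map (gC sq R) ∧
        ∀ x : sq.ptT.left, ∃ r, Points.ofPt π r = Points.ofPt σ x := by
  obtain ⟨U₀, π₀, ι₀, Z, he₀, hs₀, hZ, -, hcov⟩ := exists_affine_chart_family hX'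
  have : CompactSpace sq.ptT.left := inferInstanceAs (CompactSpace (Spec (CommRingCat.of (sq.A ⧸ sq.I))))
  obtain ⟨t, ht⟩ := isCompact_univ.elim_finite_subcover
    (fun i => Points.ofPt σ ⁻¹' (Points.ofPt π₀ '' (Z i : Set U₀.left)))
    (fun i => ((isOpenMap_ofPt (repWith_universallyOpen_of_etale he₀)) _ (Z i).2).preimage (Points.continuous_ofPt σ))
    (fun x _ => by
      obtain ⟨u, hu⟩ := ofPt_surjective hs₀ (Points.ofPt σ x)
      obtain ⟨i, hi⟩ := hcov u
      exact Set.mem_iUnion.mpr ⟨i, u, hi, hu⟩)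
  let U : Over S := Over.mk (Sigma.desc (fun j : t => (Z j.1).ι) ≫ U₀.hom)
  let c₀ : U ⟶ U₀ := Over.homMk (Sigma.desc (fun j : t => (Z j.1).ι)) rfl
  have : ∀ j : t, IsAffine (Z j.1).toScheme := fun j => hZ j.1
  have : IsAffine U.left := inferInstanceAs (IsAffine (∐ fun j : t => (Z j.1).toScheme))
  have : Etale c₀.left := (IsZariskiLocalAtSource.iff_of_openCover (P := @Etale) (sigmaOpenCover _)).2 fun j => by
    change Etale (Sigma.ι _ j ≫ Sigma.desc _)
    rw [Sigma.ι_desc]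
    infer_instance
  let π₁ := (yon S).map c₀ ≫ π₀
  have he₁ : RepWith @Etale π₁ := repWith_comp ((repWith_yon_iff c₀).2 ‹_›) he₀
  obtain ⟨h₁, hh₁⟩ := exists_map_eq (π₁ ≫ s)
  have : Smooth h₁.left := hs π₁ (𝟙 _) h₁ he₁ repWith_id' (by rw [Category.comp_id, hh₁])
  obtain ⟨R, _, _, c, hc, hch, hR⟩ := exists_ring sq U h₁
  refine ⟨R, inferInstance, inferInstance, (yon S).map c ≫ π₁, hR, (repWith_iso_comp_iff _ _).2 he₁,
    by rw [Category.assoc, ← hh₁, ← Functor.map_comp, hch], fun x => ?_⟩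
  obtain ⟨i, hi⟩ := Set.mem_iUnion.mp (ht (Set.mem_univ x))
  obtain ⟨hit, u, hu, he⟩ := Set.mem_iUnion.mp hi
  let z : U.left := Sigma.ι (fun j : t => (Z j.1).toScheme) ⟨i, hit⟩ ⟨u, hu⟩
  refine ⟨(inv c).left z, ?_⟩
  have hz : c.left ((inv c).left z) = z := by
    rw [← Scheme.Hom.comp_apply, ← Over.comp_left, IsIso.inv_hom_id]
    rfl
  have hz' : c₀.left z = u := by
    show Sigma.desc (fun j : t => (Z j.1).ι) (Sigma.ι (fun j : t => (Z j.1).toScheme) ⟨i, hit⟩ ⟨u, hu⟩) = u
    rw [← Scheme.Hom.comp_apply, Sigma.ι_desc]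
    rfl
  rw [← he, ofPt_comp, hz, ofPt_comp, hz']

/-- etale local lifts of the section into a chart, on finitely many algebras -/
theorem exists_local_charts [Algebra.FormallySmooth sq.A R] (hπ : RepWith @Etale π)
    (hπs : π ≫ s = (yon S).map (gC sq R)) (σ : (yon S).obj sq.ptT ⟶ X') (hσs : σ ≫ s = (yon S).map sq.j)
    (hsec : ∀ x : sq.ptT.left, ∃ r, Points.ofPt π r = Points.ofPt σ x) :
    ∃ (κ : Type u) (_ : Finite κ) (C : κ → Type u) (_ : ∀ j, CommRing (C j)) (_ : ∀ j, Algebra sq.A (C j))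
      (v : ∀ j, R →ₐ[sq.A] C j), (∀ j, Algebra.Etale sq.A (C j)) ∧
      (∀ x : PrimeSpectrum sq.A, ∃ j, x ∈ Set.range (PrimeSpectrum.comap (algebraMap sq.A (C j)))) ∧
      ∀ j, (yon S).map (mB sq ((redHom sq.I (C j)).comp (v j))) ≫ π =
        (yon S).map (mB sq (iotaQ sq (C j))) ≫ (yon S).map (dT sq) ≫ σ := by
  obtain ⟨W, wR, wT, sqW, hwT⟩ := exists_repWith hπ σ
  have : Etale wT.left := hwT
  have := surjective_specQuot sq.I sq.sq_zero
  have hloc : ∀ x : PrimeSpectrum sq.A, ∃ (C : Type u) (_ : CommRing C) (_ : Algebra sq.A C),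
      Algebra.Etale sq.A C ∧ x ∈ Set.range (PrimeSpectrum.comap (algebraMap sq.A C)) ∧
        ∃ v : R →ₐ[sq.A] C, (yon S).map (mB sq ((redHom sq.I C).comp v)) ≫ π =
          (yon S).map (mB sq (iotaQ sq C)) ≫ (yon S).map (dT sq) ≫ σ := by
    intro x
    obtain ⟨x₀, hx₀⟩ := (specQuot sq.I).surjective x
    obtain ⟨r, hr⟩ := hsec x₀
    obtain ⟨w₀, -, hw₀⟩ := exists_point_of_isPullback sqW (Points.ofScheme _ r) (Points.ofScheme sq.ptT x₀)
      (by rw [← Points.ofPt_eq_map_ofScheme, ← Points.ofPt_eq_map_ofScheme]; exact hr)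
    obtain ⟨w₀, rfl⟩ := (Points.schemeEquiv W).surjective w₀
    have hwx : wT.left w₀ = x₀ := (Points.schemeEquiv sq.ptT).injective (by
      show Points.ofScheme _ (wT.left w₀) = _
      rw [← ofScheme_map, Points.ofPt_eq_map_ofScheme]
      exact hw₀)
    obtain ⟨C, _, _, hC, w, hw, y, hy⟩ := exists_etale_ext sq.I wT.left w₀
    have hwW : w ≫ W.hom = (ptC₀ sq C).hom := by
      rw [← Over.w wT, ← Category.assoc, hw]
      exact Over.w (gC₀ sq C)
    let w' : ptC₀ sq C ⟶ W := Over.homMk (U := ptC₀ sq C) w hwW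
    have hw' : w' ≫ wT = gC₀ sq C := Over.OverMorphism.ext hw
    have := isIso_quotPt sq (sq.I.map (algebraMap sq.A C))
    obtain ⟨m, hm⟩ := exists_map_eq ((yon S).map (inv (quotPt sq (sq.I.map (algebraMap sq.A C)))) ≫
      (yon S).map w' ≫ wR)
    have hmπ : (yon S).map m ≫ π = (yon S).map (mB sq (iotaQ sq C)) ≫ (yon S).map (dT sq) ≫ σ := by
      rw [hm, Category.assoc, Category.assoc, sqW.w, ← Functor.map_comp_assoc (yon S) w', hw', ← quotPt_gC₀,
        Functor.map_comp, Functor.map_comp, Category.assoc, Category.assoc, Functor.map_inv,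
        IsIso.inv_hom_id_assoc]
    have hm' : m ≫ gC sq R = gC sq _ := (yon S).map_injective (by
      rw [Functor.map_comp, ← hπs, ← Category.assoc, hmπ, Category.assoc, Category.assoc, hσs, ← Functor.map_comp,
        dT_j, ← Functor.map_comp, mB_gC])
    obtain ⟨v₀, rfl⟩ := exists_algHom sq m hm'
    obtain ⟨v, hv⟩ := Algebra.FormallySmooth.exists_lift _ ⟨2, sq_zero_map sq C⟩ v₀
    refine ⟨C, inferInstance, inferInstance, hC, ⟨specQuot (sq.I.map (algebraMap sq.A C)) y, ?_⟩, v, by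
      rw [show (redHom sq.I C).comp v = v₀ from hv]; exact hmπ⟩
    refine (congrArg (fun k => k y) (isPullback_specQuot (C := C) sq.I).w).trans ?_
    rw [← hx₀, ← hwx, ← hy]
    exact congrArg (specQuot sq.I) (congrArg (fun k => k y) hw).symm
  choose C i₁ i₂ hCe hCx vC hvC using hloc
  obtain ⟨t, ht⟩ := isCompact_univ.elim_finite_subcover (fun x => Set.range (PrimeSpectrum.comap (algebraMap sq.A (C x))))
    (fun x => by
      have : Etale (Spec.map (CommRingCat.ofHom (algebraMap sq.A (C x)))) := by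
        rw [HasRingHomProperty.Spec_iff (P := @Etale)]
        exact RingHom.etale_algebraMap.2 (hCe x)
      exact (Spec.map (CommRingCat.ofHom (algebraMap sq.A (C x)))).isOpenMap.isOpen_range)
    (fun x _ => Set.mem_iUnion.2 ⟨x, hCx x⟩)
  refine ⟨t, inferInstance, fun j => C j.1, fun j => i₁ j.1, fun j => i₂ j.1, fun j => vC j.1, fun j => hCe j.1,
    fun x => ?_, fun j => hvC j.1⟩
  obtain ⟨z, hz⟩ := Set.mem_iUnion.mp (ht (Set.mem_univ x))
  obtain ⟨hzt, hz⟩ := Set.mem_iUnion.mp hz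
  exact ⟨⟨z, hzt⟩, hz⟩

theorem map_mem_of_pullback {C : Type u} [CommRing C] [Algebra sq.A C] {W : Over S} (p q : W ⟶ ptC sq C)
    (e : p ≫ gC sq C = q ≫ gC sq C) :
    ∃ r : W ⟶ ptC sq (C ⊗[sq.A] C), r ≫ mB sq (Algebra.TensorProduct.includeLeft : C →ₐ[sq.A] C ⊗[sq.A] C) = p ∧
      r ≫ mB sq (Algebra.TensorProduct.includeRight : C →ₐ[sq.A] C ⊗[sq.A] C) = q := by
  have hpo := isPullback_SpecMap_of_isPushout _ _ _ _ (CommRingCat.isPushout_tensorProduct sq.A C C)
  obtain ⟨r, hr₁, hr₂⟩ := hpo.exists_lift p.left q.left (congrArg (fun k => k.left) e)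
  have w : r ≫ (ptC sq (C ⊗[sq.A] C)).hom = W.hom := by
    rw [← Over.w p, ← hr₁, Category.assoc]
    exact congrArg (r ≫ ·) (Over.w (mB sq (Algebra.TensorProduct.includeLeft : C →ₐ[sq.A] C ⊗[sq.A] C))).symm
  exact ⟨Over.homMk (V := ptC sq (C ⊗[sq.A] C)) r w, Over.OverMorphism.ext hr₁, Over.OverMorphism.ext hr₂⟩

include hπ hπs in
/-- the section extends over the thickening -/
theorem exists_section [Algebra.Smooth sq.A R] (σ : (yon S).obj sq.ptT ⟶ X')
    (hσs : σ ≫ s = (yon S).map sq.j) (hsec : ∀ x : sq.ptT.left, ∃ r, Points.ofPt π r = Points.ofPt σ x) :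
    ∃ β : (yon S).obj sq.ptT' ⟶ X', β ≫ s = 𝟙 _ ∧ (yon S).map sq.j ≫ β = σ := by
  obtain ⟨κ, _, C, _, _, vC, hCe, hcov, hvC⟩ := exists_local_charts sq s π hπ hπs σ hσs hsec
  let C' := ∀ j, C j
  have hC' : Algebra.Etale sq.A C' := inferInstance
  have hflat : Module.Flat sq.A C' := Algebra.Smooth.flat sq.A C'
  have hff : Module.FaithfullyFlat sq.A C' := Module.FaithfullyFlat.of_comap_surjective fun x => by
    obtain ⟨j, z, rfl⟩ := hcov x
    exact ⟨PrimeSpectrum.comap (Pi.evalRingHom C j) z, rfl⟩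
  let Fc := spaceChart sq s π hπs hπ
  let ũ : R →ₐ[sq.A] C' := AlgHom.pi vC
  have hσ' : ((yon S).map (dT sq) ≫ σ) ≫ s = (yon S).map (gC sq (sq.A ⧸ sq.I)) := by
    rw [Category.assoc, hσs, ← Functor.map_comp, dT_j]
  let σ' : Fc.Pt (sq.A ⧸ sq.I) := ⟨(yon S).map (dT sq) ≫ σ, hσ'⟩
  -- the product chart restricts to the section
  have hσ₀ : Fc.e ((redHom sq.I C').comp ũ) = Fc.map (iotaQ sq C') σ' := by
    refine Subtype.ext (hom_ext_pi sq C _ _ fun j => ?_)
    have e₁ : (redMap sq.I (Pi.evalAlgHom sq.A C j)).comp ((redHom sq.I C').comp ũ) =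
        (redHom sq.I (C j)).comp (vC j) := by
      rw [← AlgHom.comp_assoc, redMap_comp, AlgHom.comp_assoc]
      rfl
    have e₂ : (redMap sq.I (Pi.evalAlgHom sq.A C j)).comp (iotaQ sq C') = iotaQ sq (C j) :=
      Ideal.Quotient.algHom_ext sq.A (Subsingleton.elim _ _)
    show (yon S).map (mB sq (redMap sq.I (Pi.evalAlgHom sq.A C j))) ≫
        (yon S).map (mB sq ((redHom sq.I C').comp ũ)) ≫ π =
      (yon S).map (mB sq (redMap sq.I (Pi.evalAlgHom sq.A C j))) ≫
        (yon S).map (mB sq (iotaQ sq C')) ≫ (yon S).map (dT sq) ≫ σ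
    rw [← Functor.map_comp_assoc, ← Functor.map_comp_assoc, mB_comp, mB_comp, e₁, e₂]
    exact hvC j
  obtain ⟨v, hv₁, hv₂⟩ := exists_descent_lift Fc sq.sq_zero σ' ũ (iotaQ sq C') hσ₀
  have hets : Etale (gC sq C').left := by
    change Etale (Spec.map _)
    rw [HasRingHomProperty.Spec_iff (P := @Etale)]
    exact RingHom.etale_algebraMap.2 hC'
  have hsurj : Surjective (gC sq C').left :=
    ⟨fun x => PrimeSpectrum.comap_surjective_of_faithfullyFlat (A := sq.A) (B := C') x⟩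
  obtain ⟨β, hβ⟩ := exists_desc (gC sq C') ((yon S).map (mB sq v) ≫ π) (fun W p q e => by
    obtain ⟨r, rfl, rfl⟩ := map_mem_of_pullback sq p q e
    rw [Functor.map_comp, Functor.map_comp, Category.assoc, Category.assoc]
    exact congrArg ((yon S).map r ≫ ·) (congrArg Subtype.val hv₂))
  have := epi_yon_map (gC sq C')
  refine ⟨β, (cancel_epi ((yon S).map (gC sq C'))).1 (by
    rw [reassoc_of% hβ, hπs, ← Functor.map_comp, mB_gC, Category.comp_id]), ?_⟩
  have sqj := isPullback_yon_iff.1 (isPullback_jC sq C')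
  have : Flat (gC₀ sq C').left := MorphismProperty.of_isPullback sqj (inferInstanceAs (Flat (gC sq C').left))
  have : Surjective (gC₀ sq C').left := MorphismProperty.of_isPullback sqj hsurj
  have : LocallyOfFinitePresentation (gC₀ sq C').left := MorphismProperty.of_isPullback sqj
    (inferInstanceAs (LocallyOfFinitePresentation (gC sq C').left))
  have := epi_yon_map (gC₀ sq C')
  refine (cancel_epi ((yon S).map (gC₀ sq C'))).1 ?_
  rw [← Category.assoc, ← (isPullback_jC sq C').w, Category.assoc, hβ, ← quotPt_jC, ← quotPt_gC₀]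
  simp only [Functor.map_comp, Category.assoc]
  rw [← Functor.map_comp_assoc (yon S) (mB sq (redHom sq.I C')), mB_comp, hv₁]
  exact congrArg ((yon S).map (quotPt sq _) ≫ ·) (congrArg Subtype.val hσ₀)

end Section

/-- smooth morphisms of algebraic spaces are formally smooth -/
theorem isFormallySmoothMor_of_smooth {S : Scheme.{u}} {X Y : Sp S} (hX : IsAlgSpace X) (hY : IsAlgSpace Y)
    {f : X ⟶ Y} (hf : LocP @Smooth f) : IsFormallySmoothMor f := by
  intro sq
  have sqX : IsPullback (pullback.fst f sq.bot) (pullback.snd f sq.bot) f sq.bot := IsPullback.of_hasPullback _ _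
  have hX' : IsAlgSpace (pullback f sq.bot) := isAlgSpace_of_isPullback_space hY hX (IsAlgSpace.yon_obj _) sqX
  have hs : LocP @Smooth (pullback.snd f sq.bot) :=
    locP_baseChange etST_smooth hX hY hX' (IsAlgSpace.yon_obj _) sqX hf
  let σ : (yon S).obj sq.ptT ⟶ pullback f sq.bot := sqX.lift sq.top ((yon S).map sq.j) sq.comm
  obtain ⟨R, _, _, π, hR, hπ, hπs, hsec⟩ := exists_chart_section sq _ hX' hs σ
  obtain ⟨β, hβs, hβj⟩ := exists_section sq _ π hπs hπ σ (sqX.lift_snd _ _ _) hsec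
  exact ⟨β ≫ pullback.fst _ _, by rw [← Category.assoc, hβj, sqX.lift_fst], by
    rw [Category.assoc, sqX.w, reassoc_of% hβs]⟩

end Groth.Agent.InfLift

namespace Groth.Agent.InfLift

open _root_.AlgSp Groth.Agent.AlgSpLib

/-- formally smooth morphisms of schemes locally of finite presentation are smooth -/
theorem smooth_of_isFormallySmoothHom {X Y : Scheme.{u}} (f : X ⟶ Y) [LocallyOfFinitePresentation f]
    (h : MoreMor.IsFormallySmoothHom f) : Smooth f := by
  rw [HasRingHomProperty.iff_appLE (P := @Smooth)]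
  rintro ⟨V, hV⟩ ⟨U, hU⟩ e
  have hfp : (f.appLE V U e).hom.FinitePresentation :=
    (HasRingHomProperty.iff_appLE (P := @LocallyOfFinitePresentation)).1 ‹_› ⟨V, hV⟩ ⟨U, hU⟩ e
  algebraize [(f.appLE V U e).hom]
  suffices hfs : Algebra.FormallySmooth Γ(Y, V) Γ(X, U) from
    RingHom.smooth_algebraMap.2 (show Algebra.Smooth Γ(Y, V) Γ(X, U) from ⟨hfs, ‹_›⟩)
  refine Algebra.FormallySmooth.of_comp_surjective fun B _ _ I hI g => ?_
  let ψ : CommRingCat.of Γ(Y, V) ⟶ CommRingCat.of B := CommRingCat.ofHom (algebraMap Γ(Y, V) B)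
  let γ : CommRingCat.of Γ(X, U) ⟶ CommRingCat.of (B ⧸ I) := CommRingCat.ofHom g.toRingHom
  have hγ : f.appLE V U e ≫ γ = ψ ≫ CommRingCat.ofHom (Ideal.Quotient.mk I) :=
    CommRingCat.hom_ext (RingHom.ext fun r => g.commutes r)
  have hcomm : Spec.map (CommRingCat.ofHom (Ideal.Quotient.mk I)) ≫ Spec.map ψ ≫ hV.fromSpec =
      (Spec.map γ ≫ hU.fromSpec) ≫ f := by
    rw [Category.assoc, ← hV.SpecMap_appLE_fromSpec f hU e, ← Spec.map_comp_assoc, ← Spec.map_comp_assoc, hγ]
  obtain ⟨l, hl₁, hl₂⟩ := h B I hI _ _ hcomm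
  have hr : Set.range l ⊆ Set.range hU.fromSpec := by
    rintro _ ⟨z, rfl⟩
    obtain ⟨w, rfl⟩ := (surjective_specQuot I hI).surj z
    exact ⟨Spec.map γ w, (congrArg (fun k => k w) hl₁).symm⟩
  obtain ⟨φ, hφ⟩ : ∃ φ : CommRingCat.of Γ(X, U) ⟶ CommRingCat.of B,
      Spec.map φ = IsOpenImmersion.lift hU.fromSpec l hr := ⟨_, Spec.map_preimage _⟩
  have hlift : Spec.map φ ≫ hU.fromSpec = l := by rw [hφ]; exact IsOpenImmersion.lift_fac _ _ _
  have hψ : f.appLE V U e ≫ φ = ψ := by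
    apply Spec.map_injective
    rw [← cancel_mono hV.fromSpec, Spec.map_comp, Category.assoc, hV.SpecMap_appLE_fromSpec f hU e, reassoc_of% hlift,
      hl₂]
  have hmk : φ ≫ CommRingCat.ofHom (Ideal.Quotient.mk I) = γ := by
    apply Spec.map_injective
    rw [← cancel_mono hU.fromSpec, Spec.map_comp, Category.assoc, hlift, hl₁]
  exact ⟨{ φ.hom with commutes' := fun r => congrArg (fun k => k.hom r) hψ },
    AlgHom.ext fun r => congrArg (fun k => k.hom r) hmk⟩

/-- smooth is the same as formally smooth and locally of finite presentation -/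
theorem smooth_iff {S : Scheme.{u}} {X Y : Sp S} (hX : IsAlgSpace X) (hY : IsAlgSpace Y) (f : X ⟶ Y) :
    LocP @Smooth f ↔ LocP @LocallyOfFinitePresentation f ∧ IsFormallySmoothMor f := by
  refine ⟨fun hf => ⟨fun U V a b h ha hb comm => ?_, isFormallySmoothMor_of_smooth hX hY hf⟩,
    fun ⟨hfp, hfs⟩ U V a b h ha hb comm => ?_⟩
  · have : Smooth h.left := hf a b h ha hb comm
    infer_instance
  · have : LocallyOfFinitePresentation h.left := hfp a b h ha hb comm
    exact smooth_of_isFormallySmoothHom h.left (chart_smooth hfs ha hb comm)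

/-- smoothness cancels etale morphisms -/
theorem smooth_of_comp_etale {X Y Z : Scheme.{u}} (f : X ⟶ Y) (g : Y ⟶ Z) [Smooth (f ≫ g)] [Etale g] : Smooth f := by
  haveI : MorphismProperty.IsMultiplicative @Smooth :=
    { id_mem := fun _ => inferInstance, comp_mem := fun a b (_ : Smooth a) (_ : Smooth b) => inferInstance }
  haveI : MorphismProperty.HasOfPostcompProperty @Smooth @Etale :=
    MorphismProperty.hasOfPostcompProperty_iff_le_diagonal.2 fun {A B} h (hh : Etale h) =>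
      show Smooth (pullback.diagonal h) from inferInstance
  exact MorphismProperty.of_postcomp (W := @Smooth) (W' := @Etale) f g ‹_› ‹_›

/-- smooth morphisms of schemes are formally smooth -/
theorem isFormallySmoothHom_of_smooth {X Y : Scheme.{u}} (f : X ⟶ Y) [Smooth f] : MoreMor.IsFormallySmoothHom f := by
  let k : Over.mk f ⟶ Over.mk (𝟙 Y) := Over.homMk f
  refine (yon_smooth_iff k).1 (isFormallySmoothMor_of_smooth (IsAlgSpace.yon_obj _) (IsAlgSpace.yon_obj _) ?_)
  intro U V a b h ha hb comm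
  obtain ⟨a, rfl⟩ := exists_map_eq a
  obtain ⟨b, rfl⟩ := exists_map_eq b
  have e : a.left ≫ f = h.left ≫ b.left := congrArg (fun q => q.left) ((yon Y).map_injective
    (((yon Y).map_comp _ _).trans (comm.trans ((yon Y).map_comp _ _).symm)))
  have : Etale a.left := (repWith_yon_iff a).1 ha
  have : Etale b.left := (repWith_yon_iff b).1 hb
  have : Smooth (h.left ≫ b.left) := e ▸ inferInstance
  exact smooth_of_comp_etale h.left b.left

end Groth.Agent.InfLift
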