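import Groth.Agent.InfLift.SmallExt
import Groth.Agent.InfLift.SmoothLift

/-!
# Smoothness of morphisms of schemes through lifts along small extensions
-/

universe u

open CategoryTheory AlgebraicGeometry IsLocalRing

set_option backward.isDefEq.respectTransparency false

namespace Groth.Agent.InfLift

theorem lfp_of_lft {X Y : Scheme.{u}} (f : X ⟶ Y) [IsLocallyNoetherian Y] [LocallyOfFiniteType f] :
    LocallyOfFinitePresentation f := by
  rw [HasRingHomProperty.iff_appLE (P := @LocallyOfFinitePresentation)]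
  rintro ⟨V, hV⟩ ⟨U, hU⟩ e
  have : IsNoetherianRing Γ(Y, V) := IsLocallyNoetherian.component_noetherian ⟨V, hV⟩
  exact RingHom.FinitePresentation.of_finiteType.1 (f.finiteType_appLE hV hU e)

theorem sq_zero_of_small {B' B : Type u} [CommRing B'] [CommRing B] [IsLocalRing B'] [Nontrivial B] {π : B' →+* B}
    (h : ∃ t : B', RingHom.ker π = Ideal.span {t} ∧ ∀ a ∈ maximalIdeal B', a * t = 0) :
    RingHom.ker π ^ 2 = ⊥ := by
  obtain ⟨t, ht, hann⟩ := h
  have htm : t ∈ maximalIdeal B' := by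
    refine le_maximalIdeal (RingHom.ker_ne_top π) ?_
    rw [ht]; exact Ideal.mem_span_singleton_self t
  rw [ht, pow_two, Ideal.span_singleton_mul_span_singleton, hann t htm, Ideal.span_singleton_eq_bot.2 rfl]

theorem surjective_specMap_of_sq_zero {B' B : Type u} [CommRing B'] [CommRing B] {π : B' →+* B}
    (hπ : Function.Surjective π) (hsq : RingHom.ker π ^ 2 = ⊥) :
    Function.Surjective (Spec.map (CommRingCat.ofHom π)) := fun z => by
  have hz : z ∈ Set.range (PrimeSpectrum.comap π) := by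
    rw [range_comap_of_surjective _ π hπ, PrimeSpectrum.mem_zeroLocus]
    intro x hx
    exact z.isPrime.mem_of_pow_mem 2 (((hsq ▸ Ideal.pow_mem_pow hx 2) : x ^ 2 ∈ (⊥ : Ideal B')) ▸ Ideal.zero_mem _)
  exact hz

/-- smooth morphisms lift along surjections with square-zero kernel -/
theorem exists_lift_of_smooth {X Y : Scheme.{u}} (f : X ⟶ Y) [Smooth f] {B' B : Type u} [CommRing B'] [CommRing B]
    (φ : B' →+* B) (hφ : Function.Surjective φ) (hsq : RingHom.ker φ ^ 2 = ⊥)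
    (α : Spec (CommRingCat.of B) ⟶ X) (β : Spec (CommRingCat.of B') ⟶ Y)
    (comm : Spec.map (CommRingCat.ofHom φ) ≫ β = α ≫ f) :
    ∃ γ : Spec (CommRingCat.of B') ⟶ X, Spec.map (CommRingCat.ofHom φ) ≫ γ = α ∧ γ ≫ f = β := by
  let ε : Spec (CommRingCat.of (B' ⧸ RingHom.ker φ)) ⟶ Spec (CommRingCat.of B) :=
    Spec.map (CommRingCat.ofHom (RingHom.quotientKerEquivOfSurjective hφ).symm.toRingHom)
  have hε : ε ≫ Spec.map (CommRingCat.ofHom φ) = Spec.map (CommRingCat.ofHom (Ideal.Quotient.mk (RingHom.ker φ))) := by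
    rw [← Spec.map_comp, ← CommRingCat.ofHom_comp, RingHom.quotientKerEquivOfSurjective_symm_comp]
  have : IsIso (CommRingCat.ofHom (RingHom.quotientKerEquivOfSurjective hφ).symm.toRingHom) :=
    Iso.isIso_hom (RingHom.quotientKerEquivOfSurjective hφ).symm.toCommRingCatIso
  obtain ⟨γ, h₁, h₂⟩ := isFormallySmoothHom_of_smooth f B' _ hsq (ε ≫ α) β (by
    rw [← hε, Category.assoc, comm, Category.assoc])
  exact ⟨γ, (cancel_epi ε).1 (by rw [← Category.assoc, hε, h₁]), h₂⟩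

theorem smooth_ι_smoothLocus {X Y : Scheme.{u}} (f : X ⟶ Y) [LocallyOfFinitePresentation f] :
    Smooth (f.smoothLocus.ι ≫ f) := by
  rw [← Scheme.Hom.smoothLocus_eq_top_iff, ← Scheme.Hom.preimage_smoothLocus_eq, Scheme.Opens.ι_preimage_self]

theorem mem_smoothLocus_iff_nhd {X Y : Scheme.{u}} (f : X ⟶ Y) [LocallyOfFinitePresentation f] (x : X) :
    (∃ W : X.Opens, x ∈ W ∧ Smooth (W.ι ≫ f)) ↔ x ∈ f.smoothLocus := by
  refine ⟨fun ⟨W, hx, hW⟩ => ?_, fun h => ⟨_, h, smooth_ι_smoothLocus f⟩⟩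
  have h : W.ι ⁻¹ᵁ f.smoothLocus = ⊤ := by
    rw [Scheme.Hom.preimage_smoothLocus_eq, Scheme.Hom.smoothLocus_eq_top_iff]
    exact hW
  exact h.ge (TopologicalSpace.Opens.mem_top (⟨x, hx⟩ : W.toScheme))

/-- lifts along square-zero surjections of local rings through the smooth locus -/
theorem exists_lift_of_mem_smoothLocus {X Y : Scheme.{u}} (f : X ⟶ Y) [LocallyOfFinitePresentation f] {B' B : Type u}
    [CommRing B'] [CommRing B] [IsLocalRing B] (φ : B' →+* B) (hφ : Function.Surjective φ) (hsq : RingHom.ker φ ^ 2 = ⊥)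
    (α : Spec (CommRingCat.of B) ⟶ X) (hα : α (closedPoint B) ∈ f.smoothLocus)
    (β : Spec (CommRingCat.of B') ⟶ Y) (comm : Spec.map (CommRingCat.ofHom φ) ≫ β = α ≫ f) :
    ∃ γ : Spec (CommRingCat.of B') ⟶ X, Spec.map (CommRingCat.ofHom φ) ≫ γ = α ∧ γ ≫ f = β := by
  have := smooth_ι_smoothLocus f
  have hr : Set.range α ⊆ Set.range f.smoothLocus.ι := by
    rintro _ ⟨z, rfl⟩
    rw [Scheme.Opens.range_ι]
    exact (IsLocalRing.specializes_closedPoint z).map α.continuous |>.mem_open f.smoothLocus.2 hα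
  obtain ⟨γ, h₁, h₂⟩ := exists_lift_of_smooth (f.smoothLocus.ι ≫ f) φ hφ hsq (IsOpenImmersion.lift _ α hr) β (by
    rw [comm, IsOpenImmersion.lift_fac_assoc])
  exact ⟨γ ≫ f.smoothLocus.ι, by rw [reassoc_of% h₁, IsOpenImmersion.lift_fac], by rw [Category.assoc, h₂]⟩

theorem stalkClosedPointTo_germ {X : Scheme.{u}} {U : X.Opens} (hU : IsAffineOpen U) {B : Type u} [CommRing B]
    [IsLocalRing B] (g : Γ(X, U) ⟶ CommRingCat.of B)
    (hU' : (Spec.map g ≫ hU.fromSpec) (closedPoint B) ∈ U) :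
    X.presheaf.germ U _ hU' ≫ Scheme.stalkClosedPointTo (Spec.map g ≫ hU.fromSpec) = g := by
  apply Spec.map_injective
  rw [← cancel_mono hU.fromSpec, Spec.map_comp, Category.assoc]
  show _ ≫ hU.fromSpecStalk hU' = _
  rw [hU.fromSpecStalk_eq_fromSpecStalk hU', Scheme.Spec_stalkClosedPointTo_fromSpecStalk]

/-- lifts along small extensions at a point give smoothness there -/
theorem mem_smoothLocus_of_small_lift {X Y : Scheme.{u}} (f : X ⟶ Y) [IsLocallyNoetherian Y] [LocallyOfFiniteType f]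
    [LocallyOfFinitePresentation f] {V : Y.Opens} (hV : IsAffineOpen V) {U : X.Opens} (hU : IsAffineOpen U)
    (e : U ≤ f ⁻¹ᵁ V) {x : X} (hx : x ∈ U)
    (H : ∀ (B' B : Type u) [CommRing B'] [CommRing B] [IsLocalRing B'] [IsLocalRing B] [IsArtinianRing B']
      [IsArtinianRing B] (π : B' →+* B), Function.Surjective π →
      (∃ t : B', RingHom.ker π = Ideal.span {t} ∧ ∀ a ∈ maximalIdeal B', a * t = 0) →
      ∀ (α : Spec (CommRingCat.of B) ⟶ X) (β : Spec (CommRingCat.of B') ⟶ Y), α (closedPoint B) = x →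
      Function.Surjective (Scheme.stalkClosedPointTo α) →
      ((hU.primeIdealOf ⟨x, hx⟩).asIdeal.IsMaximal → LocallyOfFiniteType β) →
      Spec.map (CommRingCat.ofHom π) ≫ β = α ≫ f →
      ∃ γ : Spec (CommRingCat.of B') ⟶ X, Spec.map (CommRingCat.ofHom π) ≫ γ = α ∧ γ ≫ f = β) :
    x ∈ f.smoothLocus := by
  rw [Scheme.Hom.mem_smoothLocus, formallySmooth_stalkMap_iff V hV U hU e hx]
  have : IsNoetherianRing Γ(Y, V) := IsLocallyNoetherian.component_noetherian ⟨V, hV⟩
  have := f.finiteType_appLE hV hU e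
  algebraize [(f.appLE V U e).hom]
  refine isSmoothAt_of_small_lift (hU.primeIdealOf ⟨x, hx⟩).asIdeal ?_
  intro B' B _ _ _ _ _ _ _ _ π hπ ht hft g hg hfrac
  let gC : Γ(X, U) ⟶ CommRingCat.of B := CommRingCat.ofHom g.toRingHom
  let ψ : Γ(Y, V) ⟶ CommRingCat.of B' := CommRingCat.ofHom (algebraMap Γ(Y, V) B')
  have hgψ : f.appLE V U e ≫ gC = ψ ≫ CommRingCat.ofHom π.toRingHom :=
    CommRingCat.hom_ext (RingHom.ext fun r => (g.commutes r).trans (π.commutes r).symm)
  have hcp : (Spec.map gC ≫ hU.fromSpec) (closedPoint B) = x := by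
    rw [Scheme.Hom.comp_apply, show Spec.map gC (closedPoint B) = hU.primeIdealOf ⟨x, hx⟩ from
      PrimeSpectrum.ext hg, hU.fromSpec_primeIdealOf]
  have hcpU : (Spec.map gC ≫ hU.fromSpec) (closedPoint B) ∈ U := hcp.symm ▸ hx
  have hsurj : Function.Surjective (Scheme.stalkClosedPointTo (Spec.map gC ≫ hU.fromSpec)) := fun b => by
    obtain ⟨r, s, hs, hb⟩ := hfrac b
    have hgerm : ∀ a, Scheme.stalkClosedPointTo (Spec.map gC ≫ hU.fromSpec) (X.presheaf.germ U _ hcpU a) = g a :=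
      fun a => congrArg (fun k => k.hom a) (stalkClosedPointTo_germ hU gC hcpU)
    have hgs : IsUnit (g s) := by
      rw [← notMem_maximalIdeal]
      exact fun h => hs (hg ▸ h)
    have : IsUnit (X.presheaf.germ U _ hcpU s) :=
      isUnit_of_map_unit (Scheme.stalkClosedPointTo (Spec.map gC ≫ hU.fromSpec)).hom _ (by rw [hgerm]; exact hgs)
    obtain ⟨w, hw⟩ := this
    refine ⟨X.presheaf.germ U _ hcpU r * ↑w⁻¹, hgs.mul_left_inj.1 ?_⟩
    rw [hb, map_mul, hgerm, mul_assoc, ← hgerm s, ← hw, ← map_mul, Units.inv_mul, map_one, mul_one]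
  obtain ⟨γ, h₁, h₂⟩ := H B' B π.toRingHom hπ ht (Spec.map gC ≫ hU.fromSpec) (Spec.map ψ ≫ hV.fromSpec) hcp hsurj
    (fun hm => by
      have : LocallyOfFiniteType (Spec.map ψ) := by
        rw [HasRingHomProperty.Spec_iff (P := @LocallyOfFiniteType)]
        exact RingHom.finiteType_algebraMap.2 (hft hm)
      infer_instance)
    (by rw [Category.assoc, ← hV.SpecMap_appLE_fromSpec f hU e, ← Spec.map_comp_assoc, ← Spec.map_comp_assoc, hgψ])
  have hr : Set.range γ ⊆ Set.range hU.fromSpec := by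
    rintro _ ⟨z, rfl⟩
    obtain ⟨w, rfl⟩ := surjective_specMap_of_sq_zero hπ (sq_zero_of_small (π := π.toRingHom) ht) z
    exact ⟨Spec.map gC w, (congrArg (fun k => k w) h₁).symm⟩
  obtain ⟨φ, hφ⟩ : ∃ φ : Γ(X, U) ⟶ CommRingCat.of B',
      Spec.map φ = IsOpenImmersion.lift hU.fromSpec γ hr := ⟨_, Spec.map_preimage _⟩
  have hlift : Spec.map φ ≫ hU.fromSpec = γ := by rw [hφ]; exact IsOpenImmersion.lift_fac _ _ _
  have hψ : f.appLE V U e ≫ φ = ψ := by
    apply Spec.map_injective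
    rw [← cancel_mono hV.fromSpec, Spec.map_comp, Category.assoc, hV.SpecMap_appLE_fromSpec f hU e, reassoc_of% hlift,
      h₂]
  have hπφ : φ ≫ CommRingCat.ofHom π.toRingHom = gC := by
    apply Spec.map_injective
    rw [← cancel_mono hU.fromSpec, Spec.map_comp, Category.assoc, hlift, h₁]
  exact ⟨{ φ.hom with commutes' := fun r => congrArg (fun k => k.hom r) hψ },
    AlgHom.ext fun r => congrArg (fun k => k.hom r) hπφ⟩

theorem eq_top_of_maximal_mem {R : Type u} [CommRing R] (O : TopologicalSpace.Opens (PrimeSpectrum R))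
    (h : ∀ m : PrimeSpectrum R, m.asIdeal.IsMaximal → m ∈ O) : O = ⊤ := by
  refine eq_top_iff.2 fun p _ => ?_
  obtain ⟨m, hm, hle⟩ := Ideal.exists_le_maximal p.asIdeal p.isPrime.ne_top
  exact ((PrimeSpectrum.le_iff_specializes p ⟨m, hm.isPrime⟩).1 hle).mem_open O.2 (h _ hm)

/-- lifts along small extensions with thickenings locally of finite type give smoothness -/
theorem smooth_of_small_lift {X Y : Scheme.{u}} (f : X ⟶ Y) [IsLocallyNoetherian Y] [LocallyOfFiniteType f]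
    (H : ∀ (B' B : Type u) [CommRing B'] [CommRing B] [IsLocalRing B'] [IsLocalRing B] [IsArtinianRing B']
      [IsArtinianRing B] (π : B' →+* B), Function.Surjective π →
      (∃ t : B', RingHom.ker π = Ideal.span {t} ∧ ∀ a ∈ maximalIdeal B', a * t = 0) →
      ∀ (α : Spec (CommRingCat.of B) ⟶ X) (β : Spec (CommRingCat.of B') ⟶ Y), LocallyOfFiniteType β →
      Spec.map (CommRingCat.ofHom π) ≫ β = α ≫ f →
      ∃ γ : Spec (CommRingCat.of B') ⟶ X, Spec.map (CommRingCat.ofHom π) ≫ γ = α ∧ γ ≫ f = β) :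
    Smooth f := by
  have := lfp_of_lft f
  rw [← Scheme.Hom.smoothLocus_eq_top_iff, eq_top_iff]
  rintro x -
  obtain ⟨_, ⟨V, hV, rfl⟩, hxV, -⟩ :=
    Y.isBasis_affineOpens.exists_subset_of_mem_open (Set.mem_univ (f x)) isOpen_univ
  obtain ⟨_, ⟨U, hU, rfl⟩, hxU, e⟩ :=
    X.isBasis_affineOpens.exists_subset_of_mem_open hxV (V.2.preimage f.continuous)
  have h : hU.fromSpec ⁻¹ᵁ f.smoothLocus = ⊤ := eq_top_of_maximal_mem _ fun m hm => by
    have hmU : hU.fromSpec m ∈ U := hU.range_fromSpec.le ⟨m, rfl⟩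
    have hpr : hU.primeIdealOf ⟨hU.fromSpec m, hmU⟩ = m :=
      hU.fromSpec.isOpenEmbedding.injective (hU.fromSpec_primeIdealOf _)
    refine mem_smoothLocus_of_small_lift f hV hU e hmU fun B' B _ _ _ _ _ _ π hπ ht α β _ _ hβ comm =>
      H B' B π hπ ht α β (hβ ?_) comm
    rw [hpr]; exact hm
  obtain ⟨m, rfl⟩ := hU.range_fromSpec.ge hxU
  exact h.ge (TopologicalSpace.Opens.mem_top m)

end Groth.Agent.InfLift
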