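import Mathlib.RingTheory.Etale.StandardEtale
import Mathlib.RingTheory.Unramified.LocalStructure
import Mathlib.Algebra.Polynomial.Lifts

/-!
# Etale algebras lift along surjections, locally
-/

universe u

open TensorProduct Polynomial

namespace Groth.Agent.InfLift

/-- standard etale algebras lift along surjections -/
theorem exists_standardEtale_lift {A A₀ C₀ : Type u} [CommRing A] [CommRing A₀] [CommRing C₀]
    [Algebra A A₀] [Algebra A₀ C₀] (hs : Function.Surjective (algebraMap A A₀)) [Algebra.IsStandardEtale A₀ C₀] :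
    ∃ (C : Type u) (_ : CommRing C) (_ : Algebra A C),
      Algebra.Etale A C ∧ Nonempty ((A₀ ⊗[A] C) ≃ₐ[A₀] C₀) := by
  obtain ⟨P⟩ := Algebra.IsStandardEtale.nonempty_standardEtalePresentation (R := A₀) (S := C₀)
  obtain hA₀ | hA₀ := subsingleton_or_nontrivial A₀
  · refine ⟨A, inferInstance, inferInstance, inferInstance, ⟨?_⟩⟩
    have : Subsingleton C₀ := (algebraMap A₀ C₀).codomain_trivial
    have : Subsingleton (A₀ ⊗[A] A) := (algebraMap A₀ (A₀ ⊗[A] A)).codomain_trivial
    exact AlgEquiv.ofAlgHom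
      { toFun := fun _ => 0, map_one' := Subsingleton.elim _ _, map_mul' := fun _ _ => Subsingleton.elim _ _,
        map_zero' := rfl, map_add' := fun _ _ => Subsingleton.elim _ _, commutes' := fun _ => Subsingleton.elim _ _ }
      { toFun := fun _ => 0, map_one' := Subsingleton.elim _ _, map_mul' := fun _ _ => Subsingleton.elim _ _,
        map_zero' := rfl, map_add' := fun _ _ => Subsingleton.elim _ _, commutes' := fun _ => Subsingleton.elim _ _ }
      (AlgHom.ext fun _ => Subsingleton.elim _ _) (AlgHom.ext fun _ => Subsingleton.elim _ _)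
  have hl : ∀ p : A₀[X], ∃ q : A[X], q.map (algebraMap A A₀) = p :=
    Polynomial.map_surjective _ hs
  obtain ⟨f, hf, -, hfm⟩ := Polynomial.lifts_and_degree_eq_and_monic (f := algebraMap A A₀)
    ((Polynomial.mem_lifts _).2 (hl P.f)) P.monic_f
  obtain ⟨p₁, p₂, n, hp⟩ := P.cond
  obtain ⟨q₁, hq₁⟩ := hl (p₁ * P.g)
  obtain ⟨q₂, hq₂⟩ := hl (p₂ * P.g)
  let P₁ : StandardEtalePair A := ⟨f, hfm, derivative f * q₁ + f * q₂, q₁, q₂, 1, (pow_one _).symm⟩
  have hg : (P₁.map (algebraMap A A₀)).g = P.g ^ (n + 1) := by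
    change (derivative f * q₁ + f * q₂).map (algebraMap A A₀) = _
    rw [Polynomial.map_add, Polynomial.map_mul, Polynomial.map_mul, ← derivative_map, hf, hq₁, hq₂,
      pow_succ, ← hp]
    ring
  let P₀ : StandardEtalePair A₀ := P₁.map (algebraMap A A₀)
  have hmap : ∀ {D : Type u} [CommRing D] [Algebra A₀ D] (x : D), P₀.HasMap x ↔ P.P.HasMap x := by
    intro D _ _ x
    change _ ∧ IsUnit _ ↔ _ ∧ IsUnit _
    rw [show P₀.g = P.g ^ (n + 1) from hg, show P₀.f = P.f from hf, map_pow, isUnit_pow_iff (Nat.succ_ne_zero n)]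
  let e : P.P.Ring ≃ₐ[A₀] P₀.Ring := AlgEquiv.ofAlgHom
    (P.P.lift P₀.X ((hmap _).1 P₀.hasMap_X)) (P₀.lift P.P.X ((hmap _).2 P.P.hasMap_X))
    (P₀.hom_ext (by simp)) (P.P.hom_ext (by simp))
  refine ⟨P₁.Ring, inferInstance, inferInstance, inferInstance, ⟨?_⟩⟩
  let Q₁ : StandardEtalePresentation A P₁.Ring :=
    ⟨P₁, P₁.X, P₁.hasMap_X, by simpa [StandardEtalePair.lift_X_left] using Function.bijective_id⟩
  let Q₀ : StandardEtalePresentation A₀ (A₀ ⊗[A] P₁.Ring) := Q₁.baseChange
  exact Q₀.equivRing.trans (e.symm.trans P.equivRing.symm)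

end Groth.Agent.InfLift
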