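import Groth.Agent.InfLift.EtaleExt
import Groth.Agent.EtaleSections.BaseChange
import Groth.Prelude.Def_MoreMor
import Mathlib.AlgebraicGeometry.Morphisms.Etale
import Mathlib.AlgebraicGeometry.Morphisms.FormallyUnramified

/-!
# Infinitesimal lifting for schemes
-/

universe u

open TensorProduct CategoryTheory CategoryTheory.Limits AlgebraicGeometry

set_option backward.isDefEq.respectTransparency false

namespace Groth.Agent.InfLift

variable {A : Type u} [CommRing A] (I : Ideal A)

/-- `Spec (A ⧸ I) ⟶ Spec A` -/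
noncomputable abbrev specQuot : Spec (CommRingCat.of (A ⧸ I)) ⟶ Spec (CommRingCat.of A) :=
  Spec.map (CommRingCat.ofHom (Ideal.Quotient.mk I))

instance isClosedImmersion_specQuot : IsClosedImmersion (specQuot I) :=
  IsClosedImmersion.spec_of_surjective _ Ideal.Quotient.mk_surjective

theorem surjective_specQuot (hI : I ^ 2 = ⊥) : Surjective (specQuot I) := by
  refine ⟨fun x => ?_⟩
  have hle : I ≤ x.asIdeal := fun a ha => x.isPrime.mem_of_pow_mem 2
    (show a ^ 2 ∈ x.asIdeal by
      have : a ^ 2 ∈ I ^ 2 := Ideal.pow_mem_pow ha 2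
      rw [hI, Ideal.mem_bot] at this
      rw [this]; exact zero_mem _)
  have : x ∈ Set.range (PrimeSpectrum.comap (Ideal.Quotient.mk I)) := by
    rw [range_comap_of_surjective _ _ Ideal.Quotient.mk_surjective, Ideal.mk_ker]
    exact hle
  exact this

theorem isNilpotent_ker_specQuot (hI : I ^ 2 = ⊥) : IsNilpotent (specQuot I).ker := by
  refine ⟨2, Scheme.IdealSheafData.ext_of_isAffine ?_⟩
  rw [Scheme.IdealSheafData.ideal_pow, Pi.pow_apply, Scheme.ker_of_isAffine (specQuot I),
    Scheme.IdealSheafData.ofIdealTop_ideal, pow_two]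
  change _ = (⊥ : Ideal _)
  rw [eq_bot_iff, Ideal.mul_le]
  intro x hx y hy
  simp only [homOfLE_leOfHom] at hx hy
  let η := (Scheme.ΓSpecIso (CommRingCat.of A)).hom
  have key : ∀ z, z ∈ RingHom.ker (specQuot I).appTop.hom → η.hom z ∈ I := fun z hz => by
    rw [← Ideal.Quotient.eq_zero_iff_mem]
    have := congrArg (fun k => k.hom z) (Scheme.ΓSpecIso_naturality (CommRingCat.ofHom (Ideal.Quotient.mk I)))
    simp only [CommRingCat.hom_comp, RingHom.comp_apply, CommRingCat.hom_ofHom] at this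
    rw [← this, RingHom.mem_ker.1 hz, map_zero]
  rw [Ideal.mem_bot]
  apply (Scheme.ΓSpecIso (CommRingCat.of A)).commRingCatIsoToRingEquiv.injective
  rw [map_mul, map_zero]
  have := Ideal.mul_mem_mul (key x (by simpa using hx)) (key y (by simpa using hy))
  rw [← pow_two, hI, Ideal.mem_bot] at this
  exact this

/-- lifts into unramified schemes are unique -/
theorem lift_unique {X Y : Scheme.{u}} (f : X ⟶ Y) [FormallyUnramified f] (hI : I ^ 2 = ⊥)
    {l l' : Spec (CommRingCat.of A) ⟶ X} (h : specQuot I ≫ l = specQuot I ≫ l') (hf : l ≫ f = l' ≫ f) :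
    l = l' :=
  FormallyUnramified.hom_ext (specQuot I) (isNilpotent_ker_specQuot I hI) f h hf

/-- etale morphisms have unique infinitesimal lifts -/
theorem isFormallyEtaleHom_of_etale {X Y : Scheme.{u}} (f : X ⟶ Y) [Etale f] : MoreMor.IsFormallyEtaleHom f := by
  intro A _ I hI a b e
  have : Surjective (specQuot I) := surjective_specQuot I hI
  let P : Over (Spec (CommRingCat.of A)) := Over.mk (pullback.snd f b)
  let T : Over (Spec (CommRingCat.of A)) := Over.mk (𝟙 _)
  have : Etale P.hom := inferInstanceAs (Etale (pullback.snd f b))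
  let s₀ : (Over.pullback (specQuot I)).obj T ⟶ (Over.pullback (specQuot I)).obj P :=
    Over.homMk (pullback.lift (pullback.lift (pullback.snd _ _ ≫ a) (pullback.fst _ _)
      (by
        rw [Category.assoc, ← e, ← pullback.condition_assoc]
        simp [T]))
      (pullback.snd _ _) (by
        simp only [P, Over.mk_hom, pullback.lift_snd]
        exact (Category.comp_id _).symm.trans pullback.condition)) (pullback.lift_snd _ _ _)
  obtain ⟨φ, hφ⟩ := (EtaleSections.surjective_pullback_map (specQuot I) P T) s₀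
  let ι₀ : Spec (CommRingCat.of (A ⧸ I)) ⟶ pullback T.hom (specQuot I) :=
    pullback.lift (specQuot I) (𝟙 _) (by simp [T])
  have hφ' := congrArg (fun k => ι₀ ≫ k.left ≫ pullback.fst P.hom (specQuot I) ≫ pullback.fst f b) hφ
  have h1 : specQuot I ≫ φ.left ≫ pullback.fst f b = a := by
    simp only [s₀, ι₀, Over.pullback_map_left, Over.homMk_left, pullback.lift_fst, pullback.lift_fst_assoc,
      pullback.lift_snd_assoc, Category.assoc, Category.id_comp] at hφ'
    simpa using hφ'
  have h2 : (φ.left ≫ pullback.fst f b) ≫ f = b := by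
    rw [Category.assoc, pullback.condition, ← Category.assoc, show φ.left ≫ pullback.snd f b = 𝟙 _ from Over.w φ,
      Category.id_comp]
  exact ⟨φ.left ≫ pullback.fst f b, ⟨h1, h2⟩, fun l hl => lift_unique I f hI (hl.1.trans h1.symm) (hl.2.trans h2.symm)⟩

/-- local extension of etale schemes along a thickening of an affine scheme -/
theorem exists_etale_ext {U₀ : Scheme.{u}} (e : U₀ ⟶ Spec (CommRingCat.of (A ⧸ I))) [Etale e] (u : U₀) :
    ∃ (C : Type u) (_ : CommRing C) (_ : Algebra A C),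
      Algebra.Etale A C ∧ ∃ w : Spec (CommRingCat.of (C ⧸ I.map (algebraMap A C))) ⟶ U₀,
        w ≫ e = Spec.map (CommRingCat.ofHom (Ideal.quotientMap (I.map (algebraMap A C)) (algebraMap A C) Ideal.le_comap_map)) ∧
        u ∈ Set.range w := by
  obtain ⟨V₀, hV₀, huV₀, -⟩ := exists_isAffineOpen_mem_and_subset (X := U₀) (x := u) (U := ⊤) trivial
  obtain ⟨φ, hφ⟩ : ∃ φ : CommRingCat.of (A ⧸ I) ⟶ Γ(U₀, V₀), Spec.map φ = hV₀.fromSpec ≫ e :=
    ⟨Spec.preimage _, Spec.map_preimage _⟩
  have hφe : φ.hom.Etale := by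
    have : Etale (Spec.map φ) := hφ ▸ inferInstance
    exact (HasRingHomProperty.Spec_iff (P := @Etale)).1 this
  let : Algebra (A ⧸ I) Γ(U₀, V₀) := φ.hom.toAlgebra
  have : Algebra.Etale (A ⧸ I) Γ(U₀, V₀) := RingHom.etale_algebraMap.1 hφe
  let q := hV₀.primeIdealOf ⟨u, huV₀⟩
  obtain ⟨g, hg, hstd⟩ := Algebra.IsEtaleAt.exists_isStandardEtale (R := A ⧸ I) q.asIdeal
  obtain ⟨C, _, _, hC, ⟨ε⟩⟩ := exists_standardEtale_lift (A := A) (C₀ := Localization.Away g)
    (Ideal.Quotient.mk_surjective (I := I))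
  let J := I.map (algebraMap A C)
  let κ : (A ⧸ I) →+* C ⧸ J := Ideal.quotientMap J (algebraMap A C) Ideal.le_comap_map
  let : Algebra (A ⧸ I) (C ⧸ J) := κ.toAlgebra
  have : IsScalarTower A (A ⧸ I) (C ⧸ J) := .of_algebraMap_eq fun a => rfl
  let ν : (A ⧸ I) ⊗[A] C →ₐ[A ⧸ I] C ⧸ J := Algebra.TensorProduct.lift (Algebra.ofId _ _)
    (Ideal.Quotient.mkₐ A J) (fun _ _ => Commute.all _ _)
  let μ : C ⧸ J →+* (A ⧸ I) ⊗[A] C := Ideal.Quotient.lift J
    (Algebra.TensorProduct.includeRight : C →ₐ[A] (A ⧸ I) ⊗[A] C).toRingHom (fun c hc => by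
      induction hc using Submodule.span_induction with
      | mem c hc =>
        obtain ⟨a, ha, rfl⟩ := hc
        change (1 : A ⧸ I) ⊗ₜ[A] algebraMap A C a = 0
        rw [Algebra.algebraMap_eq_smul_one, ← smul_tmul, ← Algebra.algebraMap_eq_smul_one]
        rw [Ideal.Quotient.algebraMap_eq, Ideal.Quotient.eq_zero_iff_mem.2 ha, zero_tmul]
      | zero => exact map_zero _
      | add x y _ _ hx hy => rw [map_add, hx, hy, add_zero]
      | smul r x _ hx => rw [smul_eq_mul, map_mul, hx, mul_zero])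
  have hμν : ∀ x, μ (ν x) = x := by
    intro x
    induction x using TensorProduct.induction_on with
    | zero => simp
    | tmul a c =>
      obtain ⟨a, rfl⟩ := Ideal.Quotient.mk_surjective a
      change μ (κ (Ideal.Quotient.mk I a) * Ideal.Quotient.mk J c) = _
      rw [map_mul]
      change ((1 : A ⧸ I) ⊗ₜ[A] algebraMap A C a) * ((1 : A ⧸ I) ⊗ₜ[A] c) = _
      rw [Algebra.TensorProduct.tmul_mul_tmul, one_mul, ← Algebra.smul_def, ← smul_tmul,
        ← Algebra.algebraMap_eq_smul_one, Ideal.Quotient.algebraMap_eq]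
    | add x y hx hy => rw [map_add, map_add, hx, hy]
  let χ : Γ(U₀, V₀) →+* C ⧸ J :=
    ν.toRingHom.comp (ε.symm.toAlgHom.toRingHom.comp (algebraMap Γ(U₀, V₀) (Localization.Away g)))
  have hχ : χ.comp φ.hom = κ := by
    ext a
    change ν (ε.symm (algebraMap Γ(U₀, V₀) (Localization.Away g) (algebraMap (A ⧸ I) Γ(U₀, V₀) (Ideal.Quotient.mk I a)))) = _
    rw [← IsScalarTower.algebraMap_apply, AlgEquiv.commutes, AlgHom.commutes]
    rfl
  refine ⟨C, inferInstance, inferInstance, hC, Spec.map (CommRingCat.ofHom χ) ≫ hV₀.fromSpec, ?_, ?_⟩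
  · rw [Category.assoc, ← hφ, ← Spec.map_comp]
    congr 1
    ext a
    exact RingHom.congr_fun hχ (Ideal.Quotient.mk I a)
  · have hq : q ∈ Set.range (PrimeSpectrum.comap (algebraMap Γ(U₀, V₀) (Localization.Away g))) := by
      rw [PrimeSpectrum.localization_away_comap_range (Localization.Away g) g]
      exact hg
    obtain ⟨q', hq'⟩ := hq
    let q'' : PrimeSpectrum (C ⧸ J) := PrimeSpectrum.comap μ (PrimeSpectrum.comap ε.symm.symm.toAlgHom.toRingHom q')
    refine ⟨q'', ?_⟩
    rw [Scheme.Hom.comp_apply]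
    have : Spec.map (CommRingCat.ofHom χ) q'' = q := by
      rw [← hq']
      apply PrimeSpectrum.ext
      ext y
      change ε.symm.symm (μ (χ y)) ∈ q'.asIdeal ↔ algebraMap _ (Localization.Away g) y ∈ q'.asIdeal
      simp [χ, hμν]
    rw [this]
    exact hV₀.fromSpec_primeIdealOf _

end Groth.Agent.InfLift
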