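import Groth.Agent.InfLift.Charts
import Groth.Agent.AlgSpLib.SheafLemmas

/-!
# Lifting along first order thickenings of algebraic spaces
-/

universe u

open CategoryTheory CategoryTheory.Limits AlgebraicGeometry AlgSp Opposite
open Groth.Agent.AlgSpLib

set_option backward.isDefEq.respectTransparency false

namespace Groth.Agent.InfLift

variable {S : Scheme.{u}}

/-- an affine etale chart of the bigger space gives a lifting square -/
theorem exists_sq_of_chart {X Y T T' : Sp S} {f : X ⟶ Y} {j : T ⟶ T'} (hj : IsFOThickMor j) (a : T ⟶ X)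
    (b : T' ⟶ Y) (w : a ≫ f = j ≫ b) {V : Over S} [IsAffine V.left] {q : (yon S).obj V ⟶ T'}
    (hq : RepWith @Etale q) :
    ∃ (sq : InfSq f) (e : sq.ptT' ⟶ V) (fst : (yon S).obj sq.ptT ⟶ T),
      IsIso e ∧ IsPullback fst ((yon S).map sq.j) j ((yon S).map e ≫ q) ∧
        fst ≫ a = sq.top ∧ sq.bot = (yon S).map e ≫ q ≫ b := by
  obtain ⟨W, fst, snd, sqW, hW⟩ := exists_repWith (hj.1 : RepWith thick j) q
  have hc : IsClosedImmersion snd.left := hW.1
  have hz : snd.left.ker * snd.left.ker = ⊥ := hj.2 q fst snd ‹_› hq sqW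
  have : IsAffine W.left := isAffine_of_isAffineHom snd.left
  let I : Ideal Γ(V.left, ⊤) := RingHom.ker snd.left.appTop.hom
  have hI : I ^ 2 = ⊥ := by
    have := congrArg (fun K => Scheme.IdealSheafData.ideal K ⟨⊤, isAffineOpen_top V.left⟩) hz
    simp only [Scheme.IdealSheafData.ideal_mul, Pi.mul_apply, Scheme.IdealSheafData.ideal_bot, Pi.bot_apply,
      Scheme.ker_of_isAffine snd.left, Scheme.IdealSheafData.ofIdealTop_ideal] at this
    rw [pow_two]
    refine (eq_bot_iff).2 (Ideal.mul_le.2 fun x hx y hy => ?_)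
    have hm : ∀ z ∈ I, z ∈ Ideal.map (V.left.presheaf.map (homOfLE le_top : (⊤ : V.left.Opens) ⟶ ⊤).op).hom I := by
      intro z hz
      have := Ideal.mem_map_of_mem (V.left.presheaf.map (homOfLE le_top : (⊤ : V.left.Opens) ⟶ ⊤).op).hom hz
      rwa [show (homOfLE le_top : (⊤ : V.left.Opens) ⟶ ⊤).op = 𝟙 _ from rfl, V.left.presheaf.map_id] at this ⊢
    exact this.le (Ideal.mul_mem_mul (hm x hx) (hm y hy))
  have hsurj : Function.Surjective snd.left.appTop := snd.left.app_surjective ⊤ (isAffineOpen_top _)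
  let ε : CommRingCat.of (Γ(V.left, ⊤) ⧸ I) ≅ Γ(W.left, ⊤) :=
    (RingHom.quotientKerEquivOfSurjective hsurj).toCommRingCatIso
  let w₀ : Spec (CommRingCat.of (Γ(V.left, ⊤) ⧸ I)) ⟶ W.left := Spec.map ε.inv ≫ W.left.isoSpec.inv
  have hw₀ : w₀ ≫ snd.left = specQuot I ≫ V.left.isoSpec.inv := by
    rw [Category.assoc, ← Scheme.isoSpec_inv_naturality, ← Category.assoc, ← Spec.map_comp]
    congr 2
    ext x
    apply (RingHom.quotientKerEquivOfSurjective hsurj).injective
    exact ((RingHom.quotientKerEquivOfSurjective hsurj).apply_symm_apply _).trans rfl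
  let e : Over.mk (V.left.isoSpec.inv ≫ V.hom) ⟶ V := Over.homMk V.left.isoSpec.inv rfl
  let e₀ : Over.mk (specQuot I ≫ V.left.isoSpec.inv ≫ V.hom) ⟶ W := Over.homMk w₀ (by
    rw [← Over.w snd, reassoc_of% hw₀]; rfl)
  let j₀ : Over.mk (specQuot I ≫ V.left.isoSpec.inv ≫ V.hom) ⟶ Over.mk (V.left.isoSpec.inv ≫ V.hom) :=
    Over.homMk (specQuot I) rfl
  have he₀ : e₀ ≫ snd = j₀ ≫ e := Over.OverMorphism.ext hw₀
  have : IsIso e := (Over.isoMk (asIso V.left.isoSpec.inv) rfl : Over.mk (V.left.isoSpec.inv ≫ V.hom) ≅ V).isIso_hom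
  have : IsIso w₀ := inferInstance
  have : IsIso e₀ := (Over.isoMk (asIso w₀) (Over.w e₀) : Over.mk (specQuot I ≫ V.left.isoSpec.inv ≫ V.hom) ≅ W).isIso_hom
  have comm : ((yon S).map e₀ ≫ fst ≫ a) ≫ f = (yon S).map j₀ ≫ (yon S).map e ≫ q ≫ b := by
    rw [Category.assoc, Category.assoc, w, sqW.w_assoc, ← Functor.map_comp_assoc, ← Functor.map_comp_assoc, he₀]
  refine ⟨{ A := Γ(V.left, ⊤), I := I, sq_zero := hI, str := V.left.isoSpec.inv ≫ V.hom,
            top := (yon S).map e₀ ≫ fst ≫ a, bot := (yon S).map e ≫ q ≫ b, comm := comm },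
    e, (yon S).map e₀ ≫ fst, ‹IsIso e›, ?_, Category.assoc _ _ _, rfl⟩
  have sq₀ : IsPullback ((yon S).map e₀) ((yon S).map j₀) ((yon S).map snd) ((yon S).map e) :=
    IsPullback.of_horiz_isIso ⟨by rw [← Functor.map_comp, ← Functor.map_comp, he₀]⟩
  exact sq₀.paste_horiz sqW

/-- lifts along thickenings of spaces are unique -/
theorem space_lift_unique {X Y T T' : Sp S} (hT' : IsAlgSpace T') {f : X ⟶ Y} (hf : IsFormallyUnramifiedMor f)
    {j : T ⟶ T'} (hj : IsFOThickMor j) {l l' : T' ⟶ X} (hlj : j ≫ l = j ≫ l') (hlf : l ≫ f = l' ≫ f) : l = l' := by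
  obtain ⟨V₀, q₀, hq₀e, hq₀s⟩ := hT'.atlas
  have hcover : (yon S).map (𝟙 V₀) = 𝟙 _ := (yon S).map_id _
  have : Sheaf.IsLocallySurjective q₀ := isLocallySurjective_of_repWith q₀
    (repWith_mono (fun _ _ g hg => have : Etale g := hg; (inferInstance : Flat g)) hq₀e)
    (repWith_mono (fun _ _ g hg => have : Etale g := hg; (inferInstance : LocallyOfFinitePresentation g)) hq₀e) hq₀s
  refine (cancel_epi q₀).1 (hom_ext_cover (R := Presieve.ofArrows V₀.left.affineCover.X V₀.left.affineCover.f)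
    (Scheme.zariskiPrecoverage_le_fppfPrecoverage _ V₀.left.affineCover.mem₀) ?_)
  rintro _ _ ⟨i⟩
  let c : Over.mk (V₀.left.affineCover.f i ≫ V₀.hom) ⟶ V₀ := Over.homMk (V₀.left.affineCover.f i) rfl
  have : IsAffine (Over.mk (V₀.left.affineCover.f i ≫ V₀.hom)).left :=
    inferInstanceAs (IsAffine (V₀.left.affineCover.X i))
  have hq : RepWith @Etale ((yon S).map c ≫ q₀) :=
    repWith_comp ((repWith_yon_iff c).2 (inferInstanceAs (Etale (V₀.left.affineCover.f i)))) hq₀e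
  obtain ⟨sq, e, fst, he, sqP, ht, hb⟩ := exists_sq_of_chart hj (j ≫ l) (l ≫ f) (Category.assoc _ _ _) hq
  refine (cancel_epi ((yon S).map e)).1 (hf sq _ _ ?_ ?_ ?_ ?_)
  · rw [← ht, sqP.w_assoc]; simp only [Category.assoc]; rfl
  · rw [hb]; simp only [Category.assoc]; rfl
  · rw [← ht, hlj, sqP.w_assoc]; simp only [Category.assoc]; rfl
  · rw [hb, hlf]; simp only [Category.assoc]; rfl

/-- etale base change of a first order thickening -/
theorem foThick_baseChange {T T' T₁ : Sp S} {j : T ⟶ T'} (hj : IsFOThickMor j) {V : Over S}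
    {q : (yon S).obj V ⟶ T'} (hq : RepWith @Etale q) {fst : T₁ ⟶ T} {snd : T₁ ⟶ (yon S).obj V}
    (sq : IsPullback fst snd j q) : IsFOThickMor snd :=
  ⟨repWith_baseChange sq hj.1, fun _ _ b fst' snd' hV hb sq' =>
    hj.2 (b ≫ q) (fst' ≫ fst) snd' hV (repWith_comp hb hq) (sq'.paste_horiz sq)⟩

/-- formally etale morphisms have unique lifts along thickenings of spaces -/
theorem space_lift {X Y T T' : Sp S} (hT' : IsAlgSpace T') {f : X ⟶ Y} (hf : IsFormallyEtaleMor f)
    {j : T ⟶ T'} (hj : IsFOThickMor j) (a : T ⟶ X) (b : T' ⟶ Y) (w : a ≫ f = j ≫ b) :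
    ∃ l : T' ⟶ X, j ≫ l = a ∧ l ≫ f = b := by
  obtain ⟨hsm, hu⟩ := etale_iff.1 hf
  obtain ⟨V₀, q₀, hq₀e, hq₀s⟩ := hT'.atlas
  let Z := V₀.left.affineCover.X
  let ι : ∀ i, Over.mk (V₀.left.affineCover.f i ≫ V₀.hom) ⟶
      Over.mk (Sigma.desc fun i => V₀.left.affineCover.f i ≫ V₀.hom) := fun i =>
    Over.homMk (Sigma.ι Z i) (Sigma.ι_desc _ i)
  let g : Over.mk (Sigma.desc fun i => V₀.left.affineCover.f i ≫ V₀.hom) ⟶ V₀ :=
    Over.homMk (Sigma.desc V₀.left.affineCover.f) (by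
      refine Sigma.hom_ext _ _ fun i => ?_
      exact (Sigma.ι_desc_assoc _ _ _).trans (Sigma.ι_desc (fun i => V₀.left.affineCover.f i ≫ V₀.hom) i).symm)
  have hg : ∀ i, ι i ≫ g = Over.homMk (V₀.left.affineCover.f i) rfl :=
    fun i => Over.OverMorphism.ext (Sigma.ι_desc _ _)
  have : Etale g.left := (IsZariskiLocalAtSource.iff_of_openCover (P := @Etale) (sigmaOpenCover Z)).2 fun i => by
    rw [show (sigmaOpenCover Z).f i ≫ g.left = V₀.left.affineCover.f i from Sigma.ι_desc _ _]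
    infer_instance
  have : Surjective g.left := ⟨fun t => by
    obtain ⟨x, hx⟩ := V₀.left.affineCover.covers t
    exact ⟨(ι _).left x, (congrArg (fun k => k.left x) (hg _)).trans hx⟩⟩
  let q := (yon S).map g ≫ q₀
  have hqe : RepWith @Etale q := repWith_comp ((repWith_yon_iff g).2 ‹_›) hq₀e
  have hqs : RepWith @Surjective q := repWith_comp ((repWith_yon_iff g).2 ‹_›) hq₀s
  have : Sheaf.IsLocallySurjective q := isLocallySurjective_of_repWith q
    (repWith_mono (fun _ _ g hg => have : Etale g := hg; (inferInstance : Flat g)) hqe)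
    (repWith_mono (fun _ _ g hg => have : Etale g := hg; (inferInstance : LocallyOfFinitePresentation g)) hqe) hqs
  obtain ⟨W, fst, snd, sqW, -⟩ := exists_repWith (hj.1 : RepWith thick j) q
  -- lifts on the pieces
  have hpiece : ∀ i, ∃ l : (yon S).obj (Over.mk (V₀.left.affineCover.f i ≫ V₀.hom)) ⟶ X,
      l ≫ f = (yon S).map (ι i) ≫ q ≫ b ∧
      ∀ ⦃W' : Over S⦄ (p : W' ⟶ Over.mk (V₀.left.affineCover.f i ≫ V₀.hom)) (c : (yon S).obj W' ⟶ T),
        (yon S).map p ≫ (yon S).map (ι i) ≫ q = c ≫ j → (yon S).map p ≫ l = c ≫ a := by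
    intro i
    have : IsAffine (Over.mk (V₀.left.affineCover.f i ≫ V₀.hom)).left := inferInstanceAs (IsAffine (Z i))
    have hqi : RepWith @Etale ((yon S).map (ι i) ≫ q) :=
      repWith_comp ((repWith_yon_iff _).2 (inferInstanceAs (Etale (Sigma.ι Z i)))) hqe
    obtain ⟨sq, e, fst', he, sqP, ht, hb⟩ := exists_sq_of_chart hj a b w hqi
    obtain ⟨l, hl₁, hl₂⟩ := hsm sq
    refine ⟨inv ((yon S).map e) ≫ l, ?_, fun W' p c hc => ?_⟩
    · rw [Category.assoc, hl₂, hb, Category.assoc]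
      exact IsIso.inv_hom_id_assoc _ _
    · have hc' : c ≫ j = ((yon S).map p ≫ inv ((yon S).map e)) ≫ (yon S).map e ≫ (yon S).map (ι i) ≫ q := by
        simp only [Category.assoc, IsIso.inv_hom_id_assoc]; exact hc.symm
      rw [← Category.assoc, ← sqP.lift_snd c _ hc', Category.assoc, hl₁, ← ht, ← Category.assoc, sqP.lift_fst]
  choose l hl₁ hl₂ using hpiece
  obtain ⟨L, hL⟩ : ∃ L : (yon S).obj (Over.mk (Sigma.desc fun i => V₀.left.affineCover.f i ≫ V₀.hom)) ⟶ X,
      ∀ i, (yon S).map (ι i) ≫ L = l i := exists_sigma_hom _ l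
  have hLf : L ≫ f = q ≫ b := by
    refine hom_ext_cover (R := Presieve.ofArrows Z (Sigma.ι Z))
      (Scheme.zariskiPrecoverage_le_fppfPrecoverage _ (sigmaOpenCover Z).mem₀) ?_
    rintro _ _ ⟨i⟩
    let e : Over.mk (Sigma.ι Z i ≫ Sigma.desc fun i => V₀.left.affineCover.f i ≫ V₀.hom) ⟶
        Over.mk (V₀.left.affineCover.f i ≫ V₀.hom) :=
      Over.homMk (𝟙 _) ((Category.id_comp _).trans (Sigma.ι_desc (fun i => V₀.left.affineCover.f i ≫ V₀.hom) i).symm)
    rw [show (Over.homMk (Sigma.ι Z i) rfl :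
        Over.mk (Sigma.ι Z i ≫ Sigma.desc fun i => V₀.left.affineCover.f i ≫ V₀.hom) ⟶
          Over.mk (Sigma.desc fun i => V₀.left.affineCover.f i ≫ V₀.hom)) = e ≫ ι i
      from Over.OverMorphism.ext (Category.id_comp _).symm]
    simp only [Functor.map_comp, Category.assoc]
    rw [reassoc_of% hL, hl₁]
  have hLa : ∀ ⦃W' : Over S⦄ (p : W' ⟶ Over.mk (Sigma.desc fun i => V₀.left.affineCover.f i ≫ V₀.hom))
      (c : (yon S).obj W' ⟶ T), (yon S).map p ≫ q = c ≫ j → (yon S).map p ≫ L = c ≫ a := by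
    intro W' p c hc
    refine hom_ext_cover (Scheme.zariskiPrecoverage_le_fppfPrecoverage _
      ((sigmaOpenCover Z).pullback₁ p.left).mem₀) ?_
    rintro _ _ ⟨i⟩
    let d : Over.mk (((sigmaOpenCover Z).pullback₁ p.left).f i ≫ W'.hom) ⟶ W' :=
      Over.homMk (((sigmaOpenCover Z).pullback₁ p.left).f i) rfl
    let x : Over.mk (((sigmaOpenCover Z).pullback₁ p.left).f i ≫ W'.hom) ⟶
        Over.mk (V₀.left.affineCover.f i ≫ V₀.hom) :=
      Over.homMk (pullback.snd p.left (Sigma.ι Z i)) (by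
        change pullback.snd p.left (Sigma.ι Z i) ≫ V₀.left.affineCover.f i ≫ V₀.hom =
          pullback.fst p.left (Sigma.ι Z i) ≫ W'.hom
        rw [← Sigma.ι_desc (fun i => V₀.left.affineCover.f i ≫ V₀.hom) i, ← pullback.condition_assoc]
        exact congrArg (pullback.fst p.left (Sigma.ι Z i) ≫ ·) (Over.w p))
    have hx : x ≫ ι i = d ≫ p := Over.OverMorphism.ext pullback.condition.symm
    change (yon S).map d ≫ _ = (yon S).map d ≫ _
    rw [← Functor.map_comp_assoc, ← hx, Functor.map_comp, Category.assoc, hL, hl₂ i x ((yon S).map d ≫ c)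
      (by rw [← Functor.map_comp_assoc, hx, Functor.map_comp, Category.assoc, hc, Category.assoc]), Category.assoc]
  -- gluing
  obtain ⟨R, r₁, r₂, sqR⟩ := exists_pullback hT'.diag q q
  have hr : RepWith @Etale ((yon S).map r₁ ≫ q) := repWith_comp (repWith_baseChange sqR.flip hqe) hqe
  obtain ⟨R₀, fR, sR, sqR₀, -⟩ := exists_repWith (hj.1 : RepWith thick j) ((yon S).map r₁ ≫ q)
  have key : (yon S).map r₁ ≫ L = (yon S).map r₂ ≫ L :=
    space_lift_unique (IsAlgSpace.yon_obj R) hu (foThick_baseChange hj hr sqR₀)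
      (by
        rw [← Functor.map_comp_assoc, hLa (sR ≫ r₁) fR (by rw [Functor.map_comp, Category.assoc, sqR₀.w]),
          ← Functor.map_comp_assoc, hLa (sR ≫ r₂) fR (by rw [Functor.map_comp, Category.assoc, ← sqR.w, sqR₀.w])])
      (by rw [Category.assoc, Category.assoc, hLf, sqR.w_assoc])
  obtain ⟨l₀, hl₀⟩ : ∃ l₀ : T' ⟶ X, q ≫ l₀ = L :=
    ⟨(isColimit_of_isPullback sqR).some.desc (Cofork.ofπ L key),
      (isColimit_of_isPullback sqR).some.fac (Cofork.ofπ L key) WalkingParallelPair.one⟩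
  refine ⟨l₀, ?_, (cancel_epi q).1 (by rw [reassoc_of% hl₀, hLf])⟩
  have := isLocallySurjective_of_isPullback sqW
  refine (cancel_epi fst).1 ?_
  rw [sqW.w_assoc, hl₀, hLa snd fst sqW.w.symm]

end Groth.Agent.InfLift
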