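import Groth.Agent.InfLift.Formal
import Mathlib.AlgebraicGeometry.Morphisms.Flat
import Mathlib.RingTheory.Unramified.LocalStructure
import Mathlib.RingTheory.Unramified.Finite
import Mathlib.RingTheory.Flat.Localization
import Mathlib.RingTheory.Ideal.Maps
import Mathlib.RingTheory.Smooth.Quotient

/-!
# Formally etale morphisms of schemes are local
-/

universe u

open CategoryTheory CategoryTheory.Limits AlgebraicGeometry AlgSp Opposite TensorProduct
open Groth.Agent.AlgSpLib

set_option backward.isDefEq.respectTransparency false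

namespace Groth.Agent.InfLift

variable {S : Scheme.{u}}

/-- `h_k` is formally smooth iff `k` is -/
theorem yon_smooth_iff {U V : Over S} (k : U ⟶ V) :
    IsFormallySmoothMor ((yon S).map k) ↔ MoreMor.IsFormallySmoothHom k.left := by
  refine ⟨fun h A _ I hI a b e => ?_, fun h sq => ?_⟩
  · let T' : Over S := Over.mk (b ≫ V.hom)
    let T : Over S := Over.mk (specQuot I ≫ b ≫ V.hom)
    let a' : T ⟶ U := Over.homMk a (by
      change a ≫ U.hom = specQuot I ≫ b ≫ V.hom
      rw [reassoc_of% e, Over.w k])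
    let b' : T' ⟶ V := Over.homMk b rfl
    obtain ⟨l, hl₁, hl₂⟩ := h { A := A, I := I, sq_zero := hI, str := b ≫ V.hom, top := (yon S).map a',
                                bot := (yon S).map b',
                                comm := by rw [← Functor.map_comp, ← Functor.map_comp]
                                           exact congrArg (yon S).map (Over.OverMorphism.ext e.symm) }
    obtain ⟨m, rfl⟩ := exists_map_eq l
    exact ⟨m.left, congrArg (fun q => q.left) ((yon S).map_injective (((yon S).map_comp _ _).trans hl₁)),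
      congrArg (fun q => q.left) ((yon S).map_injective (((yon S).map_comp _ _).trans hl₂))⟩
  · obtain ⟨a, ha⟩ := exists_map_eq sq.top
    obtain ⟨b, hb⟩ := exists_map_eq sq.bot
    have e : a ≫ k = sq.j ≫ b := (yon S).map_injective (by rw [Functor.map_comp, Functor.map_comp, ha, hb, sq.comm])
    obtain ⟨l, hl₁, hl₂⟩ := h sq.A sq.I sq.sq_zero a.left b.left (congrArg (fun q => q.left) e).symm
    let L : sq.ptT' ⟶ U := Over.homMk l (by rw [← Over.w k, reassoc_of% hl₂]; exact Over.w b)
    refine ⟨(yon S).map L, ?_, ?_⟩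
    · rw [← ha, ← Functor.map_comp]; exact congrArg (yon S).map (Over.OverMorphism.ext hl₁)
    · rw [← hb, ← Functor.map_comp]; exact congrArg (yon S).map (Over.OverMorphism.ext hl₂)

/-- `h_k` is formally unramified iff `k` is -/
theorem yon_unram_iff {U V : Over S} (k : U ⟶ V) :
    IsFormallyUnramifiedMor ((yon S).map k) ↔ FormallyUnramified k.left := by
  refine ⟨fun h => FormallyUnramified.of_hom_ext _ fun R S' φ hφ hsq g₁ g₂ hg hgf => ?_, fun h => ?_⟩
  · let I := RingHom.ker φ.hom
    let e : CommRingCat.of (R ⧸ I) ≅ S' := (RingHom.quotientKerEquivOfSurjective hφ).toCommRingCatIso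
    have he : CommRingCat.ofHom (Ideal.Quotient.mk I) = φ ≫ e.inv := by
      ext x
      apply (RingHom.quotientKerEquivOfSurjective hφ).injective
      exact ((RingHom.quotientKerEquivOfSurjective hφ).apply_symm_apply _).symm
    let T' : Over S := Over.mk (g₁ ≫ U.hom)
    let m₁ : T' ⟶ U := Over.homMk g₁ rfl
    let m₂ : T' ⟶ U := Over.homMk g₂ (by
      change g₂ ≫ U.hom = g₁ ≫ U.hom
      rw [← Over.w k, reassoc_of% hgf])
    let j : Over.mk (specQuot I ≫ g₁ ≫ U.hom) ⟶ T' := Over.homMk (specQuot I) rfl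
    have hj : j ≫ m₁ = j ≫ m₂ := Over.OverMorphism.ext (by
      change specQuot I ≫ g₁ = specQuot I ≫ g₂
      rw [show specQuot I = Spec.map e.inv ≫ Spec.map φ by rw [← Spec.map_comp, ← he], Category.assoc,
        Category.assoc, hg])
    have := h { A := R, I := I, sq_zero := hsq, str := g₁ ≫ U.hom, top := (yon S).map (j ≫ m₁),
                bot := (yon S).map (m₁ ≫ k),
                comm := by rw [← Functor.map_comp, ← Functor.map_comp, Category.assoc] }
      ((yon S).map m₁) ((yon S).map m₂) (Functor.map_comp _ _ _).symm (Functor.map_comp _ _ _).symm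
      (((yon S).map_comp _ _).symm.trans (congrArg (yon S).map hj.symm))
      (((yon S).map_comp _ _).symm.trans (congrArg (yon S).map (Over.OverMorphism.ext hgf.symm)))
    exact congrArg (fun q => q.left) ((yon S).map_injective this)
  · exact hasUniq_of_repWith (P := @FormallyUnramified) (fun _ _ f hf => hf) ((repWith_yon_iff _).2 h)

theorem formallyUnramified_of_isFormallyEtaleHom {X Y : Scheme.{u}} (f : X ⟶ Y)
    (h : MoreMor.IsFormallyEtaleHom f) : FormallyUnramified f := by
  refine (yon_unram_iff (S := Y) (Over.homMk f : Over.mk f ⟶ Over.mk (𝟙 Y))).1 fun sq l l' h1 h2 h1' h2' => ?_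
  obtain ⟨m, rfl⟩ := exists_map_eq l
  obtain ⟨m', rfl⟩ := exists_map_eq l'
  obtain ⟨b, hb⟩ := exists_map_eq sq.bot
  obtain ⟨a, ha⟩ := exists_map_eq sq.top
  rw [← Functor.map_comp, ← ha] at h1 h1'
  rw [← Functor.map_comp, ← hb] at h2 h2'
  refine congrArg (yon Y).map (Over.OverMorphism.ext ((h sq.A sq.I sq.sq_zero a.left b.left ?_).unique
    ⟨congrArg (fun q => q.left) ((yon Y).map_injective h1), congrArg (fun q => q.left) ((yon Y).map_injective h2)⟩
    ⟨congrArg (fun q => q.left) ((yon Y).map_injective h1'), congrArg (fun q => q.left) ((yon Y).map_injective h2')⟩))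
  rw [← congrArg (fun q => q.left) ((yon Y).map_injective h1), ← congrArg (fun q => q.left) ((yon Y).map_injective h2)]
  simp

/-- `h_k` is formally etale iff `k` is -/
theorem yon_etale_iff {U V : Over S} (k : U ⟶ V) :
    IsFormallyEtaleMor ((yon S).map k) ↔ MoreMor.IsFormallyEtaleHom k.left := by
  rw [etale_iff, yon_smooth_iff, yon_unram_iff]
  refine ⟨fun h A _ I hI a b e => ?_, fun h => ⟨fun A _ I hI a b e => (h A I hI a b e).exists,
    formallyUnramified_of_isFormallyEtaleHom _ h⟩⟩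
  obtain ⟨l, hl⟩ := h.1 A I hI a b e
  have := h.2
  exact ⟨l, hl, fun l' hl' => lift_unique I k.left hI (hl'.1.trans hl.1.symm) (hl'.2.trans hl.2.symm)⟩

/-- formal etaleness is local, given formal unramifiedness -/
theorem isFormallyEtaleHom_of_appLE {X Y : Scheme.{u}} (f : X ⟶ Y) [FormallyUnramified f]
    (h : ∀ x : X, ∃ (V : Y.Opens) (_ : IsAffineOpen V) (U : X.Opens) (_ : IsAffineOpen U) (e : U ≤ f ⁻¹ᵁ V),
      x ∈ U ∧ (f.appLE V U e).hom.FormallyEtale) : MoreMor.IsFormallyEtaleHom f := by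
  let k : Over.mk f ⟶ Over.mk (𝟙 Y) := Over.homMk f
  refine (yon_etale_iff k).1 (etale_iff.2 ⟨?_, (yon_unram_iff k).2 ‹_›⟩)
  intro sq
  refine hasLift_of_local ((yon_unram_iff k).2 ‹_›) sq fun t => ?_
  have := surjective_specQuot sq.I sq.sq_zero
  obtain ⟨t₀, rfl⟩ := (specQuot sq.I).surjective t
  obtain ⟨a, ha⟩ := exists_map_eq sq.top
  obtain ⟨b, hb⟩ := exists_map_eq sq.bot
  have e : a ≫ k = sq.j ≫ b := (yon Y).map_injective (by rw [Functor.map_comp, Functor.map_comp, ha, hb, sq.comm])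
  have e' : a.left ≫ f = specQuot sq.I ≫ b.left := congrArg (fun q => q.left) e
  obtain ⟨V, hV, U, hU, hle, hxU, hfe⟩ := h (a.left t₀)
  obtain ⟨W₀, hW₀, hW₀e⟩ := (specQuot sq.I).isEmbedding.isInducing.isOpen_iff.1 (a.left ⁻¹ᵁ U).isOpen
  have htW : specQuot sq.I t₀ ∈ (W₀ ∩ (b.left ⁻¹ᵁ V).1) := by
    refine ⟨hW₀e.ge hxU, ?_⟩
    change b.left (specQuot sq.I t₀) ∈ V
    have h1 : (a.left ≫ f) t₀ ∈ V := hle hxU
    rw [e'] at h1
    exact h1
  obtain ⟨_, ⟨g, rfl⟩, hg, hgW⟩ := PrimeSpectrum.isTopologicalBasis_basic_opens.exists_subset_of_mem_open htW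
    (hW₀.inter (b.left ⁻¹ᵁ V).isOpen)
  let C := Localization.Away g
  have hrange : ∀ c : Spec (CommRingCat.of C), (gC sq C).left c ∈ (PrimeSpectrum.basicOpen g : Set (PrimeSpectrum sq.A)) :=
    fun c => (PrimeSpectrum.localization_away_comap_range C g).le ⟨c, rfl⟩
  refine ⟨C, inferInstance, inferInstance, ?_, ?_, ?_⟩
  · change Etale (Spec.map _)
    rw [HasRingHomProperty.Spec_iff (P := @Etale)]
    exact RingHom.etale_algebraMap.2 (Algebra.Etale.of_isLocalizationAway g)
  · exact (PrimeSpectrum.localization_away_comap_range C g).ge hg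
  let J := sq.I.map (algebraMap sq.A C)
  -- the ring problem
  obtain ⟨β, hβ⟩ : ∃ β : Γ(Y, V) ⟶ CommRingCat.of C, Spec.map β ≫ hV.fromSpec = (gC sq C).left ≫ b.left := by
    have hr : Set.range ((gC sq C).left ≫ b.left) ⊆ Set.range hV.fromSpec := by
      rintro _ ⟨c, rfl⟩
      rw [hV.range_fromSpec, Scheme.Hom.comp_apply]
      exact (hgW (hrange c)).2
    exact ⟨Spec.preimage (IsOpenImmersion.lift hV.fromSpec _ hr), by
      rw [Spec.map_preimage, IsOpenImmersion.lift_fac]⟩
  obtain ⟨α, hα⟩ : ∃ α : Γ(X, U) ⟶ CommRingCat.of (C ⧸ J),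
      Spec.map α ≫ hU.fromSpec = (gC₀ sq C).left ≫ a.left := by
    have hr : Set.range ((gC₀ sq C).left ≫ a.left) ⊆ Set.range hU.fromSpec := by
      rintro _ ⟨c, rfl⟩
      rw [hU.range_fromSpec, Scheme.Hom.comp_apply]
      have hw : (gC sq C).left ((jC sq C).left c) = specQuot sq.I ((gC₀ sq C).left c) :=
        congrArg (fun q => q c) (isPullback_specQuot (C := C) sq.I).w
      have := (hgW (hrange ((jC sq C).left c))).1
      rw [hw] at this
      exact hW₀e.le this
    exact ⟨Spec.preimage (IsOpenImmersion.lift hU.fromSpec _ hr), by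
      rw [Spec.map_preimage, IsOpenImmersion.lift_fac]⟩
  have hc : f.appLE V U hle ≫ α = β ≫ CommRingCat.ofHom (Ideal.Quotient.mk J) := by
    apply Spec.map_injective
    rw [← cancel_mono hV.fromSpec, Spec.map_comp, Spec.map_comp, Category.assoc, Category.assoc,
      hV.SpecMap_appLE_fromSpec f hU hle, reassoc_of% hα, hβ]
    exact (congrArg ((gC₀ sq C).left ≫ ·) e').trans ((Category.assoc _ _ _).symm.trans
      ((congrArg (· ≫ b.left) (isPullback_specQuot (C := C) sq.I).w.symm).trans (Category.assoc _ _ _)))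
  let : Algebra Γ(Y, V) Γ(X, U) := (f.appLE V U hle).hom.toAlgebra
  let : Algebra Γ(Y, V) C := β.hom.toAlgebra
  have : Algebra.FormallyEtale Γ(Y, V) Γ(X, U) := hfe
  let α' : Γ(X, U) →ₐ[Γ(Y, V)] C ⧸ J := AlgHom.mk α.hom fun r => congrArg (fun q => q.hom r) hc
  obtain ⟨L, hL⟩ := Algebra.FormallySmooth.comp_surjective Γ(Y, V) Γ(X, U) J (sq_zero_map sq C) α'
  have hL₁ : CommRingCat.ofHom L.toRingHom ≫ CommRingCat.ofHom (Ideal.Quotient.mk J) = α :=
    CommRingCat.hom_ext (congrArg AlgHom.toRingHom hL)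
  have hL₂ : f.appLE V U hle ≫ CommRingCat.ofHom L.toRingHom = β := CommRingCat.hom_ext L.comp_algebraMap
  have hlf : (Spec.map (CommRingCat.ofHom L.toRingHom) ≫ hU.fromSpec) ≫ f = (gC sq C).left ≫ b.left := by
    rw [Category.assoc, ← hV.SpecMap_appLE_fromSpec f hU hle, ← Category.assoc, ← Spec.map_comp, hL₂, hβ]
  let l : ptC sq C ⟶ Over.mk f := Over.homMk (Spec.map (CommRingCat.ofHom L.toRingHom) ≫ hU.fromSpec) (by
    refine hlf.trans ?_
    have hbw : b.left = sq.str := (Category.comp_id _).symm.trans (Over.w b)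
    rw [hbw]; rfl)
  refine ⟨(yon Y).map l, ?_, ?_⟩
  · rw [← hb, ← Functor.map_comp, ← Functor.map_comp]
    exact congrArg (yon Y).map (Over.OverMorphism.ext hlf)
  · rw [← ha, ← Functor.map_comp, ← Functor.map_comp]
    refine congrArg (yon Y).map (Over.OverMorphism.ext ?_)
    change specQuot J ≫ Spec.map (CommRingCat.ofHom L.toRingHom) ≫ hU.fromSpec = _
    rw [← Category.assoc, ← Spec.map_comp, hL₁, hα]
    rfl

/-- flat, unramified, finite type algebras are formally etale, locally -/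
theorem exists_away_formallyEtale {A B : Type u} [CommRing A] [CommRing B] [Algebra A B] [Module.Flat A B]
    [Algebra.FiniteType A B] [Algebra.FormallyUnramified A B] (q : Ideal B) [q.IsPrime] :
    ∃ g ∉ q, Algebra.FormallyEtale A (Localization.Away g) := by
  obtain ⟨g, hg, hs⟩ := Algebra.IsUnramifiedAt.exists_hasStandardEtaleSurjectionOn (R := A) q
  obtain ⟨P, φ, hφ⟩ := hs
  refine ⟨g, hg, ?_⟩
  let : Algebra P.Ring (Localization.Away g) := φ.toRingHom.toAlgebra
  have : IsScalarTower A P.Ring (Localization.Away g) := .of_algebraMap_eq fun x => (φ.commutes x).symm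
  have : Module.Flat B (Localization.Away g) := IsLocalization.flat _ (Submonoid.powers g)
  have : Module.Flat A (Localization.Away g) := Module.Flat.trans A B _
  have : Module.Flat P.Ring (Localization.Away g) :=
    Algebra.FormallyUnramified.flat_of_restrictScalars A P.Ring (Localization.Away g)
  let J := RingHom.ker (algebraMap P.Ring (Localization.Away g))
  have hJ : J * J = J := by
    have h := LinearMap.ker_inf_smul_top_eq_smul_of_flat J (Algebra.linearMap P.Ring (Localization.Away g)) hφ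
    have hJ' : LinearMap.ker (Algebra.linearMap P.Ring (Localization.Away g)) = J := rfl
    rw [hJ', smul_eq_mul, smul_eq_mul, ← Ideal.one_eq_top, mul_one, inf_idem] at h
    exact h.symm
  have : Algebra.FormallyEtale P.Ring (Localization.Away g) :=
    (Algebra.FormallyEtale.iff_of_surjective hφ).2 (show IsIdempotentElem J from hJ)
  exact Algebra.FormallyEtale.comp A P.Ring _

theorem isFormallyEtaleHom_of_flat_unramified {X Y : Scheme.{u}} (f : X ⟶ Y) [Flat f] [FormallyUnramified f]
    [LocallyOfFiniteType f] : MoreMor.IsFormallyEtaleHom f := by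
  refine isFormallyEtaleHom_of_appLE f fun x => ?_
  obtain ⟨V, hV, hxV, -⟩ := exists_isAffineOpen_mem_and_subset (X := Y) (x := f x) (U := ⊤) trivial
  obtain ⟨U, hU, hxU, e⟩ := exists_isAffineOpen_mem_and_subset (X := X) (x := x) (U := f ⁻¹ᵁ V) hxV
  let : Algebra Γ(Y, V) Γ(X, U) := (f.appLE V U e).hom.toAlgebra
  have : Module.Flat Γ(Y, V) Γ(X, U) := HasRingHomProperty.appLE @Flat f ‹_› ⟨V, hV⟩ ⟨U, hU⟩ e
  have : Algebra.FiniteType Γ(Y, V) Γ(X, U) :=
    HasRingHomProperty.appLE @LocallyOfFiniteType f ‹_› ⟨V, hV⟩ ⟨U, hU⟩ e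
  have : Algebra.FormallyUnramified Γ(Y, V) Γ(X, U) := f.formallyUnramified_appLE hV hU e
  obtain ⟨g, hg, hfe⟩ := exists_away_formallyEtale (A := Γ(Y, V)) (hU.primeIdealOf ⟨x, hxU⟩).asIdeal
  refine ⟨V, hV, X.basicOpen g, hU.basicOpen g, (X.basicOpen_le g).trans e, ?_, ?_⟩
  · have : hU.primeIdealOf ⟨x, hxU⟩ ∈ PrimeSpectrum.basicOpen g := hg
    rw [← hU.fromSpec_preimage_basicOpen g] at this
    have h2 : hU.fromSpec (hU.primeIdealOf ⟨x, hxU⟩) ∈ X.basicOpen g := this
    rwa [hU.fromSpec_primeIdealOf] at h2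
  · have := hU.isLocalization_basicOpen g
    let : Algebra Γ(Y, V) Γ(X, X.basicOpen g) := (f.appLE V (X.basicOpen g) ((X.basicOpen_le g).trans e)).hom.toAlgebra
    have : IsScalarTower Γ(Y, V) Γ(X, U) Γ(X, X.basicOpen g) := .of_algebraMap_eq fun r => by
      change _ = (X.presheaf.map (homOfLE (X.basicOpen_le g)).op).hom ((f.appLE V U e).hom r)
      rw [← CommRingCat.comp_apply, Scheme.Hom.appLE_map]
      rfl
    exact Algebra.FormallyEtale.of_equiv
      ((IsLocalization.algEquiv (Submonoid.powers g) (Localization.Away g) Γ(X, X.basicOpen g)).restrictScalars Γ(Y, V))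

/-- formally etale + lfp is etale -/
theorem etale_of_isFormallyEtaleHom {X Y : Scheme.{u}} (f : X ⟶ Y) [LocallyOfFinitePresentation f]
    (h : MoreMor.IsFormallyEtaleHom f) : Etale f := by
  refine (HasRingHomProperty.iff_appLE (P := @Etale)).2 fun V U e => ?_
  let : Algebra Γ(Y, V.1) Γ(X, U.1) := (f.appLE V.1 U.1 e).hom.toAlgebra
  have hfp : Algebra.FinitePresentation Γ(Y, V.1) Γ(X, U.1) :=
    HasRingHomProperty.appLE @LocallyOfFinitePresentation f ‹_› V U e
  have := formallyUnramified_of_isFormallyEtaleHom f h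
  have hu : Algebra.FormallyUnramified Γ(Y, V.1) Γ(X, U.1) := f.formallyUnramified_appLE V.2 U.2 e
  refine RingHom.etale_algebraMap.2 ⟨?_, hfp⟩
  refine Algebra.FormallyEtale.iff_formallyUnramified_and_formallySmooth.2 ⟨hu, ?_⟩
  refine Algebra.FormallySmooth.iff_comp_surjective.2 fun B _ _ I hI ψ => ?_
  obtain ⟨l, ⟨hl₁, hl₂⟩, -⟩ := h B I hI (Spec.map (CommRingCat.ofHom ψ.toRingHom) ≫ U.2.fromSpec)
    (Spec.map (CommRingCat.ofHom (algebraMap Γ(Y, V.1) B)) ≫ V.2.fromSpec) (by
      rw [Category.assoc, ← V.2.SpecMap_appLE_fromSpec f U.2 e, ← Category.assoc, ← Category.assoc,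
        ← Spec.map_comp, ← Spec.map_comp]
      congr 2
      exact CommRingCat.hom_ext ψ.comp_algebraMap.symm)
  have hr : Set.range l ⊆ Set.range U.2.fromSpec := by
    rintro _ ⟨p, rfl⟩
    have := surjective_specQuot I hI
    obtain ⟨q, rfl⟩ := (specQuot I).surjective p
    rw [← Scheme.Hom.comp_apply, hl₁, Scheme.Hom.comp_apply]
    exact ⟨_, rfl⟩
  obtain ⟨γ, hγ⟩ : ∃ γ : Γ(X, U.1) ⟶ CommRingCat.of B, Spec.map γ ≫ U.2.fromSpec = l :=
    ⟨Spec.preimage (IsOpenImmersion.lift U.2.fromSpec l hr), by rw [Spec.map_preimage, IsOpenImmersion.lift_fac]⟩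
  have hγ₂ : f.appLE V.1 U.1 e ≫ γ = CommRingCat.ofHom (algebraMap Γ(Y, V.1) B) := by
    apply Spec.map_injective
    rw [← cancel_mono V.2.fromSpec, Spec.map_comp, Category.assoc, V.2.SpecMap_appLE_fromSpec f U.2 e,
      reassoc_of% hγ, hl₂]
  refine ⟨AlgHom.mk γ.hom fun r => congrArg (fun q => q.hom r) hγ₂, ?_⟩
  have hγ₁ : γ ≫ CommRingCat.ofHom (Ideal.Quotient.mk I) = CommRingCat.ofHom ψ.toRingHom := by
    apply Spec.map_injective
    rw [← cancel_mono U.2.fromSpec, Spec.map_comp, Category.assoc, hγ, hl₁]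
  exact AlgHom.ext fun r => congrArg (fun q => q.hom r) hγ₁

end Groth.Agent.InfLift
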