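import Groth.Agent.InfLift.Square
import Groth.Agent.AlgSpLib.Sigma
import Groth.Agent.AlgSpLib.Basic
import Groth.Prelude.Def_AlgSpInf

/-!
# Infinitesimal lifting for maps of fppf sheaves
-/

universe u

open CategoryTheory CategoryTheory.Limits AlgebraicGeometry AlgSp Opposite
open Groth.Agent.AlgSpLib

set_option backward.isDefEq.respectTransparency false

namespace Groth.Agent.InfLift

variable {S : Scheme.{u}} {F G H : Sp S}

/-- reduction of a lifting square of a representable map to schemes -/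
theorem exists_scheme_square {a : F ⟶ G} {P : MorphismProperty Scheme.{u}} (ha : RepWith P a) (sq : InfSq a) :
    ∃ (W : Over S) (fst : (yon S).obj W ⟶ F) (snd : W ⟶ sq.ptT') (w₀ : sq.ptT ⟶ W),
      IsPullback fst ((yon S).map snd) a sq.bot ∧ P snd.left ∧
      (yon S).map w₀ ≫ fst = sq.top ∧ w₀ ≫ snd = sq.j := by
  obtain ⟨W, fst, snd, sqP, hP⟩ := exists_repWith ha sq.bot
  obtain ⟨w₀, hw₀⟩ := exists_map_eq (sqP.lift sq.top ((yon S).map sq.j) sq.comm)
  refine ⟨W, fst, snd, w₀, sqP, hP, by rw [hw₀, sqP.lift_fst], (yon S).map_injective ?_⟩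
  rw [Functor.map_comp, hw₀, sqP.lift_snd]

theorem hasLift_of_repWith {a : F ⟶ G} {P : MorphismProperty Scheme.{u}}
    (hP : ∀ ⦃X Y : Scheme.{u}⦄ (f : X ⟶ Y), P f → MoreMor.IsFormallySmoothHom f) (ha : RepWith P a) :
    IsFormallySmoothMor a := by
  intro sq
  obtain ⟨W, fst, snd, w₀, sqP, h, h1, h2⟩ := exists_scheme_square ha sq
  obtain ⟨l, hl₁, hl₂⟩ := hP snd.left h sq.A sq.I sq.sq_zero w₀.left (𝟙 _)
    ((Category.comp_id _).trans (congrArg (fun k => k.left) h2).symm)
  let L : sq.ptT' ⟶ W := Over.homMk l (by rw [← Over.w snd, ← Category.assoc, hl₂]; exact Category.id_comp _)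
  have e1 : sq.j ≫ L = w₀ := Over.OverMorphism.ext hl₁
  have e2 : L ≫ snd = 𝟙 _ := Over.OverMorphism.ext hl₂
  refine ⟨(yon S).map L ≫ fst, by rw [← Functor.map_comp_assoc, e1, h1], ?_⟩
  rw [Category.assoc, sqP.w, ← Functor.map_comp_assoc, e2]
  erw [CategoryTheory.Functor.map_id, Category.id_comp]

theorem hasUniq_of_repWith {a : F ⟶ G} {P : MorphismProperty Scheme.{u}}
    (hP : ∀ ⦃X Y : Scheme.{u}⦄ (f : X ⟶ Y), P f → FormallyUnramified f) (ha : RepWith P a) :
    IsFormallyUnramifiedMor a := by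
  intro sq l l' hl1 hl2 hl1' hl2'
  obtain ⟨W, fst, snd, w₀, sqP, h, h1, h2⟩ := exists_scheme_square ha sq
  have := hP snd.left h
  obtain ⟨L, hL⟩ := exists_map_eq (sqP.lift l (𝟙 _) (by rw [hl2, Category.id_comp]))
  obtain ⟨L', hL'⟩ := exists_map_eq (sqP.lift l' (𝟙 _) (by rw [hl2', Category.id_comp]))
  suffices L = L' by rw [← sqP.lift_fst l (𝟙 _) (by rw [hl2, Category.id_comp]), ← hL, this, hL', sqP.lift_fst]
  have e1 : sq.j ≫ L = sq.j ≫ L' := (yon S).map_injective (by
    rw [Functor.map_comp, Functor.map_comp, hL, hL']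
    apply sqP.hom_ext <;> simp only [Category.assoc, sqP.lift_fst, sqP.lift_snd, hl1, hl1'])
  have e2 : L ≫ snd = L' ≫ snd := (yon S).map_injective (by
    rw [Functor.map_comp, Functor.map_comp, hL, hL', sqP.lift_snd, sqP.lift_snd])
  exact Over.OverMorphism.ext (lift_unique sq.I snd.left sq.sq_zero
    (congrArg (fun k => k.left) e1) (congrArg (fun k => k.left) e2))

theorem hasUniqLift_of_repWith {a : F ⟶ G} {P : MorphismProperty Scheme.{u}}
    (hP : ∀ ⦃X Y : Scheme.{u}⦄ (f : X ⟶ Y), P f → Etale f) (ha : RepWith P a) : IsFormallyEtaleMor a := by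
  intro sq
  obtain ⟨l, hl⟩ := hasLift_of_repWith (P := P) (fun _ _ f h => by
    have := hP f h
    intro A _ I hI a b e
    exact (isFormallyEtaleHom_of_etale f A I hI a b e).exists) ha sq
  exact ⟨l, hl, fun l' hl' => hasUniq_of_repWith (P := P) (fun _ _ f h => have := hP f h; inferInstance) ha
    sq l' l hl'.1 hl'.2 hl.1 hl.2⟩

/-- the thickened affine scheme of an algebra -/
noncomputable abbrev ptC {f : F ⟶ G} (sq : InfSq f) (C : Type u) [CommRing C] [Algebra sq.A C] : Over S :=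
  Over.mk (Spec.map (CommRingCat.ofHom (algebraMap sq.A C)) ≫ sq.str)

/-- its closed subscheme -/
noncomputable abbrev ptC₀ {f : F ⟶ G} (sq : InfSq f) (C : Type u) [CommRing C] [Algebra sq.A C] : Over S :=
  Over.mk (specQuot (sq.I.map (algebraMap sq.A C)) ≫ Spec.map (CommRingCat.ofHom (algebraMap sq.A C)) ≫ sq.str)

noncomputable abbrev jC {f : F ⟶ G} (sq : InfSq f) (C : Type u) [CommRing C] [Algebra sq.A C] :
    ptC₀ sq C ⟶ ptC sq C :=
  Over.homMk (specQuot (sq.I.map (algebraMap sq.A C))) rfl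

noncomputable abbrev gC {f : F ⟶ G} (sq : InfSq f) (C : Type u) [CommRing C] [Algebra sq.A C] :
    ptC sq C ⟶ sq.ptT' :=
  Over.homMk (Spec.map (CommRingCat.ofHom (algebraMap sq.A C))) rfl

noncomputable abbrev gC₀ {f : F ⟶ G} (sq : InfSq f) (C : Type u) [CommRing C] [Algebra sq.A C] :
    ptC₀ sq C ⟶ sq.ptT :=
  Over.homMk (Spec.map (CommRingCat.ofHom (Ideal.quotientMap (sq.I.map (algebraMap sq.A C)) (algebraMap sq.A C)
    Ideal.le_comap_map))) (by
      change _ ≫ Spec.map (CommRingCat.ofHom (Ideal.Quotient.mk sq.I)) ≫ sq.str = _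
      rw [← Category.assoc, ← (isPullback_specQuot (C := C) sq.I).w, Category.assoc]
      rfl)

lemma isPullback_jC {f : F ⟶ G} (sq : InfSq f) (C : Type u) [CommRing C] [Algebra sq.A C] :
    IsPullback ((yon S).map (jC sq C)) ((yon S).map (gC₀ sq C)) ((yon S).map (gC sq C)) ((yon S).map sq.j) :=
  isPullback_yon_iff.2 (isPullback_specQuot sq.I)

lemma sq_zero_map {f : F ⟶ G} (sq : InfSq f) (C : Type u) [CommRing C] [Algebra sq.A C] :
    sq.I.map (algebraMap sq.A C) ^ 2 = ⊥ := by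
  rw [← Ideal.map_pow, sq.sq_zero, Ideal.map_bot]

/-- a square over an algebra of a given one -/
noncomputable def mkSq {f : F ⟶ G} (sq : InfSq f) (C : Type u) [CommRing C] [Algebra sq.A C] {E K : Sp S}
    (k : E ⟶ K) (top : (yon S).obj (ptC₀ sq C) ⟶ E) (bot : (yon S).obj (ptC sq C) ⟶ K)
    (w : top ≫ k = (yon S).map (jC sq C) ≫ bot) : InfSq k where
  A := C
  I := sq.I.map (algebraMap sq.A C)
  sq_zero := sq_zero_map sq C
  str := Spec.map (CommRingCat.ofHom (algebraMap sq.A C)) ≫ sq.str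
  top := top
  bot := bot
  comm := w

lemma comm_C {f : F ⟶ G} (sq : InfSq f) (C : Type u) [CommRing C] [Algebra sq.A C] :
    ((yon S).map (gC₀ sq C) ≫ sq.top) ≫ f = (yon S).map (jC sq C) ≫ (yon S).map (gC sq C) ≫ sq.bot := by
  rw [Category.assoc, sq.comm, ← Category.assoc, ← Category.assoc, (isPullback_jC sq C).w]

/-- two local lifts agree, when lifts are unique -/
theorem eq_of_affine {b : G ⟶ H} (hb : IsFormallyUnramifiedMor b) (sq : InfSq b) {V : Over S}
    (q : V ⟶ sq.ptT') (l l' : (yon S).obj V ⟶ G) (hf : l ≫ b = (yon S).map q ≫ sq.bot)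
    (hf' : l' ≫ b = (yon S).map q ≫ sq.bot)
    (hj : ∀ ⦃W : Over S⦄ (p : W ⟶ V) (r : W ⟶ sq.ptT), p ≫ q = r ≫ sq.j →
      (yon S).map p ≫ l = (yon S).map p ≫ l') : l = l' := by
  refine hom_ext_cover (R := Presieve.ofArrows V.left.affineCover.X V.left.affineCover.f)
    (Scheme.zariskiPrecoverage_le_fppfPrecoverage _ V.left.affineCover.mem₀) ?_
  rintro _ _ ⟨i⟩
  let c : Over.mk (V.left.affineCover.f i ≫ V.hom) ⟶ V := Over.homMk (V.left.affineCover.f i) rfl
  obtain ⟨φ, hφ⟩ : ∃ φ : CommRingCat.of sq.A ⟶ Γ(V.left.affineCover.X i, ⊤),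
      Spec.map φ = (V.left.affineCover.X i).isoSpec.inv ≫ (c ≫ q).left := ⟨Spec.preimage _, Spec.map_preimage _⟩
  let : Algebra sq.A Γ(V.left.affineCover.X i, ⊤) := φ.hom.toAlgebra
  have hg : (V.left.affineCover.X i).isoSpec.inv ≫ (c ≫ q).left =
      Spec.map (CommRingCat.ofHom (algebraMap sq.A Γ(V.left.affineCover.X i, ⊤))) := hφ.symm
  let d : ptC sq Γ(V.left.affineCover.X i, ⊤) ⟶ Over.mk (V.left.affineCover.f i ≫ V.hom) :=
    Over.homMk (V.left.affineCover.X i).isoSpec.inv (by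
      calc (V.left.affineCover.X i).isoSpec.inv ≫ (Over.mk (V.left.affineCover.f i ≫ V.hom)).hom
          = ((V.left.affineCover.X i).isoSpec.inv ≫ (c ≫ q).left) ≫ sq.ptT'.hom := by
            rw [Category.assoc, Over.w]
        _ = _ := by rw [hg]; rfl)
  have hd : d ≫ c ≫ q = gC sq _ := Over.OverMorphism.ext hg
  have : IsIso d.left := inferInstanceAs (IsIso (V.left.affineCover.X i).isoSpec.inv)
  have : IsIso d := (Over.isoMk (asIso d.left) (Over.w d)).isIso_hom
  suffices (yon S).map d ≫ (yon S).map c ≫ l = (yon S).map d ≫ (yon S).map c ≫ l' from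
    (cancel_epi ((yon S).map d)).1 this
  have hb₁ : ((yon S).map d ≫ (yon S).map c ≫ l) ≫ b = (yon S).map (gC sq _) ≫ sq.bot := by
    rw [← hd]; simp only [Functor.map_comp, Category.assoc, hf]
  have hb₂ : ((yon S).map d ≫ (yon S).map c ≫ l') ≫ b = (yon S).map (gC sq _) ≫ sq.bot := by
    rw [← hd]; simp only [Functor.map_comp, Category.assoc, hf']
  have he : (yon S).map (jC sq _) ≫ (yon S).map d ≫ (yon S).map c ≫ l =
      (yon S).map (jC sq _) ≫ (yon S).map d ≫ (yon S).map c ≫ l' := by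
    have := hj (jC sq Γ(V.left.affineCover.X i, ⊤) ≫ d ≫ c) (gC₀ sq _) (by
      rw [Category.assoc, Category.assoc, hd]
      exact (yon S).map_injective (by rw [Functor.map_comp, Functor.map_comp, (isPullback_jC sq _).w]))
    simpa only [Functor.map_comp, Category.assoc] using this
  refine hb (mkSq sq _ b ((yon S).map (jC sq _) ≫ (yon S).map d ≫ (yon S).map c ≫ l)
    ((yon S).map (gC sq _) ≫ sq.bot) ?_) _ _ rfl hb₁ he.symm hb₂
  rw [Category.assoc, hb₁]

/-- lifts that exist etale locally glue, when they are unique -/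
theorem hasLift_of_local {b : G ⟶ H} (hb : IsFormallyUnramifiedMor b) (sq : InfSq b)
    (hloc : ∀ t : ↥sq.ptT'.left, ∃ (C : Type u) (_ : CommRing C) (_ : Algebra sq.A C),
      Etale (gC sq C).left ∧ t ∈ Set.range (gC sq C).left ∧ ∃ l : (yon S).obj (ptC sq C) ⟶ G,
        l ≫ b = (yon S).map (gC sq C) ≫ sq.bot ∧ (yon S).map (jC sq C) ≫ l = (yon S).map (gC₀ sq C) ≫ sq.top) :
    sq.HasLift := by
  choose C i₁ i₂ he ht l hl₁ hl₂ using hloc
  let Z : ↥sq.ptT'.left → Scheme.{u} := fun t => (ptC sq (C t)).left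
  let f : ∀ t, Z t ⟶ S := fun t => (ptC sq (C t)).hom
  let ι : ∀ t, ptC sq (C t) ⟶ Over.mk (Sigma.desc f) := fun t => Over.homMk (Sigma.ι Z t) (Sigma.ι_desc f t)
  obtain ⟨L, hL⟩ : ∃ L : (yon S).obj (Over.mk (Sigma.desc f)) ⟶ G, ∀ t, (yon S).map (ι t) ≫ L = l t :=
    exists_sigma_hom f l
  let g : Over.mk (Sigma.desc f) ⟶ sq.ptT' := Over.homMk (Sigma.desc fun t => (gC sq (C t)).left) (by
    refine Sigma.hom_ext _ _ fun t => ?_
    exact (Sigma.ι_desc_assoc _ _ _).trans (Sigma.ι_desc f t).symm)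
  have hg : ∀ t, ι t ≫ g = gC sq (C t) := fun t => Over.OverMorphism.ext (Sigma.ι_desc _ _)
  have : Etale g.left := (IsZariskiLocalAtSource.iff_of_openCover (P := @Etale) (sigmaOpenCover Z)).2
    fun t => by
      have := he t
      rw [← hg t] at this
      exact this
  have : Surjective g.left := ⟨fun t => by
    obtain ⟨x, hx⟩ := ht t
    exact ⟨(ι t).left x, (congrArg (fun k => k.left x) (hg t)).trans hx⟩⟩
  have hbot : L ≫ b = (yon S).map g ≫ sq.bot := by
    refine hom_ext_cover (R := Presieve.ofArrows Z (Sigma.ι Z))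
      (Scheme.zariskiPrecoverage_le_fppfPrecoverage _ (sigmaOpenCover Z).mem₀) ?_
    rintro _ _ ⟨t⟩
    let e : Over.mk (Sigma.ι Z t ≫ (Over.mk (Sigma.desc f)).hom) ⟶ ptC sq (C t) :=
      Over.homMk (𝟙 _) ((Category.id_comp _).trans (Sigma.ι_desc f t).symm)
    rw [show (Over.homMk (Sigma.ι Z t) rfl :
        Over.mk (Sigma.ι Z t ≫ (Over.mk (Sigma.desc f)).hom) ⟶ Over.mk (Sigma.desc f)) = e ≫ ι t
      from Over.OverMorphism.ext (Category.id_comp _).symm]
    simp only [Functor.map_comp, Category.assoc]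
    rw [reassoc_of% hL, hl₁, ← Functor.map_comp_assoc (yon S) (ι t), hg]
  -- on the closed part the glued map is the given one
  have htop : ∀ ⦃W : Over S⦄ (p : W ⟶ Over.mk (Sigma.desc f)) (r : W ⟶ sq.ptT), p ≫ g = r ≫ sq.j →
      (yon S).map p ≫ L = (yon S).map r ≫ sq.top := by
    intro W p r e
    refine hom_ext_cover (Scheme.zariskiPrecoverage_le_fppfPrecoverage _
      ((sigmaOpenCover Z).pullback₁ p.left).mem₀) ?_
    rintro _ _ ⟨t⟩
    let c : Over.mk (((sigmaOpenCover Z).pullback₁ p.left).f t ≫ W.hom) ⟶ W :=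
      Over.homMk (((sigmaOpenCover Z).pullback₁ p.left).f t) rfl
    let x : Over.mk (((sigmaOpenCover Z).pullback₁ p.left).f t ≫ W.hom) ⟶ ptC sq (C t) :=
      Over.homMk (pullback.snd p.left (Sigma.ι Z t)) (by
        change pullback.snd p.left (Sigma.ι Z t) ≫ f t = pullback.fst p.left (Sigma.ι Z t) ≫ W.hom
        rw [← Sigma.ι_desc f t, ← pullback.condition_assoc]
        exact congrArg (pullback.fst p.left (Sigma.ι Z t) ≫ ·) (Over.w p))
    have hx : x ≫ ι t = c ≫ p := Over.OverMorphism.ext pullback.condition.symm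
    obtain ⟨y, hy⟩ := exists_map_eq ((isPullback_jC sq (C t)).lift ((yon S).map x) ((yon S).map (c ≫ r)) (by
      rw [← Functor.map_comp, ← Functor.map_comp, ← hg, Category.assoc, ← e, reassoc_of% hx]))
    change (yon S).map c ≫ _ = (yon S).map c ≫ _
    rw [← Functor.map_comp_assoc, ← hx, Functor.map_comp, Category.assoc, hL,
      ← (isPullback_jC sq (C t)).lift_fst ((yon S).map x) ((yon S).map (c ≫ r)) (by
        rw [← Functor.map_comp, ← Functor.map_comp, ← hg, Category.assoc, ← e, reassoc_of% hx]),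
      ← hy, Category.assoc, hl₂, ← Category.assoc, hy, IsPullback.lift_snd, Functor.map_comp, Category.assoc]
  obtain ⟨β, hβ⟩ := exists_desc g L (fun W p q e => by
    refine eq_of_affine hb sq (p ≫ g) _ _ ?_ ?_ ?_
    · simp only [Functor.map_comp, Category.assoc, hbot]
    · rw [e]; simp only [Functor.map_comp, Category.assoc, hbot]
    · intro W' p' r h
      rw [← Functor.map_comp_assoc, ← Functor.map_comp_assoc, htop (p' ≫ p) r (by rw [Category.assoc, h]),
        htop (p' ≫ q) r (by rw [Category.assoc, ← e, h])])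
  have := epi_yon_map g
  refine ⟨β, ?_, (cancel_epi ((yon S).map g)).1 (by rw [reassoc_of% hβ, hbot])⟩
  obtain ⟨W, p, r, sqW⟩ : ∃ (W : Over S) (p : W ⟶ Over.mk (Sigma.desc f)) (r : W ⟶ sq.ptT),
      IsPullback p.left r.left g.left sq.j.left := by
    refine ⟨Over.mk (pullback.fst g.left sq.j.left ≫ Sigma.desc f), Over.homMk (pullback.fst g.left sq.j.left) rfl,
      Over.homMk (pullback.snd g.left sq.j.left) ?_, IsPullback.of_hasPullback _ _⟩
    change pullback.snd g.left sq.j.left ≫ sq.ptT.hom = _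
    rw [← Over.w sq.j, ← pullback.condition_assoc]
    exact congrArg (pullback.fst g.left sq.j.left ≫ ·) (Over.w g)
  have : Etale r.left := MorphismProperty.of_isPullback sqW ‹Etale g.left›
  have : Surjective r.left := MorphismProperty.of_isPullback sqW ‹Surjective g.left›
  have := epi_yon_map r
  refine (cancel_epi ((yon S).map r)).1 ?_
  have w : p ≫ g = r ≫ sq.j := Over.OverMorphism.ext sqW.w
  rw [← htop p r w, ← Functor.map_comp_assoc, ← w, Functor.map_comp, Category.assoc, hβ]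

/-- through an etale cover of the source a square can be lifted, etale locally -/
theorem exists_local_square {a : F ⟶ G} (ha : RepWith @Etale a) (ha' : RepWith @Surjective a) {b : G ⟶ H}
    (sq : InfSq b) (t : ↥sq.ptT'.left) :
    ∃ (C : Type u) (_ : CommRing C) (_ : Algebra sq.A C),
      Etale (gC sq C).left ∧ t ∈ Set.range (gC sq C).left ∧ ∃ sq' : (yon S).obj (ptC₀ sq C) ⟶ F,
        sq' ≫ a = (yon S).map (gC₀ sq C) ≫ sq.top := by
  obtain ⟨U₀, fst, snd, sqU, he⟩ := exists_repWith ha sq.top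
  have hs : Surjective snd.left := ha'.2 sq.top fst snd sqU
  have : Etale snd.left := he
  have := surjective_specQuot sq.I sq.sq_zero
  obtain ⟨t₀, rfl⟩ := (specQuot sq.I).surjective t
  obtain ⟨u, rfl⟩ := snd.left.surjective t₀
  obtain ⟨C, _, _, hC, w, hw, hu⟩ := exists_etale_ext sq.I snd.left u
  obtain ⟨v, rfl⟩ := hu
  let W : ptC₀ sq C ⟶ U₀ := Over.homMk w (by
    rw [← Over.w snd, ← Category.assoc, hw]
    exact Over.w (gC₀ sq C))
  have hW : W ≫ snd = gC₀ sq C := Over.OverMorphism.ext hw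
  refine ⟨C, inferInstance, inferInstance, ?_, ⟨specQuot (sq.I.map (algebraMap sq.A C)) v, ?_⟩,
    (yon S).map W ≫ fst, ?_⟩
  · change Etale (Spec.map _)
    rw [HasRingHomProperty.Spec_iff (P := @Etale)]
    exact RingHom.etale_algebraMap.2 hC
  · exact ((congrArg (fun k => k v) (isPullback_specQuot (C := C) sq.I).w).trans
      (congrArg (specQuot sq.I) (congrArg (fun k => k v) hw).symm))
  · rw [Category.assoc, sqU.w, ← Functor.map_comp_assoc, hW]

end Groth.Agent.InfLift
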