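import Groth.Agent.InfLift.SchemeSmallExt

/-!
# Smoothness at a point through lifts along square-zero surjections of local rings
-/

universe u

open CategoryTheory AlgebraicGeometry IsLocalRing

set_option backward.isDefEq.respectTransparency false

namespace Groth.Agent.InfLift

theorem kerSquareLift_props {A P S : Type u} [CommRing A] [CommRing P] [Algebra A P] [CommRing S] [Algebra A S]
    (f : P →ₐ[A] S) (hf : Function.Surjective f) :
    Function.Surjective f.kerSquareLift ∧ RingHom.ker f.kerSquareLift.toRingHom ^ 2 = ⊥ := by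
  refine ⟨fun x => ?_, ?_⟩
  · obtain ⟨x, rfl⟩ := hf x
    exact ⟨Ideal.Quotient.mk _ x, rfl⟩
  · have h : RingHom.ker f.kerSquareLift.toRingHom ≤
        (RingHom.ker f.toRingHom).map (Ideal.Quotient.mk (RingHom.ker f.toRingHom ^ 2)) := by
      intro z hz
      obtain ⟨z, rfl⟩ := Ideal.Quotient.mk_surjective z
      exact Ideal.mem_map_of_mem _ hz
    refine le_bot_iff.1 ((Ideal.pow_right_mono h 2).trans (le_of_eq ?_))
    exact (Ideal.map_pow (Ideal.Quotient.mk (RingHom.ker f.toRingHom ^ 2)) (RingHom.ker f.toRingHom) 2).symm.trans (Ideal.map_quotient_self _)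

theorem formallySmooth_of_lift {A R P S : Type u} [CommRing A] [CommRing R] [Algebra A R] [CommRing P] [IsLocalRing P]
    [Algebra A P] [Algebra.FormallySmooth A P] [CommRing S] [IsLocalRing S] [Algebra A S] [Algebra R S]
    [IsScalarTower A R S] (M : Submonoid R) [IsLocalization M S] (fP : P →ₐ[A] S) (hf₁ : Function.Surjective fP)
    (H : ∀ (B' : Type u) [CommRing B'] [IsLocalRing B'] [Algebra A B'] (π : B' →ₐ[A] S),
      Function.Surjective π → RingHom.ker π.toRingHom ^ 2 = ⊥ →
      ∃ g' : R →ₐ[A] B', π.comp g' = IsScalarTower.toAlgHom A R S) :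
    Algebra.FormallySmooth A S := by
  let K := RingHom.ker fP.toRingHom
  have hK : K ^ 2 ≠ ⊤ := fun h => RingHom.ker_ne_top fP.toRingHom (top_le_iff.1 (h ▸ Ideal.pow_le_self two_ne_zero))
  have : Nontrivial (P ⧸ K ^ 2) := Ideal.Quotient.nontrivial_iff.2 hK
  have : IsLocalRing (P ⧸ K ^ 2) := .of_surjective' (Ideal.Quotient.mk _) Ideal.Quotient.mk_surjective
  obtain ⟨hπ, hker⟩ := kerSquareLift_props fP hf₁
  obtain ⟨g', hg'⟩ := H (P ⧸ K ^ 2) fP.kerSquareLift hπ hker
  have : IsLocalHom fP.kerSquareLift.toRingHom := IsLocalHom.of_surjective _ hπ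
  have hu : ∀ r : M, IsUnit (g' r) := fun r =>
    isUnit_of_map_unit fP.kerSquareLift.toRingHom _ (by
      show IsUnit (fP.kerSquareLift.comp g' r)
      rw [hg']
      exact IsLocalization.map_units (M := M) S r)
  refine Algebra.FormallySmooth.of_split fP (IsLocalization.liftAlgHom (M := M) (f := g') hu) ?_
  refine IsLocalization.algHom_ext M (AlgHom.ext fun r => ?_)
  show fP.kerSquareLift (IsLocalization.liftAlgHom (M := M) (f := g') hu (algebraMap R S r)) = algebraMap R S r
  rw [show IsLocalization.liftAlgHom (M := M) (f := g') hu (algebraMap R S r) = g' r from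
    IsLocalization.lift_eq _ r, ← AlgHom.comp_apply, hg']
  rfl

theorem isSmoothAt_of_sq_zero_lift {A R : Type u} [CommRing A] [CommRing R] [Algebra A R]
    [Algebra.FiniteType A R] (q : Ideal R) [q.IsPrime]
    (H : ∀ (B' : Type u) [CommRing B'] [IsLocalRing B'] [Algebra A B'] (π : B' →ₐ[A] Localization.AtPrime q),
      Function.Surjective π → RingHom.ker π.toRingHom ^ 2 = ⊥ →
      ∃ g' : R →ₐ[A] B', π.comp g' = IsScalarTower.toAlgHom A R (Localization.AtPrime q)) :
    Algebra.IsSmoothAt A q := by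
  obtain ⟨n, f₀, hf₀⟩ := Algebra.FiniteType.iff_quotient_mvPolynomial''.mp (inferInstance : Algebra.FiniteType A R)
  let q₀ := q.comap f₀
  have : q₀.IsPrime := Ideal.IsPrime.comap _
  let P := Localization.AtPrime q₀
  let S := Localization.AtPrime q
  let fP : P →ₐ[A] S := IsLocalization.liftAlgHom (M := q₀.primeCompl)
    (f := (IsScalarTower.toAlgHom A R S).comp f₀) fun x => IsLocalization.map_units (M := q.primeCompl) S ⟨f₀ x.1, x.2⟩
  have hf₁ : Function.Surjective fP := by
    intro x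
    obtain ⟨x, ⟨s, hs⟩, rfl⟩ := IsLocalization.exists_mk'_eq q.primeCompl x
    obtain ⟨x, rfl⟩ := hf₀ x
    obtain ⟨s, rfl⟩ := hf₀ s
    refine ⟨IsLocalization.mk' (M := q₀.primeCompl) _ x ⟨s, hs⟩, ?_⟩
    simp [fP, IsLocalization.lift_mk', Units.mul_inv_eq_iff_eq_mul, IsUnit.liftRight]
  have : Algebra.FormallyEtale (MvPolynomial (Fin n) A) P := .of_isLocalization q₀.primeCompl
  have : Algebra.FormallySmooth A P := .comp _ (MvPolynomial (Fin n) A) _
  show Algebra.FormallySmooth A S
  exact formallySmooth_of_lift q.primeCompl fP hf₁ H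

/-- lifts along square-zero surjections of local rings give smoothness at a point -/
theorem mem_smoothLocus_of_local_lift {X Y : Scheme.{u}} (f : X ⟶ Y) [LocallyOfFinitePresentation f] {x : X}
    (H : ∀ (B' B : Type u) [CommRing B'] [CommRing B] [IsLocalRing B'] [IsLocalRing B] (π : B' →+* B),
      Function.Surjective π → RingHom.ker π ^ 2 = ⊥ →
      ∀ (α : Spec (CommRingCat.of B) ⟶ X) (β : Spec (CommRingCat.of B') ⟶ Y), α (closedPoint B) = x →
      Spec.map (CommRingCat.ofHom π) ≫ β = α ≫ f →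
      ∃ γ : Spec (CommRingCat.of B') ⟶ X, Spec.map (CommRingCat.ofHom π) ≫ γ = α ∧ γ ≫ f = β) :
    x ∈ f.smoothLocus := by
  obtain ⟨_, ⟨V, hV, rfl⟩, hxV, -⟩ :=
    Y.isBasis_affineOpens.exists_subset_of_mem_open (Set.mem_univ (f x)) isOpen_univ
  obtain ⟨_, ⟨U, hU, rfl⟩, hx, e⟩ :=
    X.isBasis_affineOpens.exists_subset_of_mem_open hxV (V.2.preimage f.continuous)
  rw [Scheme.Hom.mem_smoothLocus, formallySmooth_stalkMap_iff V hV U hU e hx]
  have := f.finiteType_appLE hV hU e
  algebraize [(f.appLE V U e).hom]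
  refine isSmoothAt_of_sq_zero_lift (hU.primeIdealOf ⟨x, hx⟩).asIdeal ?_
  intro B' _ _ _ π hπ hker
  let q := (hU.primeIdealOf ⟨x, hx⟩).asIdeal
  let g := IsScalarTower.toAlgHom Γ(Y, V) Γ(X, U) (Localization.AtPrime q)
  let gC : Γ(X, U) ⟶ CommRingCat.of (Localization.AtPrime q) := CommRingCat.ofHom g.toRingHom
  let ψ : Γ(Y, V) ⟶ CommRingCat.of B' := CommRingCat.ofHom (algebraMap Γ(Y, V) B')
  have hgψ : f.appLE V U e ≫ gC = ψ ≫ CommRingCat.ofHom π.toRingHom :=
    CommRingCat.hom_ext (RingHom.ext fun r => (g.commutes r).trans (π.commutes r).symm)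
  have hcp : (Spec.map gC ≫ hU.fromSpec) (closedPoint (Localization.AtPrime q)) = x := by
    rw [Scheme.Hom.comp_apply, show Spec.map gC (closedPoint (Localization.AtPrime q)) = hU.primeIdealOf ⟨x, hx⟩ from
      PrimeSpectrum.ext (IsLocalization.AtPrime.under_maximalIdeal (Localization.AtPrime q) q), hU.fromSpec_primeIdealOf]
  obtain ⟨γ, h₁, h₂⟩ := H B' _ π.toRingHom hπ hker (Spec.map gC ≫ hU.fromSpec) (Spec.map ψ ≫ hV.fromSpec) hcp
    (by rw [Category.assoc, ← hV.SpecMap_appLE_fromSpec f hU e, ← Spec.map_comp_assoc, ← Spec.map_comp_assoc, hgψ])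
  have hr : Set.range γ ⊆ Set.range hU.fromSpec := by
    rintro _ ⟨z, rfl⟩
    obtain ⟨w, rfl⟩ := surjective_specMap_of_sq_zero hπ hker z
    exact ⟨Spec.map gC w, (congrArg (fun k => k w) h₁).symm⟩
  obtain ⟨φ, hφ⟩ : ∃ φ : Γ(X, U) ⟶ CommRingCat.of B',
      Spec.map φ = IsOpenImmersion.lift hU.fromSpec γ hr := ⟨_, Spec.map_preimage _⟩
  have hlift : Spec.map φ ≫ hU.fromSpec = γ := by rw [hφ]; exact IsOpenImmersion.lift_fac _ _ _
  have hψ : f.appLE V U e ≫ φ = ψ := by
    apply Spec.map_injective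
    rw [← cancel_mono hV.fromSpec, Spec.map_comp, Category.assoc, hV.SpecMap_appLE_fromSpec f hU e, reassoc_of% hlift,
      h₂]
  have hπφ : φ ≫ CommRingCat.ofHom π.toRingHom = gC := by
    apply Spec.map_injective
    rw [← cancel_mono hU.fromSpec, Spec.map_comp, Category.assoc, hlift, h₁]
  exact ⟨{ φ.hom with commutes' := fun r => congrArg (fun k => k.hom r) hψ },
    AlgHom.ext fun r => congrArg (fun k => k.hom r) hπφ⟩

theorem closedPoint_specMap {B' B : Type u} [CommRing B'] [CommRing B] [IsLocalRing B'] [IsLocalRing B]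
    (π : B' →+* B) (hπ : Function.Surjective π) :
    Spec.map (CommRingCat.ofHom π) (closedPoint B) = closedPoint B' := by
  have : IsLocalHom π := IsLocalHom.of_surjective _ hπ
  exact IsLocalRing.comap_closedPoint π

theorem exists_stalk_hom {X : Scheme.{u}} {B : Type u} [CommRing B] [IsLocalRing B]
    (γ : Spec (CommRingCat.of B) ⟶ X) {x : X} (h : γ (closedPoint B) = x) :
    ∃ g : X.presheaf.stalk x ⟶ CommRingCat.of B, IsLocalHom g.hom ∧ Spec.map g ≫ X.fromSpecStalk x = γ ∧
      (Function.Surjective (Scheme.stalkClosedPointTo γ) → Function.Surjective g) := by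
  subst h
  exact ⟨Scheme.stalkClosedPointTo γ, inferInstance, Scheme.Spec_stalkClosedPointTo_fromSpecStalk _, id⟩

end Groth.Agent.InfLift
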