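import Groth.Agent.InfLift.Scheme
import Mathlib.RingTheory.TensorProduct.Quotient

/-!
# Base change of a thickening of affine schemes
-/

universe u

open TensorProduct CategoryTheory CategoryTheory.Limits AlgebraicGeometry

set_option backward.isDefEq.respectTransparency false

namespace Groth.Agent.InfLift

attribute [local instance] Algebra.TensorProduct.rightAlgebra

theorem isPullback_specQuot {A C : Type u} [CommRing A] [CommRing C] [Algebra A C] (I : Ideal A) :
    IsPullback (specQuot (I.map (algebraMap A C)))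
      (Spec.map (CommRingCat.ofHom (Ideal.quotientMap (I.map (algebraMap A C)) (algebraMap A C) Ideal.le_comap_map)))
      (Spec.map (CommRingCat.ofHom (algebraMap A C))) (specQuot I) := by
  let J := I.map (algebraMap A C)
  let : Algebra (A ⧸ I) (C ⧸ J) := (Ideal.quotientMap J (algebraMap A C) Ideal.le_comap_map).toAlgebra
  have : IsScalarTower A (A ⧸ I) (C ⧸ J) := .of_algebraMap_eq fun a => rfl
  have hpo : Algebra.IsPushout A C (A ⧸ I) (C ⧸ J) := by
    let e : C ⊗[A] (A ⧸ I) ≃ₐ[C] C ⧸ J := (Algebra.TensorProduct.quotIdealMapEquivTensorQuot C I).symm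
    refine Algebra.IsPushout.of_equiv (S' := C ⊗[A] (A ⧸ I)) e (RingHom.ext fun x => ?_)
    obtain ⟨a, rfl⟩ := Ideal.Quotient.mk_surjective x
    change e ((1 : C) ⊗ₜ[A] Ideal.Quotient.mk I a) = Ideal.Quotient.mk J (algebraMap A C a)
    rw [show (Ideal.Quotient.mk I a) = a • (1 : A ⧸ I) from Algebra.algebraMap_eq_smul_one a, ← smul_tmul,
      ← Algebra.algebraMap_eq_smul_one]
    exact e.commutes _
  exact isPullback_SpecMap_of_isPushout _ _ _ _ (CommRingCat.isPushout_of_isPushout A C (A ⧸ I) (C ⧸ J))

end Groth.Agent.InfLift
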