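import Groth.Agent.EtInvariance.FinThickBC
import Groth.Agent.InfLift.SpaceThick

/-!
# Base change of first order thickenings of algebraic spaces
-/

universe u

open CategoryTheory CategoryTheory.Limits AlgebraicGeometry Opposite

set_option backward.isDefEq.respectTransparency false

namespace Groth.Agent.InfLift

open _root_.AlgSp Groth.Agent.AlgSpLib Groth.Agent.EtInvariance

variable {S : Scheme.{u}}

/-- on an etale chart the kernel ideal of an n-th order thickening has vanishing power -/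
theorem ker_pow_of_chart {B B' : Sp S} {iB : B ⟶ B'} {n : ℕ} (hB : IsNThickMor n iB) {W W₀ : Over S}
    {c : (yon S).obj W ⟶ B'} (hc : RepWith @Etale c) {y : (yon S).obj W₀ ⟶ B} {iW : W₀ ⟶ W}
    (sq : IsPullback y ((yon S).map iW) iB c) : iW.left.ker ^ (n + 1) = ⊥ := by
  obtain ⟨hth, hn⟩ := hB
  have hW : thick iW.left := hth.2 c y iW sq
  have : IsClosedImmersion iW.left := hW.1
  ext U : 2
  rw [Scheme.IdealSheafData.ideal_pow, Pi.pow_apply]
  show _ = (⊥ : Ideal Γ(W.left, U.1))
  let WU : Over S := Over.mk (U.1.ι ≫ W.hom)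
  let jU : WU ⟶ W := Over.homMk U.1.ι rfl
  let W₀U : Over S := Over.mk ((iW.left ⁻¹ᵁ U.1).ι ≫ W₀.hom)
  let j₀ : W₀U ⟶ W₀ := Over.homMk (iW.left ⁻¹ᵁ U.1).ι rfl
  let iU : W₀U ⟶ WU := Over.homMk (iW.left ∣_ U.1) (by
    simp only [WU, W₀U, Over.mk_hom, morphismRestrict_ι_assoc, Over.w])
  have sqU : IsPullback ((yon S).map j₀) ((yon S).map iU) ((yon S).map iW) ((yon S).map jU) :=
    isPullback_yon_iff.2 (isPullback_morphismRestrict iW.left U.1).flip
  have : IsAffine WU.left := U.2
  have : IsAffine W₀U.left := U.2.preimage iW.left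
  have h := hn ((yon S).map jU ≫ c) ((yon S).map j₀ ≫ y) iU U.2
    (repWith_etale_openImmersion_comp hc U.1.ι) (sqU.paste_horiz sq)
  change (iW.left ∣_ U.1).ker ^ (n + 1) = ⊥ at h
  have : IsAffine (U.1 : Scheme.{u}) := U.2
  have : IsAffine (iW.left ⁻¹ᵁ U.1 : Scheme.{u}) := U.2.preimage iW.left
  rw [pow_ker_eq_bot_iff] at h
  rw [Scheme.Hom.ker_apply, eq_bot_iff]
  intro a ha
  have h1 : Ideal.map U.1.topIso.inv.hom (RingHom.ker (iW.left.app U.1).hom) ≤
      RingHom.ker (iW.left ∣_ U.1).appTop.hom := Ideal.map_le_iff_le_comap.2 fun x hx => by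
    have key : U.1.topIso.inv ≫ (iW.left ∣_ U.1).appTop = iW.left.app U.1 ≫ (iW.left ⁻¹ᵁ U.1).topIso.inv := by
      rw [← cancel_mono (iW.left ⁻¹ᵁ U.1).topIso.hom, Category.assoc, Category.assoc, Iso.inv_hom_id,
        Category.comp_id, Scheme.Opens.topIso_inv, Scheme.Opens.topIso_hom, Scheme.Hom.appTop, morphismRestrict_app]
      simp [Scheme.Hom.app_eq_appLE, Scheme.Hom.appLE_map, Scheme.Hom.map_appLE]
    have h2 := congrArg (fun k => k.hom x) key
    simp only [CommRingCat.hom_comp, RingHom.comp_apply] at h2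
    rw [RingHom.mem_ker.1 hx, map_zero] at h2
    exact h2
  have h2 := (Ideal.pow_right_mono h1 (n + 1)).trans h.le
  rw [← Ideal.map_pow] at h2
  have h3 : U.1.topIso.inv.hom a = 0 := h2 (Ideal.mem_map_of_mem _ ha)
  exact (ConcreteCategory.bijective_of_isIso U.1.topIso.inv).1 (h3.trans (map_zero _).symm)


/-- first order thickenings of algebraic spaces are stable under base change -/
theorem foThick_baseChange_space {X X' B B' : Sp S} (hB' : IsAlgSpace B') {iB : B ⟶ B'} {iX : X ⟶ X'} {h : X ⟶ B}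
    {h' : X' ⟶ B'} (sq : IsPullback iX h h' iB) (hB : IsFOThickMor iB) : IsFOThickMor iX := by
  have hst : thick.{u}.IsStableUnderBaseChange := inferInstanceAs
    (MorphismProperty.IsStableUnderBaseChange (@IsClosedImmersion ⊓ @Surjective : MorphismProperty Scheme.{u}))
  obtain ⟨W, c, hc, hcs⟩ := hB'.atlas
  have hBn := (isNThickMor_one_iff iB).2 hB
  obtain ⟨W₀, y, iW, sqW, hiW⟩ := exists_repWith hBn.1 c
  have : IsClosedImmersion iW.left := hiW.1
  have hm := ker_pow_of_chart hBn hc sqW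
  refine (isNThickMor_one_iff iX).1 ⟨repWith_baseChange sq.flip hBn.1, fun V V₀ b fst u hV hb sqb => ?_⟩
  obtain ⟨V', p, α, sqp⟩ := exists_pullback hB'.diag (b ≫ h') c
  have : Etale p.left := (repWith_yon_iff p).1 (repWith_baseChange sqp.flip hc)
  have : Surjective p.left := (repWith_yon_iff p).1 (repWith_baseChange sqp.flip hcs)
  have : Flat p.left := inferInstance
  have hu : thick u.left := (repWith_baseChange sq.flip hBn.1).2 b fst u sqb
  have : IsClosedImmersion u.left := hu.1
  obtain ⟨V'₀, u', q, sqq⟩ := exists_pullback (IsAlgSpace.yon_obj V).diag ((yon S).map p) ((yon S).map u)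
  have hbig : IsPullback ((yon S).map u') (((yon S).map q ≫ fst) ≫ h) ((yon S).map p ≫ b ≫ h') iB := by
    rw [Category.assoc]
    exact sqq.paste_vert (sqb.flip.paste_vert sq)
  obtain ⟨l, hl⟩ := exists_map_eq (sqW.lift (((yon S).map q ≫ fst) ≫ h) ((yon S).map (u' ≫ α)) (by
    rw [Functor.map_comp, Category.assoc ((yon S).map u'), ← sqp.w, hbig.w]))
  have hl₁ : (yon S).map l ≫ y = ((yon S).map q ≫ fst) ≫ h := by rw [hl, sqW.lift_fst]
  have hl₂ : (yon S).map l ≫ (yon S).map iW = (yon S).map u' ≫ (yon S).map α := by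
    rw [hl, sqW.lift_snd, Functor.map_comp]
  have sqL : IsPullback ((yon S).map l) ((yon S).map u') ((yon S).map iW) ((yon S).map α) :=
    IsPullback.of_right (by rw [hl₁, ← sqp.w]; exact hbig.flip) hl₂ sqW
  have h1 : u'.left.ker = iW.left.ker.comap α.left := ThickSys.ker_of_isPullback (isPullback_yon_iff.1 sqL).flip
  have h2 : u'.left.ker = u.left.ker.comap p.left := ThickSys.ker_of_isPullback (isPullback_yon_iff.1 sqq)
  show u.left.ker ^ (1 + 1) = ⊥
  refine eq_bot_of_comap_eq_bot p.left _ ?_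
  rw [ThickSys.comap_pow, ← h2, h1, ← ThickSys.comap_pow, hm, Scheme.IdealSheafData.comap_bot]


end Groth.Agent.InfLift
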