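import Groth.Agent.InfLift.Sheaf

/-!
# Permanence of infinitesimal lifting properties
-/

universe u

open CategoryTheory CategoryTheory.Limits AlgebraicGeometry AlgSp Opposite
open Groth.Agent.AlgSpLib

set_option backward.isDefEq.respectTransparency false

namespace Groth.Agent.InfLift

variable {S : Scheme.{u}} {F G H : Sp S}

/-- a square for a composite gives one for the second map -/
noncomputable def sndSq {a : F ⟶ G} {b : G ⟶ H} (sq : InfSq (a ≫ b)) : InfSq b where
  A := sq.A
  I := sq.I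
  sq_zero := sq.sq_zero
  str := sq.str
  top := sq.top ≫ a
  bot := sq.bot
  comm := (Category.assoc _ _ _).trans sq.comm

/-- a map on the thickening gives a square for the first map -/
noncomputable def fstSq {K : Sp S} {c : F ⟶ H} (sq : InfSq c) (a : F ⟶ K) (l : (yon S).obj sq.ptT' ⟶ K)
    (hl : (yon S).map sq.j ≫ l = sq.top ≫ a) : InfSq a where
  A := sq.A
  I := sq.I
  sq_zero := sq.sq_zero
  str := sq.str
  top := sq.top
  bot := l
  comm := hl.symm

theorem smooth_comp {a : F ⟶ G} {b : G ⟶ H} (ha : IsFormallySmoothMor a) (hb : IsFormallySmoothMor b) :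
    IsFormallySmoothMor (a ≫ b) := fun sq => by
  obtain ⟨l, hl₁, hl₂⟩ := hb (sndSq sq)
  obtain ⟨m, hm₁, hm₂⟩ := ha (fstSq sq a l hl₁)
  exact ⟨m, hm₁, by rw [← Category.assoc]; exact (congrArg (· ≫ b) hm₂).trans hl₂⟩

theorem unram_comp {a : F ⟶ G} {b : G ⟶ H} (ha : IsFormallyUnramifiedMor a) (hb : IsFormallyUnramifiedMor b) :
    IsFormallyUnramifiedMor (a ≫ b) := fun sq l l' h1 h2 h1' h2' => by
  have e : l ≫ a = l' ≫ a := hb (sndSq sq) _ _ ((Category.assoc _ _ _).symm.trans (congrArg (· ≫ a) h1))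
    ((Category.assoc _ _ _).trans h2) ((Category.assoc _ _ _).symm.trans (congrArg (· ≫ a) h1'))
    ((Category.assoc _ _ _).trans h2')
  exact ha (fstSq sq a (l ≫ a) (by rw [← Category.assoc, h1])) l l' h1 rfl h1' e.symm

theorem etale_iff {a : F ⟶ G} :
    IsFormallyEtaleMor a ↔ IsFormallySmoothMor a ∧ IsFormallyUnramifiedMor a := by
  refine ⟨fun h => ⟨fun sq => (h sq).exists, fun sq l l' h1 h2 h1' h2' => (h sq).unique ⟨h1, h2⟩ ⟨h1', h2'⟩⟩,
    fun h sq => ?_⟩
  obtain ⟨l, hl⟩ := h.1 sq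
  exact ⟨l, hl, fun l' hl' => h.2 sq l' l hl'.1 hl'.2 hl.1 hl.2⟩

theorem unram_of_comp {a : F ⟶ G} {b : G ⟶ H} (h : IsFormallyUnramifiedMor (a ≫ b)) :
    IsFormallyUnramifiedMor a := fun sq l l' h1 h2 h1' h2' =>
  h { A := sq.A, I := sq.I, sq_zero := sq.sq_zero, str := sq.str, top := sq.top, bot := sq.bot ≫ b,
      comm := by rw [← Category.assoc, sq.comm, Category.assoc] }
    l l' h1 ((Category.assoc _ _ _).symm.trans (congrArg (· ≫ b) h2)) h1' ((Category.assoc _ _ _).symm.trans (congrArg (· ≫ b) h2'))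

theorem smooth_of_comp {a : F ⟶ G} {b : G ⟶ H} (hb : IsFormallyUnramifiedMor b)
    (h : IsFormallySmoothMor (a ≫ b)) : IsFormallySmoothMor a := fun sq => by
  let sq' : InfSq (a ≫ b) := { A := sq.A, I := sq.I, sq_zero := sq.sq_zero, str := sq.str, top := sq.top,
                               bot := sq.bot ≫ b, comm := by rw [← Category.assoc, sq.comm, Category.assoc] }
  obtain ⟨l, hl₁, hl₂⟩ := h sq'
  exact ⟨l, hl₁, hb (sndSq sq') (l ≫ a) sq.bot ((Category.assoc _ _ _).symm.trans (congrArg (· ≫ a) hl₁))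
    ((Category.assoc _ _ _).trans hl₂) sq.comm.symm rfl⟩

section BaseChange

variable {P : Sp S} {a : F ⟶ G} {b : H ⟶ G} {b' : P ⟶ F} {a' : P ⟶ H}

theorem smooth_baseChange (hP : IsPullback b' a' a b) (ha : IsFormallySmoothMor a) : IsFormallySmoothMor a' :=
  fun sq => by
  obtain ⟨l, hl₁, hl₂⟩ := ha { A := sq.A, I := sq.I, sq_zero := sq.sq_zero, str := sq.str,
                               top := sq.top ≫ b', bot := sq.bot ≫ b,
                               comm := by rw [Category.assoc, hP.w, ← Category.assoc, sq.comm, Category.assoc] }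
  refine ⟨hP.lift l sq.bot hl₂, hP.hom_ext ?_ ?_, hP.lift_snd _ _ _⟩
  · rw [Category.assoc, hP.lift_fst]; exact hl₁
  · rw [Category.assoc, hP.lift_snd]; exact sq.comm.symm

theorem unram_baseChange (hP : IsPullback b' a' a b) (ha : IsFormallyUnramifiedMor a) :
    IsFormallyUnramifiedMor a' := fun sq l l' h1 h2 h1' h2' => by
  refine hP.hom_ext (ha { A := sq.A, I := sq.I, sq_zero := sq.sq_zero, str := sq.str,
                          top := sq.top ≫ b', bot := sq.bot ≫ b,
                          comm := by rw [Category.assoc, hP.w, ← Category.assoc, sq.comm, Category.assoc] }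
    _ _ ?_ ?_ ?_ ?_) (h2.trans h2'.symm)
  · exact (Category.assoc _ _ _).symm.trans (congrArg (· ≫ b') h1)
  · exact (Category.assoc _ _ _).trans ((congrArg (l ≫ ·) hP.w).trans ((Category.assoc _ _ _).symm.trans (congrArg (· ≫ b) h2)))
  · exact (Category.assoc _ _ _).symm.trans (congrArg (· ≫ b') h1')
  · exact (Category.assoc _ _ _).trans ((congrArg (l' ≫ ·) hP.w).trans ((Category.assoc _ _ _).symm.trans (congrArg (· ≫ b) h2')))

end BaseChange

/-- etale locally there are lifts, when the composite with an etale cover is formally smooth -/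
theorem exists_local_lift {a : F ⟶ G} (ha : RepWith @Etale a) (ha' : RepWith @Surjective a) {b : G ⟶ H}
    (hab : IsFormallySmoothMor (a ≫ b)) (sq : InfSq b) (t : ↥sq.ptT'.left) :
    ∃ (C : Type u) (_ : CommRing C) (_ : Algebra sq.A C),
      Etale (gC sq C).left ∧ t ∈ Set.range (gC sq C).left ∧ ∃ l : (yon S).obj (ptC sq C) ⟶ G,
        l ≫ b = (yon S).map (gC sq C) ≫ sq.bot ∧ (yon S).map (jC sq C) ≫ l = (yon S).map (gC₀ sq C) ≫ sq.top := by
  obtain ⟨C, _, _, he, ht, top', htop⟩ := exists_local_square ha ha' sq t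
  have hc : top' ≫ a ≫ b = (yon S).map (jC sq C) ≫ (yon S).map (gC sq C) ≫ sq.bot := by
    rw [← Category.assoc, htop]; exact comm_C sq C
  obtain ⟨l, hl₁, hl₂⟩ := hab (mkSq sq C (a ≫ b) top' _ hc)
  refine ⟨C, inferInstance, inferInstance, he, ht, l ≫ a, (Category.assoc _ _ _).trans hl₂, ?_⟩
  exact (Category.assoc _ _ _).symm.trans ((congrArg (· ≫ a) hl₁).trans htop)

/-- lifts are unique if they are so after an etale cover of the source -/
theorem unram_of_cover_comp {a : F ⟶ G} (ha : RepWith @Etale a) (ha' : RepWith @Surjective a) {b : G ⟶ H}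
    (hab : IsFormallyUnramifiedMor (a ≫ b)) : IsFormallyUnramifiedMor b := by
  intro sq l l' h1 h2 h1' h2'
  have hae : IsFormallyEtaleMor a := hasUniqLift_of_repWith (P := @Etale) (fun _ _ f h => h) ha
  choose C i₁ i₂ he ht top' htop using exists_local_square ha ha' sq
  let R : Presieve sq.ptT'.left := Presieve.ofArrows (fun t => (ptC sq (C t)).left) (fun t => (gC sq (C t)).left)
  have hR : R ∈ Scheme.fppfPrecoverage sq.ptT'.left := by
    rw [Scheme.fppfPrecoverage, Scheme.ofArrows_mem_precoverage_iff]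
    exact ⟨fun t => ⟨t, ht t⟩, fun t => ⟨(have := he t; inferInstance), (have := he t; inferInstance)⟩⟩
  refine hom_ext_cover hR ?_
  rintro _ _ ⟨t⟩
  let e : Over.mk ((gC sq (C t)).left ≫ sq.ptT'.hom) ⟶ ptC sq (C t) := Over.homMk (𝟙 _) (by
    change 𝟙 _ ≫ _ = _
    rw [Category.id_comp, Over.w]; rfl)
  rw [show (Over.homMk (gC sq (C t)).left rfl : Over.mk ((gC sq (C t)).left ≫ sq.ptT'.hom) ⟶ sq.ptT') =
    e ≫ gC sq (C t) from Over.OverMorphism.ext (Category.id_comp _).symm]
  simp only [Functor.map_comp, Category.assoc]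
  refine congrArg ((yon S).map e ≫ ·) ?_
  -- lift both maps through the cover
  have key : ∀ m : (yon S).obj sq.ptT' ⟶ G, (yon S).map sq.j ≫ m = sq.top →
      top' t ≫ a = (yon S).map (jC sq (C t)) ≫ (yon S).map (gC sq (C t)) ≫ m := fun m hm => by
    rw [htop t, ← Category.assoc _ _ m, (isPullback_jC sq (C t)).w, Category.assoc, hm]
  obtain ⟨L, ⟨hL₁, hL₂⟩, -⟩ := hae (mkSq sq (C t) a (top' t) _ (key l h1))
  obtain ⟨L', ⟨hL₁', hL₂'⟩, -⟩ := hae (mkSq sq (C t) a (top' t) _ (key l' h1'))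
  have hc : top' t ≫ a ≫ b = (yon S).map (jC sq (C t)) ≫ (yon S).map (gC sq (C t)) ≫ sq.bot := by
    rw [← Category.assoc, htop]; exact comm_C sq (C t)
  have : L = L' := hab (mkSq sq (C t) (a ≫ b) (top' t) _ hc) L L' hL₁
    ((Category.assoc _ _ _).symm.trans ((congrArg (· ≫ b) hL₂).trans (by
      show ((yon S).map (gC sq (C t)) ≫ l) ≫ b = _
      rw [Category.assoc, h2]; rfl))) hL₁'
    ((Category.assoc _ _ _).symm.trans ((congrArg (· ≫ b) hL₂').trans (by
      show ((yon S).map (gC sq (C t)) ≫ l') ≫ b = _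
      rw [Category.assoc, h2']; rfl)))
  exact hL₂.symm.trans ((congrArg (· ≫ a) this).trans hL₂')

theorem etale_of_cover_comp {a : F ⟶ G} (ha : RepWith @Etale a) (ha' : RepWith @Surjective a) {b : G ⟶ H}
    (hab : IsFormallyEtaleMor (a ≫ b)) : IsFormallyEtaleMor b := by
  obtain ⟨h1, h2⟩ := etale_iff.1 hab
  have hu := unram_of_cover_comp ha ha' h2
  exact etale_iff.2 ⟨fun sq => hasLift_of_local hu sq (exists_local_lift ha ha' h1 sq), hu⟩

end Groth.Agent.InfLift
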