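import Mathlib.RingTheory.Smooth.Local
import Mathlib.RingTheory.Smooth.Locus
import Mathlib.RingTheory.Filtration
import Mathlib.RingTheory.Artinian.Ring
import Mathlib.RingTheory.HopkinsLevitzki
import Mathlib.RingTheory.Ideal.Quotient.PowTransition
import Mathlib.RingTheory.Etale.Kaehler
import Mathlib.LinearAlgebra.TensorProduct.Quotient

/-!
# Smoothness at a prime through lifts along small extensions of Artinian local rings
-/

universe u

open TensorProduct IsLocalRing

namespace Groth.Agent.InfLift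

theorem mem_smul_top_of_one_tmul {P K M : Type u} [CommRing P] [CommRing K] [Algebra P K] [AddCommGroup M]
    [Module P M] (hs : Function.Surjective (algebraMap P K)) {x : M} (hx : (1 : K) ⊗ₜ[P] x = 0) :
    x ∈ RingHom.ker (algebraMap P K) • (⊤ : Submodule P M) := by
  let e : (P ⧸ RingHom.ker (Algebra.ofId P K)) ≃ₐ[P] K := Ideal.quotientKerAlgEquivOfSurjective hs
  have h := congrArg (fun z => TensorProduct.quotTensorEquivQuotSMul M _ (e.symm.toLinearEquiv.rTensor M z)) hx
  simp only [map_zero, LinearEquiv.rTensor_tmul] at h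
  rw [show e.symm.toLinearEquiv 1 = Ideal.Quotient.mk _ (1 : P) from map_one e.symm,
    TensorProduct.quotTensorEquivQuotSMul_mk_tmul, one_smul, Submodule.Quotient.mk_eq_zero] at h
  exact h

/-- in a local presentation, lifts along small extensions force cotangent vectors to survive -/
theorem mem_of_small_lift {A P : Type u} [CommRing A] [CommRing P] [Algebra A P] [IsLocalRing P] [IsNoetherianRing P]
    (K : Ideal P) (hK : K ≤ maximalIdeal P)
    (H : ∀ (L : Ideal P) (k : P) (N : ℕ), maximalIdeal P ^ N ≤ L → k ∈ K → k ∉ L → L ≤ maximalIdeal P →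
      L ≤ K ⊔ maximalIdeal P ^ N → maximalIdeal P * (K ⊔ maximalIdeal P ^ N) ≤ L →
      K ⊔ maximalIdeal P ^ N = L ⊔ Ideal.span {k} →
      ∃ ψ : P →ₐ[A] P ⧸ L, (∀ x ∈ K, ψ x = 0) ∧ ∀ x, ψ x - Ideal.Quotient.mk L x ∈
        (K ⊔ maximalIdeal P ^ N).map (Ideal.Quotient.mk L))
    {k : P} (hk : k ∈ K) (hdk : KaehlerDifferential.D A P k ∈ maximalIdeal P • (⊤ : Submodule P Ω[P⁄A])) :
    k ∈ maximalIdeal P * K := by
  by_contra hnot
  let n := maximalIdeal P
  obtain ⟨N₀, hN₀⟩ := n.exists_pow_inf_eq_pow_smul (K : Submodule P P)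
  let N := N₀ + 1
  have hAR : n ^ N ⊓ K ≤ n * K := by
    intro x hx
    have h := hN₀ N (Nat.le_succ _)
    simp only [smul_eq_mul, Ideal.mul_top, show N - N₀ = 1 by omega, pow_one] at h
    exact Ideal.mul_mono le_rfl inf_le_right ((h ▸ hx : x ∈ n * (n ^ N₀ ⊓ K)))
  have hnk : k ∉ n * K ⊔ n ^ N := fun h => by
    obtain ⟨a, ha, b, hb, e⟩ := Submodule.mem_sup.1 h
    have hbK : b ∈ K := by
      have : a ∈ K := Ideal.mul_le_right (I := n) (J := K) ha
      rw [eq_sub_of_add_eq' e]
      exact K.sub_mem hk this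
    apply hnot
    rw [← e]
    exact (n * K).add_mem ha (hAR (Submodule.mem_inf.2 ⟨hb, hbK⟩))
  obtain ⟨L, ⟨hL₁, hL₂, hL₃⟩, hmax⟩ := set_has_maximal_iff_noetherian.2 (inferInstance : IsNoetherian P P)
    {L : Ideal P | n * K ⊔ n ^ N ≤ L ∧ L ≤ K ⊔ n ^ N ∧ k ∉ L}
    ⟨_, le_rfl, sup_le_sup_right Ideal.mul_le_right _, hnk⟩
  have hnL : n * (K ⊔ n ^ N) ≤ L := by
    rw [Ideal.mul_sup]
    exact (sup_le_sup_left (Ideal.mul_le_right) _).trans hL₁
  have heq : K ⊔ n ^ N = L ⊔ Ideal.span {k} := by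
    refine le_antisymm (fun x hx => ?_) (sup_le hL₂ ((Ideal.span_singleton_le_iff_mem _).2 ((le_sup_left : K ≤ K ⊔ n ^ N) hk)))
    by_contra hxL
    have hlt : L < L ⊔ Ideal.span {x} := lt_of_le_of_ne le_sup_left fun e => hxL (le_sup_left (α := Ideal P)
      (e ▸ le_sup_right (α := Ideal P) (Ideal.mem_span_singleton_self x)))
    have hk' : k ∈ L ⊔ Ideal.span {x} := by
      by_contra hk'
      exact hmax _ ⟨hL₁.trans le_sup_left, sup_le hL₂ ((Ideal.span_singleton_le_iff_mem _).2 hx), hk'⟩ hlt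
    obtain ⟨l, hl, z, hz, e⟩ := Submodule.mem_sup.1 hk'
    obtain ⟨c, rfl⟩ := Ideal.mem_span_singleton'.1 hz
    by_cases hc : IsUnit c
    · obtain ⟨c, rfl⟩ := hc
      refine hxL ?_
      rw [show x = ↑c⁻¹ * k - ↑c⁻¹ * l by rw [← e, mul_add, Units.inv_mul_cancel_left]; ring]
      exact Ideal.sub_mem _ (Ideal.mul_mem_left _ _ (le_sup_right (α := Ideal P) (Ideal.mem_span_singleton_self k)))
        (Ideal.mul_mem_left _ _ (le_sup_left (α := Ideal P) hl))
    · exact hL₃ (e ▸ L.add_mem hl (hnL (Ideal.mul_mem_mul ((mem_maximalIdeal c).2 hc) hx)))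
  have hLm : L ≤ n := hL₂.trans (sup_le hK (Ideal.pow_le_self (Nat.succ_ne_zero _)))
  obtain ⟨ψ, hψK, hψ⟩ := H L k N (le_sup_right.trans hL₁) hk hL₃ hLm hL₂ hnL heq
  let T := (K ⊔ n ^ N).map (Ideal.Quotient.mk L)
  have hkill : ∀ c ∈ n, ∀ t ∈ T, Ideal.Quotient.mk L c * t = 0 := fun c hc t ht => by
    obtain ⟨x, hx, rfl⟩ := (Ideal.mem_map_iff_of_surjective _ Ideal.Quotient.mk_surjective).1 ht
    rw [← map_mul, Ideal.Quotient.eq_zero_iff_mem]
    exact hnL (Ideal.mul_mem_mul hc hx)
  have hT2 : ∀ s ∈ T, ∀ t ∈ T, s * t = 0 := fun s hs t ht => by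
    obtain ⟨x, hx, rfl⟩ := (Ideal.mem_map_iff_of_surjective _ Ideal.Quotient.mk_surjective).1 hs
    exact hkill x (sup_le hK (Ideal.pow_le_self (Nat.succ_ne_zero _)) hx) t ht
  let δ : Derivation A P (P ⧸ L) := Derivation.mk'
    (ψ.toLinearMap - (Ideal.Quotient.mkₐ A L).toLinearMap) fun a b => by
      simp only [LinearMap.sub_apply, AlgHom.toLinearMap_apply, Ideal.Quotient.mkₐ_eq_mk, map_mul, Algebra.smul_def,
        Ideal.Quotient.algebraMap_eq]
      linear_combination hT2 _ (hψ a) _ (hψ b)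
  let l := δ.liftKaehlerDifferential
  have hrange : ∀ ω, l ω ∈ T := fun ω => by
    have hω : ω ∈ Submodule.span P (Set.range (KaehlerDifferential.D A P)) := by
      rw [KaehlerDifferential.span_range_derivation]; trivial
    induction hω using Submodule.span_induction with
    | mem x hx => obtain ⟨y, rfl⟩ := hx; rw [δ.liftKaehlerDifferential_comp_D]; exact hψ y
    | zero => rw [map_zero]; exact zero_mem _
    | add x y _ _ hx hy => rw [map_add]; exact add_mem hx hy
    | smul c x _ hx => rw [map_smul, Algebra.smul_def]; exact Ideal.mul_mem_left _ _ hx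
  have hzero : l (KaehlerDifferential.D A P k) = 0 := by
    refine Submodule.smul_induction_on hdk (fun c hc ω _ => ?_) (fun x y hx hy => by rw [map_add, hx, hy, add_zero])
    rw [map_smul, Algebra.smul_def]
    exact hkill c hc _ (hrange ω)
  rw [δ.liftKaehlerDifferential_comp_D] at hzero
  change ψ k - Ideal.Quotient.mk L k = 0 at hzero
  rw [hψK k hk, zero_sub, neg_eq_zero, Ideal.Quotient.eq_zero_iff_mem] at hzero
  exact hL₃ hzero

/-- lifts along small extensions at a prime give smoothness there -/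
theorem isSmoothAt_of_small_lift {A R : Type u} [CommRing A] [CommRing R] [Algebra A R] [IsNoetherianRing A]
    [Algebra.FiniteType A R] (q : Ideal R) [q.IsPrime]
    (H : ∀ (B' B : Type u) [CommRing B'] [CommRing B] [IsLocalRing B'] [IsLocalRing B] [IsArtinianRing B']
      [IsArtinianRing B] [Algebra A B'] [Algebra A B] (π : B' →ₐ[A] B), Function.Surjective π →
      (∃ t : B', RingHom.ker π.toRingHom = Ideal.span {t} ∧ ∀ a ∈ maximalIdeal B', a * t = 0) →
      (q.IsMaximal → Algebra.FiniteType A B') →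
      ∀ g : R →ₐ[A] B, (maximalIdeal B).comap g = q → (∀ b : B, ∃ r s, s ∉ q ∧ b * g s = g r) →
      ∃ g' : R →ₐ[A] B', π.comp g' = g) :
    Algebra.IsSmoothAt A q := by
  obtain ⟨n, f₀, hf₀⟩ := Algebra.FiniteType.iff_quotient_mvPolynomial''.mp (inferInstance : Algebra.FiniteType A R)
  let q₀ := q.comap f₀
  have : q₀.IsPrime := Ideal.IsPrime.comap _
  let P := Localization.AtPrime q₀
  let S := Localization.AtPrime q
  let fP : P →ₐ[A] S := IsLocalization.liftAlgHom (M := q₀.primeCompl)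
    (f := (IsScalarTower.toAlgHom A R S).comp f₀) fun x => IsLocalization.map_units (M := q.primeCompl) S ⟨f₀ x.1, x.2⟩
  have hfP : ∀ a, fP (algebraMap _ P a) = algebraMap R S (f₀ a) := fun a => IsLocalization.lift_eq _ a
  have hf₁ : Function.Surjective fP := by
    intro x
    obtain ⟨x, ⟨s, hs⟩, rfl⟩ := IsLocalization.exists_mk'_eq q.primeCompl x
    obtain ⟨x, rfl⟩ := hf₀ x
    obtain ⟨s, rfl⟩ := hf₀ s
    refine ⟨IsLocalization.mk' (M := q₀.primeCompl) _ x ⟨s, hs⟩, ?_⟩
    simp [fP, IsLocalization.lift_mk', Units.mul_inv_eq_iff_eq_mul, IsUnit.liftRight]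
  algebraize [fP.toRingHom]
  have : IsScalarTower A P S := .of_algebraMap_eq fun a => (fP.commutes a).symm
  have : Algebra.FormallyEtale (MvPolynomial (Fin n) A) P := .of_isLocalization q₀.primeCompl
  have : Algebra.FormallySmooth A P := .comp _ (MvPolynomial (Fin n) A) _
  have : Module.Free P Ω[P⁄A] :=
    .of_equiv (KaehlerDifferential.tensorKaehlerEquivOfFormallyEtale A (MvPolynomial (Fin n) A) P)
  have : Module.Finite P Ω[P⁄A] :=
    .equiv (KaehlerDifferential.tensorKaehlerEquivOfFormallyEtale A (MvPolynomial (Fin n) A) P)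
  have : IsNoetherianRing (MvPolynomial (Fin n) A) := inferInstance
  have : IsNoetherianRing P := IsLocalization.isNoetherianRing q₀.primeCompl P inferInstance
  let K := RingHom.ker (algebraMap P S)
  have hK : K ≤ maximalIdeal P := le_maximalIdeal (RingHom.ker_ne_top _)
  have hlocal : IsLocalHom (algebraMap P S) := IsLocalHom.of_surjective _ hf₁
  have hmax : maximalIdeal P = RingHom.ker (algebraMap P (ResidueField S)) := by
    rw [IsScalarTower.algebraMap_eq P S (ResidueField S), ← RingHom.comap_ker]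
    show _ = Ideal.comap (algebraMap P S) (RingHom.ker (residue S))
    rw [ker_residue]
    exact (maximalIdeal_comap (algebraMap P S)).symm
  show Algebra.FormallySmooth A S
  rw [Algebra.FormallySmooth.iff_injective_cotangentComplexBaseChange_residueField P hf₁
    (IsNoetherian.noetherian _), injective_iff_map_eq_zero]
  have hres : Function.Surjective (algebraMap P (ResidueField S)) := by
    rw [IsScalarTower.algebraMap_eq P S (ResidueField S)]
    exact residue_surjective.comp hf₁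
  intro z hz
  obtain ⟨⟨k, hk⟩, rfl⟩ := TensorProduct.mk_surjective P K (ResidueField S) hres z
  rw [TensorProduct.mk_apply, KaehlerDifferential.cotangentComplexBaseChange_tmul, KaehlerDifferential.kerToTensor_apply,
    one_smul] at hz
  have hdk : KaehlerDifferential.D A P k ∈ maximalIdeal P • (⊤ : Submodule P Ω[P⁄A]) := by
    rw [hmax]
    exact mem_smul_top_of_one_tmul hres hz
  suffices hmem : k ∈ maximalIdeal P * K by
    have hmem' : (⟨k, hk⟩ : K) ∈ maximalIdeal P • (⊤ : Submodule P K) := by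
      rw [Submodule.mem_smul_top_iff]; exact hmem
    rw [TensorProduct.mk_apply]
    refine Submodule.smul_induction_on hmem' (fun c hc x _ => ?_) (fun x y hx hy => by rw [tmul_add, hx, hy, add_zero])
    rw [← smul_tmul, Algebra.smul_def, mul_one, show algebraMap P (ResidueField S) c = 0 from by
      rw [hmax] at hc; exact hc, zero_tmul]
  refine mem_of_small_lift (A := A) K hK ?_ hk hdk
  intro L k N hN hkK hkL hLm hLK hnL heq
  let M := K ⊔ maximalIdeal P ^ N
  have hMm : M ≤ maximalIdeal P := sup_le hK (by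
    rcases Nat.eq_zero_or_pos N with rfl | h
    · exact absurd (hN (by rw [pow_zero, Ideal.one_eq_top]; trivial) : k ∈ L) hkL
    · exact Ideal.pow_le_self h.ne')
  have hart : ∀ L' : Ideal P, L' ≤ maximalIdeal P → maximalIdeal P ^ N ≤ L' →
      IsLocalRing (P ⧸ L') ∧ IsArtinianRing (P ⧸ L') := fun L' h₁ h₂ => by
    have hne : L' ≠ ⊤ := fun e => (maximalIdeal.isMaximal P).ne_top (top_le_iff.1 (e ▸ h₁))
    have : Nontrivial (P ⧸ L') := Ideal.Quotient.nontrivial_iff.2 hne
    have : IsLocalRing (P ⧸ L') := .of_surjective' (Ideal.Quotient.mk L') Ideal.Quotient.mk_surjective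
    refine ⟨this, (isArtinianRing_iff_isNilpotent_maximalIdeal (P ⧸ L')).2 ⟨N, ?_⟩⟩
    rw [← map_maximalIdeal_of_surjective _ Ideal.Quotient.mk_surjective, ← Ideal.map_pow, Ideal.zero_eq_bot,
      Ideal.map_eq_bot_iff_le_ker, Ideal.mk_ker]
    exact h₂
  obtain ⟨i₁, i₂⟩ := hart L hLm hN
  obtain ⟨i₃, i₄⟩ := hart M hMm le_sup_right
  let π : P ⧸ L →ₐ[A] P ⧸ M := Ideal.Quotient.factorₐ A hLK
  have hker : RingHom.ker π.toRingHom = Ideal.span {Ideal.Quotient.mk L k} := by
    show RingHom.ker (Ideal.Quotient.factor hLK) = _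
    rw [Ideal.Quotient.factor_ker, heq, Ideal.map_sup, Ideal.map_quotient_self,
      bot_sup_eq, Ideal.map_span, Set.image_singleton]
  let toB : S →ₐ[A] P ⧸ M :=
    (Ideal.Quotient.liftₐ (RingHom.ker fP) (Ideal.Quotient.mkₐ A M) fun x hx =>
      Ideal.Quotient.eq_zero_iff_mem.2 ((le_sup_left : K ≤ M) (RingHom.mem_ker.2 (show algebraMap P S x = 0 by
        rw [RingHom.algebraMap_toAlgebra]; exact hx)))).comp
      (Ideal.quotientKerAlgEquivOfSurjective hf₁).symm.toAlgHom
  have htoB : ∀ x, toB (fP x) = Ideal.Quotient.mk M x := fun x => by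
    simp only [toB, AlgHom.comp_apply, AlgEquiv.coe_toAlgHom]
    rw [show (Ideal.quotientKerAlgEquivOfSurjective hf₁).symm (fP x) = Ideal.Quotient.mk _ x from
      (Ideal.quotientKerAlgEquivOfSurjective hf₁).symm_apply_apply (Ideal.Quotient.mk _ x)]
    rfl
  let g : R →ₐ[A] P ⧸ M := toB.comp (IsScalarTower.toAlgHom A R S)
  have hg : ∀ a, g (f₀ a) = Ideal.Quotient.mk M (algebraMap _ P a) := fun a => by
    rw [← htoB, hfP]; rfl
  have hcomap : (maximalIdeal (P ⧸ M)).comap g = q := by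
    ext r
    obtain ⟨a, rfl⟩ := hf₀ r
    rw [Ideal.mem_comap, hg, ← map_maximalIdeal_of_surjective _ Ideal.Quotient.mk_surjective,
      Ideal.mem_quotient_iff_mem hMm, IsLocalization.AtPrime.to_map_mem_maximal_iff P q₀]
    rfl
  have hft : q.IsMaximal → Algebra.FiniteType A (P ⧸ L) := fun hq => by
    have hq₀ : q₀.IsMaximal := Ideal.comap_isMaximal_of_surjective f₀ hf₀
    refine Algebra.FiniteType.of_surjective ((Ideal.Quotient.mkₐ A L).comp (IsScalarTower.toAlgHom A (MvPolynomial (Fin n) A) P)) ?_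
    intro z
    obtain ⟨z, rfl⟩ := Ideal.Quotient.mk_surjective z
    obtain ⟨a, ⟨s, hs⟩, rfl⟩ := IsLocalization.exists_mk'_eq q₀.primeCompl z
    have hcop : q₀ ^ N ⊔ Ideal.span {s} = ⊤ := by
      by_contra hne
      obtain ⟨m, hm, hle⟩ := Ideal.exists_le_maximal _ hne
      have hq₀m : q₀ ≤ m := by
        intro x hx
        exact hm.isPrime.mem_of_pow_mem N (hle ((le_sup_left : q₀ ^ N ≤ q₀ ^ N ⊔ Ideal.span {s}) (Ideal.pow_mem_pow hx N)))
      exact hs ((hq₀.eq_of_le hm.ne_top hq₀m).symm ▸ hle ((le_sup_right : Ideal.span {s} ≤ q₀ ^ N ⊔ Ideal.span {s}) (Ideal.mem_span_singleton_self s)))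
    obtain ⟨e, he, w, hw, h1⟩ := Submodule.mem_sup.1 (hcop.ge Submodule.mem_top : (1 : MvPolynomial (Fin n) A) ∈ _)
    obtain ⟨t, rfl⟩ := Ideal.mem_span_singleton'.1 hw
    refine ⟨a * t, ?_⟩
    show Ideal.Quotient.mk L (algebraMap _ P (a * t)) = Ideal.Quotient.mk L _
    have he' : algebraMap _ P e ∈ L := hN (by
      have := Ideal.mem_map_of_mem (algebraMap _ P) he
      rwa [Ideal.map_pow, IsLocalization.AtPrime.map_eq_maximalIdeal q₀ P] at this)
    rw [Ideal.Quotient.eq]
    have key : algebraMap _ P (a * t) - IsLocalization.mk' P a (⟨s, hs⟩ : q₀.primeCompl) =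
        -(IsLocalization.mk' P a (⟨s, hs⟩ : q₀.primeCompl)) * algebraMap _ P e := by
      have hspec : IsLocalization.mk' P a (⟨s, hs⟩ : q₀.primeCompl) * algebraMap _ P s = algebraMap _ P a :=
        IsLocalization.mk'_spec P a (⟨s, hs⟩ : q₀.primeCompl)
      rw [show e = 1 - t * s by rw [← h1]; ring, map_sub, map_one, map_mul, map_mul]
      linear_combination (-algebraMap _ P t) * hspec
    rw [key]
    exact L.mul_mem_left _ he'
  have hfrac : ∀ b : P ⧸ M, ∃ r s, s ∉ q ∧ b * g s = g r := fun b => by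
    obtain ⟨z, rfl⟩ := Ideal.Quotient.mk_surjective b
    obtain ⟨a, ⟨s, hs⟩, rfl⟩ := IsLocalization.exists_mk'_eq q₀.primeCompl z
    refine ⟨f₀ a, f₀ s, hs, ?_⟩
    rw [hg, hg, ← map_mul]
    exact congrArg (Ideal.Quotient.mk M) (IsLocalization.mk'_spec P a (⟨s, hs⟩ : q₀.primeCompl))
  obtain ⟨g', hg'⟩ := H (P ⧸ L) (P ⧸ M) π (Ideal.Quotient.factor_surjective hLK)
    ⟨Ideal.Quotient.mk L k, hker, fun a ha => by
      rw [← map_maximalIdeal_of_surjective _ Ideal.Quotient.mk_surjective] at ha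
      obtain ⟨a, ha', rfl⟩ := (Ideal.mem_map_iff_of_surjective _ Ideal.Quotient.mk_surjective).1 ha
      rw [← map_mul, Ideal.Quotient.eq_zero_iff_mem]
      exact hnL (Ideal.mul_mem_mul ha' (le_sup_left (α := Ideal P) hkK))⟩ hft g hcomap hfrac
  have hunit : ∀ r : q.primeCompl, IsUnit (g' r) := fun r => by
    rw [← notMem_maximalIdeal]
    intro hr
    refine r.2 (hcomap.le ?_)
    rw [Ideal.mem_comap, ← hg', AlgHom.comp_apply]
    have : IsLocalHom π.toRingHom := IsLocalHom.of_surjective _ (Ideal.Quotient.factor_surjective hLK)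
    rw [IsLocalRing.mem_maximalIdeal, mem_nonunits_iff] at hr ⊢
    exact fun hu => hr (isUnit_of_map_unit π.toRingHom _ hu)
  let gS : S →ₐ[A] P ⧸ L := IsLocalization.liftAlgHom (M := q.primeCompl) (f := g') hunit
  have hπgS : π.comp gS = toB := by
    refine IsLocalization.algHom_ext q.primeCompl (AlgHom.ext fun r => ?_)
    show π (gS (algebraMap R S r)) = toB (algebraMap R S r)
    rw [show gS (algebraMap R S r) = g' r from IsLocalization.lift_eq _ r, ← AlgHom.comp_apply, hg']
    rfl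
  refine ⟨gS.comp fP, fun x hx => ?_, fun x => ?_⟩
  · rw [AlgHom.comp_apply, show fP x = 0 from hx, map_zero]
  · rw [← Ideal.Quotient.factor_ker hLK]
    show π (gS (fP x) - Ideal.Quotient.mk L x) = 0
    rw [map_sub, ← AlgHom.comp_apply π, hπgS, htoB]
    exact sub_self _

end Groth.Agent.InfLift
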