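import Groth.Agent.InfLift.LocalLift
import Groth.Agent.AlgSpLib.Subspace
import Groth.Agent.SpQS.MonoDiscrete
import Groth.Agent.AlgSpLib.LocPMore
import Groth.Agent.SmLocalST.Noeth
import Groth.Prelude.Def_AlgSpDec

/-!
# Smoothness of morphisms of algebraic spaces through lifts along surjections of local rings
-/

universe u

open CategoryTheory CategoryTheory.Limits AlgebraicGeometry Opposite IsLocalRing

set_option backward.isDefEq.respectTransparency false

namespace Groth.Agent.InfLift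

open _root_.AlgSp Groth.Agent.AlgSpLib

variable {S : Scheme.{u}} {B' B : Type u} [CommRing B'] [CommRing B] (π : B' →+* B) (hπ : Function.Surjective π)
  (hsq : RingHom.ker π ^ 2 = ⊥) (s : Spec (CommRingCat.of B') ⟶ S)

/-- the thickening given by a ring map, over the base -/
noncomputable def jOf : Over.mk (Spec.map (CommRingCat.ofHom π) ≫ s) ⟶ Over.mk s :=
  Over.homMk (U := Over.mk (Spec.map (CommRingCat.ofHom π) ≫ s)) (V := Over.mk s)
    (Spec.map (CommRingCat.ofHom π)) rfl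

include hπ in
theorem exists_eOf : ∃ e : Over.mk (Spec.map (CommRingCat.ofHom (Ideal.Quotient.mk (RingHom.ker π))) ≫ s) ⟶
    Over.mk (Spec.map (CommRingCat.ofHom π) ≫ s), IsIso e ∧
      e.left ≫ Spec.map (CommRingCat.ofHom π) = Spec.map (CommRingCat.ofHom (Ideal.Quotient.mk (RingHom.ker π))) := by
  let q : CommRingCat.of B ⟶ CommRingCat.of (B' ⧸ RingHom.ker π) :=
    CommRingCat.ofHom (RingHom.quotientKerEquivOfSurjective hπ).symm.toRingHom
  have hq : Spec.map q ≫ Spec.map (CommRingCat.ofHom π) =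
      Spec.map (CommRingCat.ofHom (Ideal.Quotient.mk (RingHom.ker π))) := by
    rw [← Spec.map_comp, ← CommRingCat.ofHom_comp, RingHom.quotientKerEquivOfSurjective_symm_comp]
  have w : Spec.map q ≫ Spec.map (CommRingCat.ofHom π) ≫ s =
      Spec.map (CommRingCat.ofHom (Ideal.Quotient.mk (RingHom.ker π))) ≫ s := by rw [← Category.assoc, hq]
  let e : Over.mk (Spec.map (CommRingCat.ofHom (Ideal.Quotient.mk (RingHom.ker π))) ≫ s) ⟶
      Over.mk (Spec.map (CommRingCat.ofHom π) ≫ s) :=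
    Over.homMk (U := Over.mk (Spec.map (CommRingCat.ofHom (Ideal.Quotient.mk (RingHom.ker π))) ≫ s))
      (V := Over.mk (Spec.map (CommRingCat.ofHom π) ≫ s)) (Spec.map q) w
  have : IsIso q := Iso.isIso_hom (RingHom.quotientKerEquivOfSurjective hπ).symm.toCommRingCatIso
  have : IsIso ((Over.forget S).map e) := inferInstanceAs (IsIso (Spec.map q))
  exact ⟨e, isIso_of_reflects_iso e (Over.forget S), hq⟩

include hπ hsq in
/-- a surjection with square-zero kernel gives a lifting square -/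
theorem exists_sq {F G : Sp S} {a : F ⟶ G}
    (top : (yon S).obj (Over.mk (Spec.map (CommRingCat.ofHom π) ≫ s)) ⟶ F) (bot : (yon S).obj (Over.mk s) ⟶ G)
    (comm : top ≫ a = (yon S).map (jOf π s) ≫ bot) :
    (IsFormallySmoothMor a → ∃ l, (yon S).map (jOf π s) ≫ l = top ∧ l ≫ a = bot) ∧
    (IsFormallyUnramifiedMor a → ∀ l l', (yon S).map (jOf π s) ≫ l = top → l ≫ a = bot →
      (yon S).map (jOf π s) ≫ l' = top → l' ≫ a = bot → l = l') := by
  obtain ⟨e, he, hej⟩ := exists_eOf π hπ s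
  let sq : InfSq a :=
    { A := B', I := RingHom.ker π, sq_zero := hsq, str := s, top := (yon S).map e ≫ top, bot := bot,
      comm := by
        rw [Category.assoc, comm, ← Functor.map_comp_assoc]
        exact congrArg (fun k => (yon S).map k ≫ bot) (Over.OverMorphism.ext hej) }
  have hj : ∀ l : (yon S).obj (Over.mk s) ⟶ F, (yon S).map sq.j ≫ l = sq.top ↔ (yon S).map (jOf π s) ≫ l = top := by
    intro l
    rw [show sq.j = e ≫ jOf π s from Over.OverMorphism.ext hej.symm, Functor.map_comp, Category.assoc]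
    exact cancel_epi ((yon S).map e)
  exact ⟨fun h => by obtain ⟨l, h₁, h₂⟩ := h sq; exact ⟨l, (hj l).1 h₁, h₂⟩,
    fun h l l' h₁ h₂ h₁' h₂' => h sq l l' ((hj l).2 h₁) h₂ ((hj l').2 h₁') h₂'⟩

/-- a morphism to a scheme over the base -/
noncomputable def pt {T : Scheme.{u}} {U : Over S} {t : T ⟶ S} (k : T ⟶ U.left) (w : k ≫ U.hom = t) :
    Over.mk t ⟶ U := Over.homMk (U := Over.mk t) (V := U) k w

include hπ hsq in
/-- lifts descend to etale charts -/
theorem chart_lift_of_lift {X Y : Sp S} {f : X ⟶ Y} {U V : Over S} {a : (yon S).obj U ⟶ X}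
    {b : (yon S).obj V ⟶ Y} {h : U ⟶ V} (ha : RepWith @Etale a) (hb : RepWith @Etale b)
    (comm : a ≫ f = (yon S).map h ≫ b) (α₀ : Spec (CommRingCat.of B) ⟶ U.left)
    (β₀ : Spec (CommRingCat.of B') ⟶ V.left) (e : Spec.map (CommRingCat.ofHom π) ≫ β₀ = α₀ ≫ h.left)
    (hs : β₀ ≫ V.hom = s) (hα : α₀ ≫ U.hom = Spec.map (CommRingCat.ofHom π) ≫ s)
    (H : (((yon S).map (pt α₀ hα) ≫ a) ≫ f = (yon S).map (jOf π s) ≫ (yon S).map (pt β₀ hs) ≫ b) →
      ∃ γ, (yon S).map (jOf π s) ≫ γ = (yon S).map (pt α₀ hα) ≫ a ∧ γ ≫ f = (yon S).map (pt β₀ hs) ≫ b) :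
    ∃ γ₀ : Spec (CommRingCat.of B') ⟶ U.left, Spec.map (CommRingCat.ofHom π) ≫ γ₀ = α₀ ∧ γ₀ ≫ h.left = β₀ := by
  have e' : pt α₀ hα ≫ h = jOf π s ≫ pt β₀ hs := Over.OverMorphism.ext e.symm
  obtain ⟨γ, h₁, h₂⟩ := H (by
    rw [Category.assoc, comm, ← Functor.map_comp_assoc, e', Functor.map_comp, Category.assoc])
  obtain ⟨hla, -⟩ := etale_iff.1 (etale_formallyEtale ha)
  obtain ⟨-, hub⟩ := etale_iff.1 (etale_formallyEtale hb)
  obtain ⟨l, hl₁, hl₂⟩ := (exists_sq π hπ hsq s ((yon S).map (pt α₀ hα)) γ h₁.symm).1 hla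
  obtain ⟨m, rfl⟩ := exists_map_eq l
  have hm : jOf π s ≫ m = pt α₀ hα := (yon S).map_injective (by rw [Functor.map_comp]; exact hl₁)
  have hh : m ≫ h = pt β₀ hs := (yon S).map_injective ((exists_sq π hπ hsq s (a := b)
      ((yon S).map (jOf π s ≫ pt β₀ hs)) ((yon S).map (pt β₀ hs) ≫ b)
      (by rw [Functor.map_comp, Category.assoc])).2 hub _ _
    (by rw [← Functor.map_comp, ← Category.assoc, hm, e'])
    (by rw [Functor.map_comp, Category.assoc, ← comm, reassoc_of% hl₂, h₂])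
    (by rw [← Functor.map_comp]) rfl)
  exact ⟨m.left, congrArg (fun k => k.left) hm, congrArg (fun k => k.left) hh⟩

theorem locP_lft_pt {Y : Sp S} (hY : IsAlgSpace Y) {T V : Over S} (k : T ⟶ V) [LocallyOfFiniteType k.left]
    {b : (yon S).obj V ⟶ Y} (hb : RepWith @Etale b) : LocP @LocallyOfFiniteType ((yon S).map k ≫ b) :=
  locP_comp etST_lft (IsAlgSpace.yon_obj V) hY
    (locP_of_chart etST_lft (IsAlgSpace.yon_obj T) (IsAlgSpace.yon_obj V) (a := 𝟙 _) (b := 𝟙 _) (h := k)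
      repWith_id' (repWith_id _ T) repWith_id' (by rw [Category.id_comp, Category.comp_id]) ‹_›)
    fun U' V' a' b' h' ha' hb' comm' =>
      etST_lft.of_etale _ ((isEtaleMor_iff_locP hY).1 (isEtaleMor_of_repWith' hb) a' b' h' ha' hb' comm')

theorem isLocallyNoetherian_chart {Y : Sp S} (hY : IsAlgSpace Y) (hN : IsLocNoethSp Y) {V : Over S}
    {b : (yon S).obj V ⟶ Y} (hb : RepWith @Etale b) : IsLocallyNoetherian V.left := by
  obtain ⟨W, c, hce, hcs, hW⟩ := hN
  obtain ⟨P, p, q, sq⟩ := exists_pullback hY.diag b c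
  have : Etale q.left := hb.2 _ _ q sq
  have : Etale p.left := (repWith_yon_iff _).1 (repWith_baseChange sq.flip hce)
  have : Surjective p.left := (repWith_yon_iff _).1 (repWith_baseChange sq.flip hcs)
  have : IsLocallyNoetherian P.left := LocallyOfFiniteType.isLocallyNoetherian q.left
  exact Groth.Agent.S0116.result p.left

/-- smoothness through lifts along small extensions -/
theorem locP_smooth_of_small_lift {X Y : Sp S} (hY : IsAlgSpace Y) (f : X ⟶ Y) (hN : IsLocNoethSp Y)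
    (hft : LocP @LocallyOfFiniteType f)
    (H : ∀ (B' B : Type u) [CommRing B'] [CommRing B] [IsLocalRing B'] [IsLocalRing B] [IsArtinianRing B']
      [IsArtinianRing B] (π : B' →+* B), Function.Surjective π →
      (∃ t : B', RingHom.ker π = Ideal.span {t} ∧ ∀ a ∈ maximalIdeal B', a * t = 0) →
      ∀ (s : Spec (CommRingCat.of B') ⟶ S) (α : (yon S).obj (Over.mk (Spec.map (CommRingCat.ofHom π) ≫ s)) ⟶ X)
        (β : (yon S).obj (Over.mk s) ⟶ Y), LocP @LocallyOfFiniteType β →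
      α ≫ f = (yon S).map (jOf π s) ≫ β →
      ∃ γ, (yon S).map (jOf π s) ≫ γ = α ∧ γ ≫ f = β) : LocP @Smooth f := by
  intro U V a b h ha hb comm
  have : IsLocallyNoetherian V.left := isLocallyNoetherian_chart hY hN hb
  have : LocallyOfFiniteType h.left := hft a b h ha hb comm
  refine smooth_of_small_lift h.left fun B' B _ _ _ _ _ _ π hπ ht α₀ β₀ hβ₀ e => ?_
  have hα : α₀ ≫ U.hom = Spec.map (CommRingCat.ofHom π) ≫ β₀ ≫ V.hom := by rw [reassoc_of% e, Over.w h]
  have : LocallyOfFiniteType (pt (U := V) β₀ (rfl : β₀ ≫ V.hom = _)).left := hβ₀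
  exact chart_lift_of_lift π hπ (sq_zero_of_small ht) (β₀ ≫ V.hom) ha hb comm α₀ β₀ e rfl hα
    fun hc => H B' B π hπ ht _ _ _ (locP_lft_pt hY _ hb) hc

/-- smoothness at a point through lifts along small extensions -/
theorem hasAtMor_smooth_of_small_lift {X Y : Sp S} (hX : IsAlgSpace X) (hY : IsAlgSpace Y) (f : X ⟶ Y)
    (hN : IsLocNoethSp Y) (hft : LocP @LocallyOfFiniteType f) (x : Points X)
    (H : ∀ (B' B : Type u) [CommRing B'] [CommRing B] [IsLocalRing B'] [IsLocalRing B] [IsArtinianRing B']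
      [IsArtinianRing B] (π : B' →+* B), Function.Surjective π →
      (∃ t : B', RingHom.ker π = Ideal.span {t} ∧ ∀ a ∈ maximalIdeal B', a * t = 0) →
      ∀ (s : Spec (CommRingCat.of B') ⟶ S) (α : (yon S).obj (Over.mk (Spec.map (CommRingCat.ofHom π) ≫ s)) ⟶ X)
        (β : (yon S).obj (Over.mk s) ⟶ Y), Points.ofPt α (closedPoint B) = x →
      α ≫ f = (yon S).map (jOf π s) ≫ β →
      ∃ γ, (yon S).map (jOf π s) ≫ γ = α ∧ γ ≫ f = β) :
    HasAtMor (fun U _ h u => ∃ W : U.Opens, u ∈ W ∧ Smooth (W.ι ≫ h)) f x := by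
  obtain ⟨V, b, hb, hbs⟩ := hY.atlas
  obtain ⟨U, a, h, ha, has, comm⟩ := exists_chart_lift hX hY f hb hbs
  obtain ⟨u, hu⟩ := ofPt_surjective has x
  have : IsLocallyNoetherian V.left := isLocallyNoetherian_chart hY hN hb
  have : LocallyOfFiniteType h.left := hft a b h ha hb comm
  have := lfp_of_lft h.left
  refine ⟨U, V, a, b, h, u, ha, hb, comm, hu, (mem_smoothLocus_iff_nhd h.left u).2 ?_⟩
  obtain ⟨_, ⟨V₁, hV₁, rfl⟩, hxV, -⟩ :=
    V.left.isBasis_affineOpens.exists_subset_of_mem_open (Set.mem_univ (h.left u)) isOpen_univ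
  obtain ⟨_, ⟨U₁, hU₁, rfl⟩, hx, e₁⟩ :=
    U.left.isBasis_affineOpens.exists_subset_of_mem_open hxV (V₁.2.preimage h.left.continuous)
  refine mem_smoothLocus_of_small_lift h.left hV₁ hU₁ e₁ hx fun B' B _ _ _ _ _ _ π hπ ht α₀ β₀ hα₀ _ _ e => ?_
  have hα : α₀ ≫ U.hom = Spec.map (CommRingCat.ofHom π) ≫ β₀ ≫ V.hom := by rw [reassoc_of% e, Over.w h]
  have hcl : Points.ofPt ((yon S).map (pt α₀ hα) ≫ a) (closedPoint B) = x := by
    rw [ofPt_comp]
    exact (congrArg (Points.ofPt a) hα₀).trans hu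
  exact chart_lift_of_lift π hπ (sq_zero_of_small ht) (β₀ ≫ V.hom) ha hb comm α₀ β₀ e rfl hα
    fun hc => H B' B π hπ ht _ _ _ hcl hc

include hπ hsq in
/-- lifts at a point of smoothness -/
theorem exists_lift_of_hasAtMor_smooth [IsLocalRing B] {X Y : Sp S} (hX : IsAlgSpace X) (hY : IsAlgSpace Y) (f : X ⟶ Y)
    (x : Points X) (hx : HasAtMor (fun U _ h u => ∃ W : U.Opens, u ∈ W ∧ Smooth (W.ι ≫ h)) f x)
    (α : (yon S).obj (Over.mk (Spec.map (CommRingCat.ofHom π) ≫ s)) ⟶ X) (β : (yon S).obj (Over.mk s) ⟶ Y)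
    (hα : Points.ofPt α (closedPoint B) = x) (comm : α ≫ f = (yon S).map (jOf π s) ≫ β) :
    ∃ γ, (yon S).map (jOf π s) ≫ γ = α ∧ γ ≫ f = β := by
  obtain ⟨U, V, a, b, h, u, ha, hb, hcomm, hu, W, huW, hW⟩ := hx
  let W' : Over S := Over.mk (W.ι ≫ U.hom)
  let i : W' ⟶ U := Over.homMk (U := W') W.ι rfl
  have hi : RepWith @Etale ((yon S).map i) := (repWith_yon_iff i).2 (inferInstanceAs (Etale W.ι))
  have ha' : RepWith @Etale ((yon S).map i ≫ a) := repWith_comp hi ha
  let O : Set (Points X) := Set.range (Points.ofPt ((yon S).map i ≫ a))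
  have hO : IsOpen O := (isOpenMap_ofPt (repWith_universallyOpen_of_etale ha')).isOpen_range
  have hXO := isAlgSpace_subSheaf hX hO
  obtain ⟨a₁, ha₁⟩ := exists_subInc_lift (W := O) ((yon S).map i ≫ a) fun t => ⟨t, rfl⟩
  have hinc : IsEtaleMor (subInc O) := isEtaleMor_of_repWith' (repWith_mono (P := @IsOpenImmersion) (Q := @Etale)
    (fun _ _ g hg => have : IsOpenImmersion g := hg; inferInstance) (repWith_subInc hO))
  have ha₁e : RepWith @Etale a₁ := repWith_etale_of_comp hXO hX (by rw [ha₁]; exact ha') hinc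
  have ha₁s : RepWith @Surjective a₁ := repWith_surjective_of_isSurjectiveMor ha₁e.1 fun y => by
    obtain ⟨v, hv⟩ := map_subInc_mem y
    refine ⟨Points.ofScheme W' v, SpQS.injective_points_of_mono (subInc O) ?_⟩
    rw [← Points.map_comp, ha₁, ← Points.ofPt_eq_map_ofScheme]
    exact hv
  have hf : LocP @Smooth (subInc O ≫ f) := by
    refine locP_of_chart etST_smooth hXO hY (a := a₁) (b := b) (h := i ≫ h) ha₁e ha₁s hb ?_ ?_
    · rw [reassoc_of% ha₁, hcomm, Functor.map_comp, Category.assoc]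
    · exact hW
  have hmem : ∀ t, Points.ofPt α t ∈ O := fun t =>
    ((IsLocalRing.specializes_closedPoint t).map (Points.continuous_ofPt α)).mem_open hO
      ⟨⟨u, huW⟩, by rw [hα, ofPt_comp]; exact hu⟩
  obtain ⟨α₁, hα₁⟩ := exists_subInc_lift α hmem
  obtain ⟨γ, h₁, h₂⟩ := (exists_sq π hπ hsq s α₁ β (by rw [reassoc_of% hα₁, comm])).1
    (isFormallySmoothMor_of_smooth hXO hY hf)
  exact ⟨γ ≫ subInc O, by rw [reassoc_of% h₁, hα₁], by rw [Category.assoc, h₂]⟩

end Groth.Agent.InfLift
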