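import Groth.Agent.InfLift.Scheme
import Groth.Agent.InfLift.Square
import Groth.Agent.AlgSpLib.QCompact
import Groth.Agent.AlgSpLib.EtST
import Groth.Agent.AlgSpLib.LocPMore
import Groth.Prelude.Def_AlgSpInf
import Mathlib.RingTheory.Smooth.Basic

/-!
# Smooth morphisms lift etale locally along thickenings
-/

universe u

open CategoryTheory CategoryTheory.Limits AlgebraicGeometry Opposite

set_option backward.isDefEq.respectTransparency false

namespace Groth.Agent.InfLift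

open _root_.AlgSp Groth.Agent.AlgSpLib

/-- smooth algebras lift along nil ideals -/
theorem exists_lift_of_nil {A R B : Type u} [CommRing A] [CommRing R] [Algebra A R] [Algebra.Smooth A R] [CommRing B]
    [Algebra A B] (J : Ideal B) (hJ : J ≤ nilradical B) (g : R →ₐ[A] B ⧸ J) :
    ∃ v : R →ₐ[A] B, (Ideal.Quotient.mkₐ A J).comp v = g := by
  obtain ⟨n, f, hf, hker⟩ := (inferInstance : Algebra.FinitePresentation A R).out
  choose b hb using fun i => Ideal.Quotient.mk_surjective (g (f (MvPolynomial.X i)))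
  let φ : MvPolynomial (Fin n) A →ₐ[A] B := MvPolynomial.aeval b
  have hφ : (Ideal.Quotient.mkₐ A J).comp φ = g.comp f := MvPolynomial.algHom_ext fun i => by
    simp [φ, hb]
  let J₀ := (RingHom.ker f.toRingHom).map φ.toRingHom
  have hle : J₀ ≤ J := Ideal.map_le_iff_le_comap.2 fun x hx => by
    rw [Ideal.mem_comap, ← Ideal.Quotient.eq_zero_iff_mem]
    show (Ideal.Quotient.mkₐ A J).comp φ x = 0
    rw [hφ, AlgHom.comp_apply, show f x = 0 from hx, map_zero]
  have hnil : IsNilpotent J₀ := (Ideal.FG.isNilpotent_iff_le_nilradical (hker.map _)).2 (hle.trans hJ)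
  let φ₀ : (MvPolynomial (Fin n) A ⧸ RingHom.ker f) →ₐ[A] B ⧸ J₀ :=
    Ideal.Quotient.liftₐ _ ((Ideal.Quotient.mkₐ A J₀).comp φ) (fun x hx =>
      Ideal.Quotient.eq_zero_iff_mem.2 (Ideal.mem_map_of_mem φ.toRingHom hx))
  let g₀ : R →ₐ[A] B ⧸ J₀ := φ₀.comp (Ideal.quotientKerAlgEquivOfSurjective hf).symm.toAlgHom
  obtain ⟨v, hv⟩ := Algebra.FormallySmooth.exists_lift _ hnil g₀
  refine ⟨v, AlgHom.ext fun r => ?_⟩
  obtain ⟨p, rfl⟩ := hf r
  have h1 : g₀ (f p) = Ideal.Quotient.mk J₀ (φ p) := by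
    show φ₀ ((Ideal.quotientKerAlgEquivOfSurjective hf).symm (f p)) = _
    rw [show f p = Ideal.quotientKerAlgEquivOfSurjective hf (Ideal.Quotient.mk _ p) from
      (Ideal.quotientKerAlgEquivOfSurjective_apply hf p).symm, AlgEquiv.symm_apply_apply]
    rfl
  have h2 : Ideal.Quotient.mk J₀ (v (f p)) = Ideal.Quotient.mk J₀ (φ p) := (AlgHom.congr_fun hv (f p)).trans h1
  rw [← AlgHom.comp_apply g f, ← hφ, AlgHom.comp_apply, AlgHom.comp_apply]
  exact Ideal.Quotient.eq.2 (hle (Ideal.Quotient.eq.1 h2))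

variable {S : Scheme.{u}}

/-- etale local lifts of a smooth morphism along a thickening -/
theorem exists_etale_lift_of_thick {X Y T T' : Sp S} (hX : IsAlgSpace X) (hY : IsAlgSpace Y) (hT' : IsAlgSpace T')
    {f : X ⟶ Y} (hf : LocP @Smooth f) {i : T ⟶ T'} (hi : IsThickMor i) {a : T ⟶ X} {b : T' ⟶ Y}
    (w : a ≫ f = i ≫ b) (t' : Points T') :
    ∃ (V : Over S) (e : (yon S).obj V ⟶ T') (ℓ : (yon S).obj V ⟶ X), RepWith @Etale e ∧
      t' ∈ Set.range (Points.ofPt e) ∧ ℓ ≫ f = e ≫ b ∧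
        ∀ (P : Sp S) (p₁ : P ⟶ T) (p₂ : P ⟶ (yon S).obj V), IsPullback p₁ p₂ i e → p₂ ≫ ℓ = p₁ ≫ a := by
  obtain ⟨V₀, π₀, hπ₀, hπ₀s⟩ := hT'.atlas
  obtain ⟨v₀, rfl⟩ := ofPt_surjective hπ₀s t'
  obtain ⟨O, hO, hvO, -⟩ := exists_isAffineOpen_mem_and_subset (U := (⊤ : V₀.left.Opens)) (x := v₀) trivial
  -- the affine base
  let A := Γ(V₀.left, O)
  let A' : Over S := Over.mk (hO.fromSpec ≫ V₀.hom)
  let j₀ : A' ⟶ V₀ := Over.homMk (U := A') hO.fromSpec rfl
  let e₀ := (yon S).map j₀ ≫ π₀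
  have he₀ : RepWith @Etale e₀ := repWith_comp ((repWith_yon_iff j₀).2 (inferInstanceAs (Etale hO.fromSpec))) hπ₀
  obtain ⟨x', hx'⟩ : ∃ x' : A'.left, Points.ofPt e₀ x' = Points.ofPt π₀ v₀ := by
    obtain ⟨x', hx'⟩ : v₀ ∈ Set.range hO.fromSpec := by rw [hO.range_fromSpec]; exact hvO
    exact ⟨x', by rw [ofPt_comp]; exact congrArg _ hx'⟩
  -- the closed part
  obtain ⟨W₀, p₀, q₀, sq₀, hq₀⟩ := exists_repWith hi e₀
  obtain ⟨hcl, hsur⟩ : IsClosedImmersion q₀.left ∧ Surjective q₀.left := hq₀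
  obtain ⟨x₀, hx₀⟩ := hsur.surj x'
  have : IsAffine W₀.left := by
    have : IsAffine A'.left := inferInstanceAs (IsAffine (Spec _))
    exact isAffine_of_isAffineHom q₀.left
  obtain ⟨ψ, hψ⟩ : ∃ ψ : A ⟶ Γ(W₀.left, ⊤), Spec.map ψ = W₀.left.isoSpec.inv ≫ q₀.left :=
    ⟨Spec.preimage _, Spec.map_preimage _⟩
  let I : Ideal A := RingHom.ker ψ.hom
  have hψs : Function.Surjective ψ := by
    have : IsClosedImmersion (Spec.map ψ) := by
      rw [hψ, MorphismProperty.cancel_left_of_respectsIso @IsClosedImmersion]; exact hcl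
    have h := (IsClosedImmersion.isAffine_surjective_of_isAffine (Spec.map ψ)).2
    have e : ψ = (Scheme.ΓSpecIso _).inv ≫ (Spec.map ψ).appTop ≫ (Scheme.ΓSpecIso _).hom := by simp
    rw [e]
    exact ((ConcreteCategory.bijective_of_isIso (Scheme.ΓSpecIso _).hom).2.comp h).comp
      (ConcreteCategory.bijective_of_isIso (Scheme.ΓSpecIso _).inv).2
  have hI : I ≤ nilradical A := fun r hr => by
    rw [mem_nilradical, nilpotent_iff_mem_prime]
    intro P hP
    obtain ⟨z, hz⟩ := hsur.surj (⟨P, hP⟩ : PrimeSpectrum A)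
    obtain ⟨z', hz'⟩ := W₀.left.isoSpec.inv.homeomorph.surjective z
    have h1 : PrimeSpectrum.comap ψ.hom z' = ⟨P, hP⟩ := by
      show Spec.map ψ z' = _
      rw [hψ, ← hz, ← hz']
      rfl
    rw [← show (PrimeSpectrum.comap ψ.hom z').asIdeal = P from congrArg PrimeSpectrum.asIdeal h1]
    show ψ.hom r ∈ z'.asIdeal
    rw [show ψ.hom r = 0 from hr]
    exact zero_mem _
  let κ : CommRingCat.of (A ⧸ I) ≅ Γ(W₀.left, ⊤) :=
    (RingHom.quotientKerEquivOfSurjective hψs).toCommRingCatIso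
  let d : Spec (CommRingCat.of (A ⧸ I)) ⟶ W₀.left := Spec.map κ.inv ≫ W₀.left.isoSpec.inv
  have hd : d ≫ q₀.left = specQuot I := by
    rw [Category.assoc, ← hψ, ← Spec.map_comp]
    refine congrArg Spec.map (CommRingCat.hom_ext (RingHom.ext fun r => ?_))
    exact (RingHom.quotientKerEquivOfSurjective hψs).symm_apply_apply (Ideal.Quotient.mk I r)
  let D : Over S := Over.mk (specQuot I ≫ A'.hom)
  have hdw : d ≫ W₀.hom = D.hom := by rw [← Over.w q₀, reassoc_of% hd]; rfl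
  let dD : D ⟶ W₀ := Over.homMk (U := D) d hdw
  have : IsIso ((Over.forget S).map dD) := inferInstanceAs (IsIso d)
  have : IsIso dD := isIso_of_reflects_iso dD (Over.forget S)
  let jD : D ⟶ A' := Over.homMk (U := D) (V := A') (specQuot I) rfl
  have hjD : dD ≫ q₀ = jD := Over.OverMorphism.ext hd
  obtain ⟨xD, hxD⟩ : ∃ xD : D.left, jD.left xD = x' := by
    obtain ⟨z, hz⟩ := (asIso d).hom.homeomorph.surjective x₀
    exact ⟨z, by rw [← hx₀, ← hz, ← hjD]; rfl⟩
  -- the section into the base change of `X`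
  let X' := pullback f (e₀ ≫ b)
  let s : X' ⟶ (yon S).obj A' := pullback.snd _ _
  have sqX : IsPullback (pullback.fst f (e₀ ≫ b)) s f (e₀ ≫ b) := IsPullback.of_hasPullback _ _
  have hX' : IsAlgSpace X' := isAlgSpace_of_isPullback_space hY hX (IsAlgSpace.yon_obj _) sqX
  have hs : LocP @Smooth s := locP_baseChange etST_smooth hX hY hX' (IsAlgSpace.yon_obj _) sqX hf
  obtain ⟨σ, hσ₁, hσ₂⟩ : ∃ σ : (yon S).obj D ⟶ X', σ ≫ pullback.fst f (e₀ ≫ b) = (yon S).map dD ≫ p₀ ≫ a ∧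
      σ ≫ s = (yon S).map jD := by
    have e : ((yon S).map dD ≫ p₀ ≫ a) ≫ f = (yon S).map jD ≫ e₀ ≫ b := by
      rw [Category.assoc, Category.assoc, w, reassoc_of% sq₀.w, ← Functor.map_comp_assoc, hjD]
    exact ⟨sqX.lift _ _ e, sqX.lift_fst _ _ _, sqX.lift_snd _ _ _⟩
  -- an affine smooth chart through the section
  obtain ⟨U₀, π₁, hπ₁, hπ₁s⟩ := hX'.atlas
  obtain ⟨u₁, hu₁⟩ := ofPt_surjective hπ₁s (Points.ofPt σ xD)
  obtain ⟨Z, hZ, huZ, -⟩ := exists_isAffineOpen_mem_and_subset (U := (⊤ : U₀.left.Opens)) (x := u₁) trivial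
  let U : Over S := Over.mk (hZ.fromSpec ≫ U₀.hom)
  let c : U ⟶ U₀ := Over.homMk (U := U) hZ.fromSpec rfl
  let π := (yon S).map c ≫ π₁
  have hπ : RepWith @Etale π := repWith_comp ((repWith_yon_iff c).2 (inferInstanceAs (Etale hZ.fromSpec))) hπ₁
  obtain ⟨h, hh⟩ := exists_map_eq (π ≫ s)
  have : Smooth h.left := hs π (𝟙 _) h hπ repWith_id' (by rw [Category.comp_id, hh])
  obtain ⟨φ, hφ⟩ : ∃ φ : A ⟶ Γ(U₀.left, Z), Spec.map φ = h.left := ⟨_, Spec.map_preimage _⟩
  have hsm : φ.hom.Smooth := (HasRingHomProperty.Spec_iff (P := @Smooth)).1 (hφ ▸ ‹Smooth h.left›)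
  let : Algebra A Γ(U₀.left, Z) := φ.hom.toAlgebra
  have hR : Algebra.Smooth A Γ(U₀.left, Z) := RingHom.smooth_algebraMap.1 hsm
  -- an etale extension through a fibre point
  obtain ⟨W, wU, wD, sqW, hwD⟩ := exists_repWith hπ σ
  have : Etale wD.left := hwD
  obtain ⟨u, hu⟩ : u₁ ∈ Set.range hZ.fromSpec := by rw [hZ.range_fromSpec]; exact huZ
  obtain ⟨w₀, -, hw₀⟩ := exists_point_of_isPullback sqW (Points.ofScheme U u) (Points.ofScheme D xD) (by
    rw [← Points.ofPt_eq_map_ofScheme, ← Points.ofPt_eq_map_ofScheme, ofPt_comp, ← hu₁]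
    exact congrArg _ hu)
  obtain ⟨w₀, rfl⟩ := (Points.schemeEquiv W).surjective w₀
  have hwx : wD.left w₀ = xD := (Points.schemeEquiv D).injective (by
    show Points.ofScheme _ (wD.left w₀) = _
    rw [← ofScheme_map, Points.ofPt_eq_map_ofScheme]
    exact hw₀)
  obtain ⟨C, _, _, hC, v, hv, y, hy⟩ := exists_etale_ext I wD.left w₀
  let J := I.map (algebraMap A C)
  have hJ : J ≤ nilradical C := Ideal.map_le_iff_le_comap.2 fun r hr => IsNilpotent.map (hI hr) (algebraMap A C)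
  let V : Over S := Over.mk (Spec.map (CommRingCat.ofHom (algebraMap A C)) ≫ A'.hom)
  let g : V ⟶ A' := Over.homMk (U := V) (V := A') (Spec.map (CommRingCat.ofHom (algebraMap A C))) rfl
  let D' : Over S := Over.mk (specQuot J ≫ V.hom)
  let jD' : D' ⟶ V := Over.homMk (U := D') (V := V) (specQuot J) rfl
  let g₀ : Spec (CommRingCat.of (C ⧸ J)) ⟶ Spec (CommRingCat.of (A ⧸ I)) :=
    Spec.map (CommRingCat.ofHom (Ideal.quotientMap J (algebraMap A C) Ideal.le_comap_map))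
  have hg₀ : g₀ ≫ D.hom = D'.hom := by
    show g₀ ≫ specQuot I ≫ A'.hom = specQuot J ≫ Spec.map _ ≫ A'.hom
    rw [← Category.assoc, ← Category.assoc, (isPullback_specQuot (C := C) I).w]
  let gD : D' ⟶ D := Over.homMk (U := D') (V := D) g₀ hg₀
  have hvW : v ≫ W.hom = D'.hom := by rw [← Over.w wD, ← Category.assoc, hv]; exact hg₀
  let vW : D' ⟶ W := Over.homMk (U := D') v hvW
  obtain ⟨m, hm⟩ := exists_map_eq ((yon S).map vW ≫ wU)
  have hvD : vW ≫ wD = gD := Over.OverMorphism.ext hv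
  have hmπ : (yon S).map m ≫ π = (yon S).map gD ≫ σ := by
    rw [hm, Category.assoc, sqW.w, ← Functor.map_comp_assoc, hvD]
  have hmh : m ≫ h = gD ≫ jD := (yon S).map_injective (by
    rw [Functor.map_comp, hh, reassoc_of% hmπ, hσ₂, Functor.map_comp])
  obtain ⟨μ, hμ⟩ : ∃ μ : Γ(U₀.left, Z) ⟶ CommRingCat.of (C ⧸ J), Spec.map μ = m.left := ⟨_, Spec.map_preimage _⟩
  have hμA : φ ≫ μ = CommRingCat.ofHom ((Ideal.Quotient.mk J).comp (algebraMap A C)) := by
    apply Spec.map_injective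
    rw [Spec.map_comp, hμ, hφ]
    refine (congrArg (fun k => k.left) hmh).trans ?_
    show g₀ ≫ specQuot I = _
    rw [CommRingCat.ofHom_comp, Spec.map_comp]
    exact (isPullback_specQuot (C := C) I).w.symm
  let m₀ : Γ(U₀.left, Z) →ₐ[A] C ⧸ J := { μ.hom with commutes' := fun r => congrArg (fun k => k.hom r) hμA }
  obtain ⟨ν, hν⟩ := exists_lift_of_nil J hJ m₀
  have hνU : Spec.map (CommRingCat.ofHom ν.toRingHom) ≫ U.hom = V.hom := by
    rw [← Over.w h, ← hφ, ← Category.assoc, ← Spec.map_comp]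
    exact congrArg (fun k => Spec.map k ≫ A'.hom) (CommRingCat.hom_ext (RingHom.ext fun r => ν.commutes r))
  let n : V ⟶ U := Over.homMk (U := V) (V := U) (Spec.map (CommRingCat.ofHom ν.toRingHom)) hνU
  have hnh : n ≫ h = g := Over.OverMorphism.ext (by
    rw [Over.comp_left, ← hφ]
    exact (Spec.map_comp _ _).symm.trans (congrArg Spec.map (CommRingCat.hom_ext (RingHom.ext fun r => ν.commutes r))))
  have hjn : jD' ≫ n = m := Over.OverMorphism.ext (by
    rw [Over.comp_left, ← hμ]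
    exact (Spec.map_comp _ _).symm.trans (congrArg Spec.map (CommRingCat.hom_ext (RingHom.ext fun r => AlgHom.congr_fun hν r))))
  have hEt : Etale g.left := by
    show Etale (Spec.map (CommRingCat.ofHom (algebraMap A C)))
    rw [HasRingHomProperty.Spec_iff (P := @Etale)]
    exact RingHom.etale_algebraMap.2 hC
  have hℓ : (((yon S).map n ≫ π) ≫ pullback.fst f (e₀ ≫ b)) ≫ f = ((yon S).map g ≫ e₀) ≫ b := by
    rw [Category.assoc, sqX.w, Category.assoc]
    show (yon S).map n ≫ π ≫ s ≫ e₀ ≫ b = (yon S).map g ≫ e₀ ≫ b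
    rw [← reassoc_of% hh, ← Functor.map_comp_assoc, hnh]
  refine ⟨V, (yon S).map g ≫ e₀, ((yon S).map n ≫ π) ≫ pullback.fst f (e₀ ≫ b),
    repWith_comp ((repWith_yon_iff g).2 hEt) he₀, ⟨jD'.left y, ?_⟩, hℓ, fun P p₁ p₂ sqP => ?_⟩
  · rw [ofPt_comp, ← hx', ← hxD]
    refine congrArg _ ?_
    rw [← hwx, ← hy, ← Scheme.Hom.comp_apply v, hv]
    exact congrArg (fun k => k y) (isPullback_specQuot (C := C) I).w
  · have sqD : IsPullback ((yon S).map dD ≫ p₀) ((yon S).map jD) i e₀ := by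
      rw [← hjD, Functor.map_comp]
      exact sq₀.of_iso (asIso ((yon S).map dD)).symm (Iso.refl _) (Iso.refl _) (Iso.refl _) (by simp) (by simp)
        (by simp) (by simp)
    have sqC : IsPullback ((yon S).map gD) ((yon S).map jD') ((yon S).map jD) ((yon S).map g) :=
      isPullback_yon_iff.2 (isPullback_specQuot (C := C) I).flip
    have big : IsPullback ((yon S).map gD ≫ (yon S).map dD ≫ p₀) ((yon S).map jD') i ((yon S).map g ≫ e₀) :=
      sqC.paste_horiz sqD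
    obtain ⟨k, hk₁, hk₂⟩ := big.exists_lift p₁ p₂ sqP.w
    rw [← hk₂, ← hk₁]
    simp only [Category.assoc]
    rw [← Functor.map_comp_assoc (yon S) jD', hjn, reassoc_of% hmπ, hσ₁]

end Groth.Agent.InfLift
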