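import Mathlib.RingTheory.Smooth.Basic
import Mathlib.RingTheory.Flat.FaithfullyFlat.Basic
import Mathlib.RingTheory.Kaehler.Basic
import Mathlib.LinearAlgebra.TensorProduct.RightExactness
import Mathlib.RingTheory.FinitePresentation

/-!
# Infinitesimal lifts into a functor with smooth affine charts glue along flat covers
-/

universe v u

open TensorProduct

namespace Groth.Agent.InfLift

/-- a functor on algebras with a chart that has unique lifts along square-zero surjections -/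
structure ChartFun (A R : Type u) [CommRing A] [CommRing R] [Algebra A R] where
  /-- the points -/
  Pt : ∀ (B : Type u) [CommRing B] [Algebra A B], Type v
  /-- functoriality -/
  map : ∀ {B B' : Type u} [CommRing B] [Algebra A B] [CommRing B'] [Algebra A B'], (B →ₐ[A] B') → Pt B → Pt B'
  /-- the chart -/
  e : ∀ {B : Type u} [CommRing B] [Algebra A B], (R →ₐ[A] B) → Pt B
  map_map : ∀ {B B' B'' : Type u} [CommRing B] [Algebra A B] [CommRing B'] [Algebra A B'] [CommRing B'']
    [Algebra A B''] (φ : B →ₐ[A] B') (ψ : B' →ₐ[A] B'') (g : Pt B), map ψ (map φ g) = map (ψ.comp φ) g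
  map_e : ∀ {B B' : Type u} [CommRing B] [Algebra A B] [CommRing B'] [Algebra A B'] (φ : B →ₐ[A] B')
    (u : R →ₐ[A] B), map φ (e u) = e (φ.comp u)
  lift : ∀ {B B' : Type u} [CommRing B] [Algebra A B] [CommRing B'] [Algebra A B'] (π : B →ₐ[A] B'),
    Function.Surjective π → (∀ x y, π x = 0 → π y = 0 → x * y = 0) → ∀ (g : Pt B) (u : R →ₐ[A] B'),
      map π g = e u → ∃! v : R →ₐ[A] B, π.comp v = u ∧ e v = g

variable {A R : Type u} [CommRing A] [CommRing R] [Algebra A R] (F : ChartFun.{v} A R) (I : Ideal A)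
variable {B B' : Type u} [CommRing B] [Algebra A B] [CommRing B'] [Algebra A B']

/-- reduction modulo the thickening ideal -/
abbrev redHom (B : Type u) [CommRing B] [Algebra A B] : B →ₐ[A] B ⧸ I.map (algebraMap A B) :=
  Ideal.Quotient.mkₐ A _

theorem redHom_eq_iff {x y : B} : redHom I B x = redHom I B y ↔ x - y ∈ I.map (algebraMap A B) :=
  Ideal.Quotient.eq

theorem map_mem_map (φ : B →ₐ[A] B') {x : B} (hx : x ∈ I.map (algebraMap A B)) :
    φ x ∈ I.map (algebraMap A B') := by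
  have h : φ x ∈ (I.map (algebraMap A B)).map φ.toRingHom := Ideal.mem_map_of_mem _ hx
  rwa [Ideal.map_map, AlgHom.toRingHom_eq_coe, φ.comp_algebraMap] at h

/-- the map of reductions -/
noncomputable def redMap (φ : B →ₐ[A] B') : B ⧸ I.map (algebraMap A B) →ₐ[A] B' ⧸ I.map (algebraMap A B') :=
  Ideal.quotientMapₐ _ φ fun _ hx => map_mem_map I φ hx

theorem redMap_comp (φ : B →ₐ[A] B') : (redMap I φ).comp (redHom I B) = (redHom I B').comp φ :=
  AlgHom.ext fun _ => rfl

/-- derivations into the thickening ideal -/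
def derSub (u : R →ₐ[A] B) : Submodule B (R → B) where
  carrier := {δ | (∀ r, δ r ∈ I.map (algebraMap A B)) ∧ (∀ (a : A) r, δ (a • r) = a • δ r) ∧
    (∀ r s, δ (r + s) = δ r + δ s) ∧ ∀ r s, δ (r * s) = u r * δ s + u s * δ r}
  add_mem' := fun {δ ε} hδ hε => ⟨fun r => add_mem (hδ.1 r) (hε.1 r),
    fun a r => by simp only [Pi.add_apply, hδ.2.1, hε.2.1, smul_add],
    fun r s => by simp only [Pi.add_apply, hδ.2.2.1, hε.2.2.1]; abel,
    fun r s => by simp only [Pi.add_apply, hδ.2.2.2, hε.2.2.2]; ring⟩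
  zero_mem' := ⟨fun r => zero_mem _, fun a r => by simp, fun r s => by simp, fun r s => by simp⟩
  smul_mem' := fun c {δ} hδ => ⟨fun r => Ideal.mul_mem_left _ c (hδ.1 r),
    fun a r => by simp only [Pi.smul_apply, smul_eq_mul, hδ.2.1, mul_smul_comm],
    fun r s => by simp only [Pi.smul_apply, smul_eq_mul, hδ.2.2.1]; ring,
    fun r s => by simp only [Pi.smul_apply, smul_eq_mul, hδ.2.2.2]; ring⟩

variable {I} (hI : I ^ 2 = ⊥)
include hI

theorem mul_eq_zero_of_mem {x y : B} (hx : x ∈ I.map (algebraMap A B)) (hy : y ∈ I.map (algebraMap A B)) :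
    x * y = 0 := by
  have := Ideal.mul_mem_mul hx hy
  rwa [← pow_two, ← Ideal.map_pow, hI, Ideal.map_bot, Ideal.mem_bot] at this

omit hI in
theorem der_one {u : R →ₐ[A] B} {δ : R → B} (hδ : δ ∈ derSub I u) : δ 1 = 0 := by
  simpa using hδ.2.2.2 1 1

omit hI in
theorem der_congr {u u' : R →ₐ[A] B} (h : (redHom I B).comp u = (redHom I B).comp u') (hI : I ^ 2 = ⊥)
    {δ : R → B} (hδ : δ ∈ derSub I u) : δ ∈ derSub I u' := by
  refine ⟨hδ.1, hδ.2.1, hδ.2.2.1, fun r s => ?_⟩
  have e : ∀ a b, (u a - u' a) * δ b = 0 := fun a b =>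
    mul_eq_zero_of_mem hI ((redHom_eq_iff I).1 (AlgHom.congr_fun h a)) (hδ.1 b)
  linear_combination hδ.2.2.2 r s + e r s + e s r

/-- moving a map by a derivation -/
def addDer (u : R →ₐ[A] B) (δ : derSub I u) : R →ₐ[A] B where
  toFun r := u r + δ.1 r
  map_one' := by rw [der_one δ.2, map_one, add_zero]
  map_mul' r s := by
    rw [δ.2.2.2.2, map_mul]
    linear_combination -(mul_eq_zero_of_mem hI (δ.2.1 r) (δ.2.1 s))
  map_zero' := by
    have := δ.2.2.2.1 0 0
    simp only [add_zero, left_eq_add] at this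
    rw [this, map_zero, add_zero]
  map_add' r s := by rw [δ.2.2.2.1, map_add]; abel
  commutes' a := by
    show u (algebraMap A R a) + δ.1 (algebraMap A R a) = algebraMap A B a
    rw [Algebra.algebraMap_eq_smul_one (A := R), δ.2.2.1, der_one δ.2, smul_zero, add_zero, map_smul, map_one,
      Algebra.algebraMap_eq_smul_one]

theorem addDer_apply (u : R →ₐ[A] B) (δ : derSub I u) (r : R) : addDer hI u δ r = u r + δ.1 r := rfl

theorem red_addDer (u : R →ₐ[A] B) (δ : derSub I u) : (redHom I B).comp (addDer hI u δ) = (redHom I B).comp u :=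
  AlgHom.ext fun r => (redHom_eq_iff I).2 (by show u r + δ.1 r - u r ∈ _; rw [add_sub_cancel_left]; exact δ.2.1 r)

theorem sub_mem_der {u v : R →ₐ[A] B} (h : (redHom I B).comp v = (redHom I B).comp u) :
    ⇑v - ⇑u ∈ derSub I u := by
  have hm : ∀ r, v r - u r ∈ I.map (algebraMap A B) := fun r => (redHom_eq_iff I).1 (AlgHom.congr_fun h r)
  refine ⟨hm, fun a r => by simp [map_smul, smul_sub], fun r s => by simp [map_add]; ring, fun r s => ?_⟩
  simp only [Pi.sub_apply, map_mul]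
  linear_combination mul_eq_zero_of_mem hI (hm r) (hm s)

/-- the difference of two lifts -/
def derOf {u v : R →ₐ[A] B} (h : (redHom I B).comp v = (redHom I B).comp u) : derSub I u :=
  ⟨⇑v - ⇑u, sub_mem_der hI h⟩

open Classical in
/-- the lift of a point along the chart, congruent to a given map -/
noncomputable def liftAt (u : R →ₐ[A] B) (g : F.Pt B) : R →ₐ[A] B :=
  if h : F.map (redHom I B) g = F.e ((redHom I B).comp u) then
    (F.lift (redHom I B) Ideal.Quotient.mk_surjective (fun _ _ hx hy => mul_eq_zero_of_mem hI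
      (Ideal.Quotient.eq_zero_iff_mem.1 hx) (Ideal.Quotient.eq_zero_iff_mem.1 hy)) g _ h).exists.choose
  else u

theorem liftAt_spec {u : R →ₐ[A] B} {g : F.Pt B} (h : F.map (redHom I B) g = F.e ((redHom I B).comp u)) :
    (redHom I B).comp (liftAt F hI u g) = (redHom I B).comp u ∧ F.e (liftAt F hI u g) = g := by
  rw [liftAt, dif_pos h]
  exact (F.lift (redHom I B) Ideal.Quotient.mk_surjective (fun _ _ hx hy => mul_eq_zero_of_mem hI
    (Ideal.Quotient.eq_zero_iff_mem.1 hx) (Ideal.Quotient.eq_zero_iff_mem.1 hy)) g _ h).exists.choose_spec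

theorem red_liftAt (u : R →ₐ[A] B) (g : F.Pt B) : (redHom I B).comp (liftAt F hI u g) = (redHom I B).comp u := by
  by_cases h : F.map (redHom I B) g = F.e ((redHom I B).comp u)
  · exact (liftAt_spec F hI h).1
  · rw [liftAt, dif_neg h]

theorem liftAt_unique {u v : R →ₐ[A] B} {g : F.Pt B} (h : (redHom I B).comp v = (redHom I B).comp u)
    (hg : F.e v = g) : liftAt F hI u g = v := by
  have h' : F.map (redHom I B) g = F.e ((redHom I B).comp u) := by rw [← hg, F.map_e, h]
  exact (F.lift (redHom I B) Ideal.Quotient.mk_surjective (fun _ _ hx hy => mul_eq_zero_of_mem hI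
    (Ideal.Quotient.eq_zero_iff_mem.1 hx) (Ideal.Quotient.eq_zero_iff_mem.1 hy)) g _ h').unique
    (liftAt_spec F hI h') ⟨h, hg⟩

theorem map_liftAt (φ : B →ₐ[A] B') {u : R →ₐ[A] B} {g : F.Pt B}
    (h : F.map (redHom I B) g = F.e ((redHom I B).comp u)) :
    φ.comp (liftAt F hI u g) = liftAt F hI (φ.comp u) (F.map φ g) := by
  obtain ⟨h₁, h₂⟩ := liftAt_spec F hI h
  refine (liftAt_unique F hI ?_ (by rw [← F.map_e, h₂])).symm
  rw [← AlgHom.comp_assoc, ← AlgHom.comp_assoc, ← redMap_comp, AlgHom.comp_assoc, AlgHom.comp_assoc, h₁]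

omit hI in
/-- triples congruent modulo the thickening ideal -/
def tripleAlg : Subalgebra A (Fin 3 → B) where
  carrier := {f | ∀ i, redHom I B (f i) = redHom I B (f 0)}
  mul_mem' := fun hf hg i => by simp only [Pi.mul_apply, map_mul, hf i, hg i]
  add_mem' := fun hf hg i => by simp only [Pi.add_apply, map_add, hf i, hg i]
  algebraMap_mem' := fun a i => rfl

/-- a change of chart -/
noncomputable def transFun (u u' : R →ₐ[A] B) (δ : derSub I u) : derSub I u' :=
  derOf hI (red_liftAt F hI u' (F.e (addDer hI u δ))) - derOf hI (red_liftAt F hI u' (F.e u))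

variable {u u' : R →ₐ[A] B} (huu : F.e ((redHom I B).comp u) = F.e ((redHom I B).comp u'))
include huu

theorem near_addDer (δ : derSub I u) :
    F.map (redHom I B) (F.e (addDer hI u δ)) = F.e ((redHom I B).comp u') := by
  rw [F.map_e, red_addDer, huu]

theorem liftAt_addDer (δ : derSub I u) (r : R) :
    liftAt F hI u' (F.e (addDer hI u δ)) r = liftAt F hI u' (F.e u) r + (transFun F hI u u' δ).1 r := by
  simp [transFun, derOf]

theorem transFun_linear (c d : B) (δ ε : derSub I u) :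
    transFun F hI u u' (c • δ + d • ε) = c • transFun F hI u u' δ + d • transFun F hI u u' ε := by
  let E := tripleAlg (I := I) (B := B)
  let k : R →ₐ[A] E := (AlgHom.pi ![u, addDer hI u δ, addDer hI u ε]).codRestrict E fun r i => by
    fin_cases i
    · rfl
    · exact AlgHom.congr_fun (red_addDer hI u δ) r
    · exact AlgHom.congr_fun (red_addDer hI u ε) r
  let p (i : Fin 3) : E →ₐ[A] B := (Pi.evalAlgHom A (fun _ : Fin 3 => B) i).comp E.val
  have hp (i : Fin 3) (x : E) : p i x = x.1 i := rfl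
  have hm (x : E) (i : Fin 3) : x.1 i - x.1 0 ∈ I.map (algebraMap A B) := (redHom_eq_iff I).1 (x.2 i)
  let ψ : E →ₐ[A] B := AlgHom.mk
    { toFun := fun x => x.1 0 + c * (x.1 1 - x.1 0) + d * (x.1 2 - x.1 0)
      map_one' := by simp
      map_mul' := fun x y => by
        simp only [Subalgebra.coe_mul, Pi.mul_apply]
        linear_combination (c - c * c) * mul_eq_zero_of_mem hI (hm x 1) (hm y 1) +
          (d - d * d) * mul_eq_zero_of_mem hI (hm x 2) (hm y 2) -
          c * d * mul_eq_zero_of_mem hI (hm x 1) (hm y 2) - c * d * mul_eq_zero_of_mem hI (hm x 2) (hm y 1)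
      map_zero' := by simp
      map_add' := fun x y => by simp only [Subalgebra.coe_add, Pi.add_apply]; ring }
    (fun a => by simp)
  let π : E →ₐ[A] B ⧸ I.map (algebraMap A B) := (redHom I B).comp (p 0)
  have hπi (i : Fin 3) : (redHom I B).comp (p i) = π := AlgHom.ext fun x => x.2 i
  have hπψ : (redHom I B).comp ψ = π := AlgHom.ext fun x => (redHom_eq_iff I).2 (by
    show x.1 0 + c * (x.1 1 - x.1 0) + d * (x.1 2 - x.1 0) - x.1 0 ∈ _
    rw [add_assoc, add_sub_cancel_left]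
    exact add_mem (Ideal.mul_mem_left _ _ (hm x 1)) (Ideal.mul_mem_left _ _ (hm x 2)))
  have hsurj : Function.Surjective π := fun z => by
    obtain ⟨b, rfl⟩ := Ideal.Quotient.mk_surjective z
    exact ⟨⟨fun _ => b, fun _ => rfl⟩, rfl⟩
  have hzero : ∀ x y, π x = 0 → π y = 0 → x * y = 0 := fun x y hx hy => Subtype.ext (funext fun i => by
    rw [← hπi i] at hx hy
    exact mul_eq_zero_of_mem hI (Ideal.Quotient.eq_zero_iff_mem.1 hx) (Ideal.Quotient.eq_zero_iff_mem.1 hy))
  obtain ⟨w, ⟨hw₁, hw₂⟩, -⟩ := F.lift π hsurj hzero (F.e k) ((redHom I B).comp u') (by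
    rw [F.map_e, ← huu]; rfl)
  have key (q : E →ₐ[A] B) (hq : (redHom I B).comp q = π) : liftAt F hI u' (F.e (q.comp k)) = q.comp w :=
    liftAt_unique F hI (by rw [← AlgHom.comp_assoc, hq, hw₁]) (by rw [← F.map_e, hw₂, F.map_e])
  have hψk : ψ.comp k = addDer hI u (c • δ + d • ε) := AlgHom.ext fun r => by
    show u r + c * (addDer hI u δ r - u r) + d * (addDer hI u ε r - u r) = _
    simp [addDer_apply]; ring
  have h0 : liftAt F hI u' (F.e u) = (p 0).comp w := key (p 0) (hπi 0)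
  have h1 : liftAt F hI u' (F.e (addDer hI u δ)) = (p 1).comp w := key (p 1) (hπi 1)
  have h2 : liftAt F hI u' (F.e (addDer hI u ε)) = (p 2).comp w := key (p 2) (hπi 2)
  have h3 := key ψ hπψ
  rw [hψk] at h3
  refine Subtype.ext (funext fun r => ?_)
  simp only [transFun, derOf, h0, h1, h2, h3, Submodule.coe_add, Submodule.coe_smul, AddSubgroupClass.coe_sub,
    Pi.add_apply, Pi.smul_apply, Pi.sub_apply, smul_eq_mul, AlgHom.comp_apply]
  show (w r).1 0 + c * ((w r).1 1 - (w r).1 0) + d * ((w r).1 2 - (w r).1 0) - u' r -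
    ((w r).1 0 - u' r) = _
  simp only [hp]
  ring

/-- the change of chart as a linear map -/
noncomputable def trans : derSub I u →ₗ[B] derSub I u' where
  toFun := transFun F hI u u'
  map_add' δ ε := by simpa using transFun_linear F hI huu 1 1 δ ε
  map_smul' c δ := by simpa using transFun_linear F hI huu c 0 δ δ

omit huu
omit hI

/-- pushing derivations forward -/
def pushDer (φ : B →ₐ[A] B') (u : R →ₐ[A] B) (u' : R →ₐ[A] B') (h : φ.comp u = u') :
    derSub I u →ₗ[A] derSub I u' where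
  toFun δ := ⟨φ ∘ δ.1, fun r => map_mem_map I φ (δ.2.1 r),
    fun a r => by simp only [Function.comp_apply, δ.2.2.1, map_smul],
    fun r s => by simp only [Function.comp_apply, δ.2.2.2.1, map_add],
    fun r s => by subst h; simp only [Function.comp_apply, δ.2.2.2.2, map_add, map_mul, AlgHom.comp_apply]⟩
  map_add' δ ε := Subtype.ext (funext fun r => map_add φ _ _)
  map_smul' a δ := Subtype.ext (funext fun r => map_smul φ a _)

theorem pushDer_apply (φ : B →ₐ[A] B') (u : R →ₐ[A] B) (u' : R →ₐ[A] B') (h : φ.comp u = u') (δ : derSub I u)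
    (r : R) : (pushDer φ u u' h δ).1 r = φ (δ.1 r) := rfl

include hI huu

theorem push_trans (φ : B →ₐ[A] B') {v v' : R →ₐ[A] B'} (hv : φ.comp u = v) (hv' : φ.comp u' = v')
    (h : F.e ((redHom I B').comp v) = F.e ((redHom I B').comp v')) (δ : derSub I u) :
    pushDer φ u' v' hv' (trans F hI huu δ) = trans F hI h (pushDer φ u v hv δ) := by
  subst hv hv'
  have e : φ.comp (addDer hI u δ) = addDer hI (φ.comp u) (pushDer φ u _ rfl δ) :=
    AlgHom.ext fun r => map_add φ _ _
  refine Subtype.ext (funext fun r => ?_)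
  show φ ((liftAt F hI u' (F.e (addDer hI u δ)) r - u' r) - (liftAt F hI u' (F.e u) r - u' r)) =
    (liftAt F hI (φ.comp u') (F.e (addDer hI (φ.comp u) (pushDer φ u _ rfl δ))) r - φ (u' r)) -
      (liftAt F hI (φ.comp u') (F.e (φ.comp u)) r - φ (u' r))
  rw [← e, ← F.map_e, ← F.map_e, ← map_liftAt F hI φ (near_addDer F hI huu δ),
    ← map_liftAt F hI φ (by rw [F.map_e, huu])]
  simp

omit huu
omit hI

section Tensor

variable {D : Type u} [CommRing D] [Algebra A D]

/-- base change of derivations -/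
noncomputable def derTensor (u : R →ₐ[A] B) (w : R →ₐ[A] B ⊗[A] D)
    (hw : (Algebra.TensorProduct.includeLeft : B →ₐ[A] B ⊗[A] D).comp u = w) :
    derSub I u ⊗[A] D →ₗ[A] derSub I w :=
  TensorProduct.lift (LinearMap.mk₂ A
    (fun δ d => ((1 : B) ⊗ₜ[A] d) • pushDer _ u w hw δ)
    (fun δ ε d => by rw [map_add, smul_add])
    (fun a δ d => by rw [map_smul, smul_comm])
    (fun δ d d' => by rw [tmul_add, add_smul])
    (fun a δ d => by rw [tmul_smul, smul_assoc]))

theorem derTensor_tmul (u : R →ₐ[A] B) (w : R →ₐ[A] B ⊗[A] D)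
    (hw : (Algebra.TensorProduct.includeLeft : B →ₐ[A] B ⊗[A] D).comp u = w) (δ : derSub I u) (d : D) :
    derTensor u w hw (δ ⊗ₜ d) = ((1 : B) ⊗ₜ[A] d) • pushDer _ u w hw δ := rfl

theorem derTensor_apply (u : R →ₐ[A] B) (w : R →ₐ[A] B ⊗[A] D)
    (hw : (Algebra.TensorProduct.includeLeft : B →ₐ[A] B ⊗[A] D).comp u = w) (z : derSub I u ⊗[A] D) (r : R) :
    (derTensor u w hw z).1 r =
      LinearMap.rTensor D (((LinearMap.proj r : (R → B) →ₗ[B] B).comp (derSub I u).subtype).restrictScalars A) z := by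
  induction z using TensorProduct.induction_on with
  | zero => simp
  | tmul δ d =>
    rw [derTensor_tmul, LinearMap.rTensor_tmul]
    show ((1 : B) ⊗ₜ[A] d) * (δ.1 r ⊗ₜ[A] (1 : D)) = δ.1 r ⊗ₜ[A] d
    rw [Algebra.TensorProduct.tmul_mul_tmul, one_mul, mul_one]
  | add x y hx hy => simp [map_add, hx, hy]

variable [Algebra.FormallySmooth A R] [Algebra.FiniteType A R]

omit [Algebra A D] [CommRing D] in
/-- finitely many coordinate derivations -/
theorem exists_coord : ∃ (n : ℕ) (x : Fin n → R) (c : Fin n → R → R), ∀ {B : Type u} [CommRing B] [Algebra A B]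
    (J : Ideal A) (u : R →ₐ[A] B),
    (∀ δ ∈ derSub J u, ∀ r, δ r = ∑ i, u (c i r) * δ (x i)) ∧
      ∀ i, ∀ b ∈ J.map (algebraMap A B), (fun r => u (c i r) * b) ∈ derSub J u := by
  have hfin : Module.Finite R Ω[R⁄A] := inferInstance
  obtain ⟨s, hs, hs'⟩ := (Submodule.fg_span_iff_fg_span_finset_subset
    (Set.range (KaehlerDifferential.D A R))).1 (by
      rw [KaehlerDifferential.span_range_derivation]; exact hfin.fg_top)
  obtain ⟨n, y, -, hy⟩ : ∃ (n : ℕ) (y : Fin n → Ω[R⁄A]), Function.Injective y ∧ Set.range y = ↑s :=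
    ⟨_, fun i => (s.equivFin.symm i).1, Subtype.val_injective.comp s.equivFin.symm.injective, by
      ext z
      exact ⟨fun ⟨i, hi⟩ => hi ▸ (s.equivFin.symm i).2, fun hz => ⟨s.equivFin ⟨z, hz⟩, by simp⟩⟩⟩
  choose x hx using fun i => hs (hy ▸ Set.mem_range_self i : y i ∈ (s : Set Ω[R⁄A]))
  have hsurj : Function.Surjective (Fintype.linearCombination R y) := by
    rw [← LinearMap.range_eq_top, Fintype.range_linearCombination, hy, ← hs',
      KaehlerDifferential.span_range_derivation]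
  obtain ⟨σ, hσ⟩ := Module.projective_lifting_property (Fintype.linearCombination R y) LinearMap.id hsurj
  let Dσ : Fin n → Derivation A R R := fun i =>
    ((LinearMap.proj i).comp σ).compDer (KaehlerDifferential.D A R)
  refine ⟨n, x, fun i r => Dσ i r, fun {B} _ _ J u => ⟨fun δ hδ r => ?_, fun i b hb => ?_⟩⟩
  · let := u.toRingHom.toAlgebra
    have : IsScalarTower A R B := .of_algebraMap_eq fun a => (u.commutes a).symm
    have e1 : δ 1 = 0 := der_one hδ
    let dd : Derivation A R B := Derivation.mk'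
      { toFun := δ, map_add' := hδ.2.2.1, map_smul' := hδ.2.1 } fun a b => by
        show δ (a * b) = u a * δ b + u b * δ a
        exact hδ.2.2.2 a b
    have hd : ∀ z, δ z = dd.liftKaehlerDifferential (KaehlerDifferential.D A R z) := fun z =>
      (dd.liftKaehlerDifferential_comp_D z).symm
    have e := congrArg dd.liftKaehlerDifferential (LinearMap.congr_fun hσ (KaehlerDifferential.D A R r))
    rw [LinearMap.comp_apply, Fintype.linearCombination_apply, LinearMap.id_apply, ← hd, map_sum] at e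
    rw [← e]
    refine Finset.sum_congr rfl fun i _ => ?_
    rw [map_smul, ← hx i, ← hd]
    rfl
  · refine ⟨fun r => Ideal.mul_mem_left _ _ hb, fun a r => ?_, fun r s => ?_, fun r s => ?_⟩
    · show u (Dσ i (a • r)) * b = a • (u (Dσ i r) * b)
      rw [(Dσ i).map_smul, map_smul, smul_mul_assoc]
    · show u (Dσ i (r + s)) * b = u (Dσ i r) * b + u (Dσ i s) * b
      rw [map_add, map_add, add_mul]
    · show u (Dσ i (r * s)) * b = u r * (u (Dσ i s) * b) + u s * (u (Dσ i r) * b)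
      rw [(Dσ i).leibniz, smul_eq_mul, smul_eq_mul, map_add, map_mul, map_mul]
      ring

theorem derTensor_injective [Module.Flat A D] (u : R →ₐ[A] B) (w : R →ₐ[A] B ⊗[A] D)
    (hw : (Algebra.TensorProduct.includeLeft : B →ₐ[A] B ⊗[A] D).comp u = w) :
    Function.Injective (derTensor (I := I) u w hw) := by
  obtain ⟨n, x, c, hc⟩ := exists_coord (A := A) (R := R)
  obtain ⟨hc, -⟩ := hc (B := B) I u
  rw [injective_iff_map_eq_zero]
  intro z hz
  let incl := (derSub I u).subtype.restrictScalars A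
  let ev (i : Fin n) := ((LinearMap.proj (x i) : (R → B) →ₗ[B] B).comp (derSub I u).subtype).restrictScalars A
  let ret (i : Fin n) : B →ₗ[A] (R → B) :=
    (LinearMap.pi fun r => LinearMap.mulLeft B (u (c i r))).restrictScalars A
  have hincl : incl = ∑ i, (ret i).comp (ev i) := LinearMap.ext fun δ => funext fun r => by
    simpa [ret, ev, incl, LinearMap.sum_apply, Finset.sum_apply] using hc δ.1 δ.2 r
  apply Module.Flat.rTensor_preserves_injective_linearMap (M := D) incl Subtype.val_injective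
  rw [map_zero, hincl, ← LinearMap.coe_rTensorHom, map_sum]
  simp only [LinearMap.coe_rTensorHom]
  simp only [LinearMap.sum_apply, LinearMap.rTensor_comp, LinearMap.comp_apply]
  refine Finset.sum_eq_zero fun i _ => ?_
  rw [← derTensor_apply u w hw z (x i), hz]
  exact map_zero _

theorem derTensor_surjective (u : R →ₐ[A] B) (w : R →ₐ[A] B ⊗[A] D)
    (hw : (Algebra.TensorProduct.includeLeft : B →ₐ[A] B ⊗[A] D).comp u = w) :
    Function.Surjective (derTensor (I := I) u w hw) := by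
  obtain ⟨n, x, c, hc⟩ := exists_coord (A := A) (R := R)
  obtain ⟨-, hcm⟩ := hc (B := B) I u
  obtain ⟨hcw, -⟩ := hc (B := B ⊗[A] D) I w
  intro δ
  have hJ : ∀ i, δ.1 (x i) ∈ LinearMap.range (LinearMap.rTensor D
      (Submodule.subtype ((I.map (algebraMap A B)).restrictScalars A))) := fun i => by
    rw [← Ideal.map_includeLeft_eq, Submodule.restrictScalars_mem]
    show δ.1 (x i) ∈ Ideal.map (Algebra.TensorProduct.includeLeft : B →ₐ[A] B ⊗[A] D).toRingHom _
    rw [Ideal.map_map, AlgHom.toRingHom_eq_coe, AlgHom.comp_algebraMap]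
    exact δ.2.1 (x i)
  choose z hz using hJ
  let ret (i : Fin n) : ((I.map (algebraMap A B)).restrictScalars A) →ₗ[A] derSub I u :=
    { toFun := fun b => ⟨fun r => u (c i r) * b.1, hcm i b.1 b.2⟩
      map_add' := fun b b' => Subtype.ext (funext fun r => mul_add _ _ _)
      map_smul' := fun a b => Subtype.ext (funext fun r => mul_smul_comm _ _ _) }
  refine ⟨∑ i, LinearMap.rTensor D (ret i) (z i), Subtype.ext (funext fun r => ?_)⟩
  rw [derTensor_apply, map_sum, hcw δ.1 δ.2 r]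
  refine Finset.sum_congr rfl fun i _ => ?_
  rw [← hz i, ← hw]
  generalize z i = zi
  induction zi using TensorProduct.induction_on with
  | zero => simp
  | tmul b d =>
    simp only [LinearMap.rTensor_tmul]
    show (u (c i r) * b.1) ⊗ₜ[A] d = (u (c i r) ⊗ₜ[A] (1 : D)) * (b.1 ⊗ₜ[A] d)
    rw [Algebra.TensorProduct.tmul_mul_tmul, one_mul]
  | add x y hx hy => simp only [map_add, mul_add, hx, hy]

end Tensor

open Algebra.TensorProduct in
/-- a lift over a faithfully flat algebra can be corrected to agree on the two projections -/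
theorem exists_descent_lift [Algebra.FormallySmooth A R] [Algebra.FiniteType A R] (hI : I ^ 2 = ⊥)
    {C : Type u} [CommRing C] [Algebra A C] [Module.FaithfullyFlat A C] (σ : F.Pt (A ⧸ I)) (ũ : R →ₐ[A] C)
    (ι : (A ⧸ I) →ₐ[A] C ⧸ I.map (algebraMap A C)) (hσ : F.e ((redHom I C).comp ũ) = F.map ι σ) :
    ∃ v : R →ₐ[A] C, (redHom I C).comp v = (redHom I C).comp ũ ∧
      F.map (includeLeft : C →ₐ[A] C ⊗[A] C) (F.e v) = F.map (includeRight : C →ₐ[A] C ⊗[A] C) (F.e v) := by
  let p₁ : C →ₐ[A] C ⊗[A] C := includeLeft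
  let p₂ : C →ₐ[A] C ⊗[A] C := includeRight
  let q₁₂ : C ⊗[A] C →ₐ[A] (C ⊗[A] C) ⊗[A] C := includeLeft
  let q₁₃ : C ⊗[A] C →ₐ[A] (C ⊗[A] C) ⊗[A] C := Algebra.TensorProduct.map p₁ (AlgHom.id A C)
  let q₂₃ : C ⊗[A] C →ₐ[A] (C ⊗[A] C) ⊗[A] C := Algebra.TensorProduct.map p₂ (AlgHom.id A C)
  let u₁ := p₁.comp ũ
  let u₂ := p₂.comp ũ
  let w₁ := q₁₂.comp u₁
  let w₂ := q₁₂.comp u₂
  let w₃ := q₁₃.comp u₂
  have h13 : q₁₃.comp u₁ = w₁ := AlgHom.ext fun r => by simp [w₁, u₁, q₁₃, q₁₂, p₁]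
  have h23₁ : q₂₃.comp u₁ = w₂ := AlgHom.ext fun r => by simp [w₂, u₁, u₂, q₂₃, q₁₂, p₁]
  have h23₂ : q₂₃.comp u₂ = w₃ := AlgHom.ext fun r => by
    simp [w₃, u₂, q₂₃, q₁₃, p₁, p₂, Algebra.TensorProduct.one_def]
  have h1 (y : C) : q₁₃ (p₁ y) = q₁₂ (p₁ y) := by simp [q₁₃, q₁₂, p₁]
  have h2 (y : C) : q₂₃ (p₁ y) = q₁₂ (p₂ y) := by simp [q₂₃, q₁₂, p₁, p₂]
  -- all the charts lie over the given point
  have hrel : ∀ {B : Type u} [CommRing B] [Algebra A B] (φ ψ : C →ₐ[A] B),
      F.e ((redHom I B).comp (φ.comp ũ)) = F.e ((redHom I B).comp (ψ.comp ũ)) := by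
    intro B _ _ φ ψ
    rw [← AlgHom.comp_assoc, ← AlgHom.comp_assoc, ← redMap_comp, ← redMap_comp, AlgHom.comp_assoc, AlgHom.comp_assoc,
      ← F.map_e, ← F.map_e _ ((redHom I C).comp ũ), hσ, F.map_map, F.map_map]
    exact congrArg (fun k => F.map k σ) (Ideal.Quotient.algHom_ext A (Subsingleton.elim _ _))
  have r21 : F.e ((redHom I _).comp u₂) = F.e ((redHom I _).comp u₁) := hrel p₂ p₁
  have s21 : F.e ((redHom I _).comp w₂) = F.e ((redHom I _).comp w₁) := by
    simpa only [w₁, w₂, u₁, u₂, AlgHom.comp_assoc] using hrel (q₁₂.comp p₂) (q₁₂.comp p₁)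
  have s32 : F.e ((redHom I _).comp w₃) = F.e ((redHom I _).comp w₂) := by
    simpa only [w₃, w₂, u₂, AlgHom.comp_assoc] using hrel (q₁₃.comp p₂) (q₁₂.comp p₂)
  have s31 : F.e ((redHom I _).comp w₃) = F.e ((redHom I _).comp w₁) := s32.trans s21
  let δ : derSub I u₁ := derOf hI (red_liftAt F hI u₁ (F.e u₂))
  let Δ : derSub I ũ →ₗ[A] derSub I u₁ :=
    pushDer p₁ ũ u₁ rfl - ((trans F hI r21).restrictScalars A).comp (pushDer p₂ ũ u₂ rfl)
  let Φ₁ := derTensor (I := I) (D := C) ũ u₁ rfl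
  let Φ₂ := derTensor (I := I) (D := C) u₁ w₁ rfl
  have hcomp : ∀ z, Φ₂ (LinearMap.rTensor C Δ z) =
      pushDer q₁₃ u₁ w₁ h13 (Φ₁ z) - trans F hI s21 (pushDer q₂₃ u₁ w₂ h23₁ (Φ₁ z)) := by
    intro z
    induction z using TensorProduct.induction_on with
    | zero => rw [map_zero, map_zero, map_zero, map_zero, map_zero, map_zero]; exact (sub_zero _).symm
    | tmul y c =>
      rw [LinearMap.rTensor_tmul]
      simp only [Φ₁, Φ₂, derTensor_tmul, Δ, LinearMap.sub_apply, LinearMap.comp_apply,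
        LinearMap.coe_restrictScalars, map_sub, smul_sub]
      rw [push_trans F hI r21 _ (v := w₂) (v' := w₁) rfl rfl s21]
      have e₁ : pushDer q₁₃ u₁ w₁ h13 (((1 : C) ⊗ₜ[A] c) • pushDer includeLeft ũ u₁ rfl y) =
          ((1 : C ⊗[A] C) ⊗ₜ[A] c) • pushDer includeLeft u₁ w₁ rfl (pushDer p₁ ũ u₁ rfl y) :=
        Subtype.ext (funext fun r => by
          show q₁₃ (((1 : C) ⊗ₜ[A] c) * p₁ (y.1 r)) = ((1 : C ⊗[A] C) ⊗ₜ[A] c) * q₁₂ (p₁ (y.1 r))
          rw [map_mul, h1]; simp [q₁₃, p₁, Algebra.TensorProduct.one_def])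
      have e₂ : pushDer q₂₃ u₁ w₂ h23₁ (((1 : C) ⊗ₜ[A] c) • pushDer includeLeft ũ u₁ rfl y) =
          ((1 : C ⊗[A] C) ⊗ₜ[A] c) • pushDer includeLeft u₂ w₂ rfl (pushDer p₂ ũ u₂ rfl y) :=
        Subtype.ext (funext fun r => by
          show q₂₃ (((1 : C) ⊗ₜ[A] c) * p₁ (y.1 r)) = ((1 : C ⊗[A] C) ⊗ₜ[A] c) * q₁₂ (p₂ (y.1 r))
          rw [map_mul, h2]; simp [q₂₃, p₂, Algebra.TensorProduct.one_def])
      rw [e₁, e₂, map_smul]
    | add x y hx hy => simp only [map_add, hx, hy]; abel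
  obtain ⟨x, hx⟩ := derTensor_surjective ũ u₁ rfl δ
  have hnear₂ : F.map (redHom I _) (F.e u₂) = F.e ((redHom I _).comp u₁) := by rw [F.map_e, r21]
  have hcocycle : pushDer q₁₃ u₁ w₁ h13 δ - trans F hI s21 (pushDer q₂₃ u₁ w₂ h23₁ δ) =
      pushDer q₁₂ u₁ w₁ rfl δ := by
    have a1 : q₁₃.comp (liftAt F hI u₁ (F.e u₂)) = liftAt F hI w₁ (F.e w₃) := by
      rw [map_liftAt F hI _ hnear₂, h13, F.map_e]
    have a2 : q₂₃.comp (liftAt F hI u₁ (F.e u₂)) = liftAt F hI w₂ (F.e w₃) := by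
      rw [map_liftAt F hI _ hnear₂, h23₁, F.map_e, h23₂]
    have a3 : q₁₂.comp (liftAt F hI u₁ (F.e u₂)) = liftAt F hI w₁ (F.e w₂) := by
      rw [map_liftAt F hI _ hnear₂, F.map_e]
    have a4 : addDer hI w₂ (pushDer q₂₃ u₁ w₂ h23₁ δ) = liftAt F hI w₂ (F.e w₃) := AlgHom.ext fun r => by
      rw [addDer_apply, pushDer_apply, ← a2]
      show w₂ r + q₂₃ (_ - _) = _
      rw [map_sub, ← h23₁]; simp
    have a5 : F.e (addDer hI w₂ (pushDer q₂₃ u₁ w₂ h23₁ δ)) = F.e w₃ := by
      rw [a4, (liftAt_spec F hI (by rw [F.map_e, s32])).2]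
    refine Subtype.ext (funext fun r => ?_)
    have t := liftAt_addDer F hI s21 (pushDer q₂₃ u₁ w₂ h23₁ δ) r
    rw [a5, ← a1, ← a3] at t
    show q₁₃ (liftAt F hI u₁ (F.e u₂) r - u₁ r) - (transFun F hI w₂ w₁ _).1 r =
      q₁₂ (liftAt F hI u₁ (F.e u₂) r - u₁ r)
    rw [map_sub, map_sub, show q₁₃ (u₁ r) = q₁₂ (u₁ r) from AlgHom.congr_fun h13 r]
    simp only [AlgHom.comp_apply] at t
    linear_combination t
  have hrange : δ ∈ LinearMap.range Δ := by
    have hz : LinearMap.rTensor C Δ x = δ ⊗ₜ[A] (1 : C) := derTensor_injective u₁ w₁ rfl (by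
      rw [hcomp, show Φ₁ x = δ from hx, hcocycle, derTensor_tmul]
      rw [← Algebra.TensorProduct.one_def, one_smul])
    rw [← Submodule.Quotient.mk_eq_zero (LinearMap.range Δ), ← Module.FaithfullyFlat.one_tmul_eq_zero_iff A (derSub I u₁ ⧸ LinearMap.range Δ) (A := C)]
    have h0 : LinearMap.rTensor C (LinearMap.range Δ).mkQ (δ ⊗ₜ[A] (1 : C)) = 0 := by
      rw [← hz, ← LinearMap.comp_apply, ← LinearMap.rTensor_comp, LinearMap.range_mkQ_comp]
      simp
    have := congrArg (TensorProduct.comm A _ C) h0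
    simpa using this
  obtain ⟨y, hy⟩ := hrange
  refine ⟨addDer hI ũ y, red_addDer hI ũ y, ?_⟩
  rw [F.map_e, F.map_e]
  have e₁ : p₁.comp (addDer hI ũ y) = addDer hI u₁ (pushDer p₁ ũ u₁ rfl y) := AlgHom.ext fun r => map_add p₁ _ _
  have e₂ : p₂.comp (addDer hI ũ y) = addDer hI u₂ (pushDer p₂ ũ u₂ rfl y) := AlgHom.ext fun r => map_add p₂ _ _
  show F.e (p₁.comp _) = F.e (p₂.comp _)
  rw [e₁, e₂, ← (liftAt_spec F hI (near_addDer F hI r21 (pushDer p₂ ũ u₂ rfl y))).2]
  refine congrArg F.e (AlgHom.ext fun r => ?_)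
  rw [liftAt_addDer F hI r21, addDer_apply]
  have hy' := congrFun (congrArg Subtype.val hy) r
  change (pushDer p₁ ũ u₁ rfl y).1 r - (transFun F hI u₂ u₁ (pushDer p₂ ũ u₂ rfl y)).1 r =
    liftAt F hI u₁ (F.e u₂) r - u₁ r at hy'
  linear_combination hy'

end Groth.Agent.InfLift
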