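import Groth.Prelude.Def_AlgSpInf
import Groth.Agent.AlgSpLib.Basic
import Groth.Agent.InfLift.SpaceThick
import Groth.Agent.ThickSys.Sys
import Groth.Agent.ThickSys.Sheaf

/-!
Square zero closed immersions of schemes as first order thickenings of spaces.
-/

set_option autoImplicit false
universe u
open CategoryTheory CategoryTheory.Limits AlgebraicGeometry
open AlgSp

namespace Groth.Agent.InfLift

set_option backward.isDefEq.respectTransparency false

open Groth.Agent.AlgSpLib

variable {S : Scheme.{u}}

/-- a closed immersion with square zero kernel is a first order thickening of representable spaces -/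
theorem isFOThickMor_yon_of_ker {W V : Over S} (v : W ⟶ V) [IsClosedImmersion v.left]
    (h : v.left.ker * v.left.ker = ⊥) : IsFOThickMor ((yon S).map v) := by
  have hs : Surjective v.left := ⟨fun x => by
    have h2 := congrArg (fun I : V.left.IdealSheafData => (I.support : Set ↥V.left)) h
    simp only [Scheme.IdealSheafData.support_mul, Scheme.IdealSheafData.support_bot, sup_idem] at h2
    have : x ∈ closure (Set.range v.left) := by
      rw [← Scheme.Hom.support_ker, h2]
      trivial
    rwa [v.left.isClosedEmbedding.isClosed_range.closure_eq] at this⟩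
  refine ⟨(repWith_yon_iff (P := thick) v).2 ⟨‹_›, hs⟩, fun V' W' b fst snd _ _ sq => ?_⟩
  obtain ⟨β, rfl⟩ := exists_map_eq b
  obtain ⟨f', rfl⟩ := exists_map_eq fst
  have sq' := (isPullback_yon_iff.1 sq).flip
  show snd.left.ker * snd.left.ker = ⊥
  rw [Groth.Agent.ThickSys.ker_of_isPullback sq', ← pow_two, ← Groth.Agent.ThickSys.comap_pow, pow_two, h,
    Scheme.IdealSheafData.comap_bot]

/-- the closed subscheme of a square zero ideal -/
theorem isFOThickMor_subscheme {V : Over S} (I : V.left.IdealSheafData) (h : I * I = ⊥) :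
    IsFOThickMor ((yon S).map (Over.homMk I.subschemeι rfl : Over.mk (I.subschemeι ≫ V.hom) ⟶ V)) := by
  have : IsClosedImmersion (Over.homMk I.subschemeι rfl : Over.mk (I.subschemeι ≫ V.hom) ⟶ V).left :=
    inferInstanceAs (IsClosedImmersion I.subschemeι)
  refine isFOThickMor_yon_of_ker _ ?_
  rw [show (Over.homMk I.subschemeι rfl : Over.mk (I.subschemeι ≫ V.hom) ⟶ V).left.ker = I from I.ker_subschemeι]
  exact h

/-- the closed immersion of an infinitesimal lifting square has square zero kernel -/
theorem ker_mul_ker_specQuot {A : Type u} [CommRing A] (I : Ideal A) (hI : I ^ 2 = ⊥) :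
    (Spec.map (CommRingCat.ofHom (Ideal.Quotient.mk I))).ker *
      (Spec.map (CommRingCat.ofHom (Ideal.Quotient.mk I))).ker = ⊥ := by
  refine Scheme.IdealSheafData.ext_of_isAffine ?_
  rw [Scheme.IdealSheafData.ideal_mul, Pi.mul_apply, Scheme.Hom.ker_apply]
  refine (Ideal.mul_le.2 fun a ha b hb => ?_ : _ ≤ _).antisymm bot_le
  let e := (Scheme.ΓSpecIso (CommRingCat.of A)).commRingCatIsoToRingEquiv
  have key : ∀ x, (Spec.map (CommRingCat.ofHom (Ideal.Quotient.mk I))).appTop.hom x = 0 → e x ∈ I := fun x hx => by
    have hn := congr($(Scheme.ΓSpecIso_naturality (CommRingCat.ofHom (Ideal.Quotient.mk I))).hom x)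
    simp only [CommRingCat.hom_comp, RingHom.comp_apply] at hn
    rw [hx, map_zero] at hn
    exact Ideal.Quotient.eq_zero_iff_mem.1 hn.symm
  have h0 : e (a * b) = 0 := by
    have : e a * e b ∈ I ^ 2 := pow_two I ▸ Ideal.mul_mem_mul (key a ha) (key b hb)
    rw [hI] at this
    rw [map_mul]
    exact this
  exact (map_eq_zero_iff e e.injective).1 h0

end Groth.Agent.InfLift
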